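import Cfsg.Agent.CycG.Comb

/-!
# Combinatorics (owner: helper78)

Integer matrices with Gram matrix `1 + e J` and nonzero rows, `e ≤ 3`.
-/

set_option autoImplicit false

namespace Cfsg.Agent.AbFree

open Finset

variable {ι ρ : Type*} [Fintype ι] [Fintype ρ] [DecidableEq ι] [DecidableEq ρ]

theorem comb_le {e : ℕ} (he : 1 ≤ e) (x : ρ → ι → ℤ)
    (hG : ∀ i j, ∑ r, x r i * x r j = e + if i = j then 1 else 0)
    (hnz : ∀ r, ∃ i, x r i ≠ 0) (hs : 1 ≤ Fintype.card ι) :
    Fintype.card ρ ≤ e + Fintype.card ι := by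
  by_contra hcon
  push Not at hcon
  obtain ⟨r0⟩ : Nonempty ρ := Fintype.card_pos_iff.1 (by omega)
  obtain ⟨-, -, -, -, -, -, h, -⟩ := CycG.comb he x hG hnz hcon.le hs r0
  omega

theorem comb_eq {e : ℕ} (he : 1 ≤ e) (he3 : e ≤ 3) (x : ρ → ι → ℤ)
    (hG : ∀ i j, ∑ r, x r i * x r j = e + if i = j then 1 else 0)
    (hnz : ∀ r, ∃ i, x r i ≠ 0) (hk : Fintype.card ι + 1 ≤ Fintype.card ρ)
    (hs : Fintype.card ι = 1 ∨ e + 2 ≤ Fintype.card ι) :
    Fintype.card ρ = e + Fintype.card ι := by
  classical
  have hsq1 : ∀ z : ℤ, z ≠ 0 → 1 ≤ z ^ 2 := fun z hz => by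
    have := sq_pos_of_ne_zero hz
    linarith [Int.add_one_le_iff.2 this]
  have hdiag : ∀ i, ∑ r, x r i ^ 2 = (e : ℤ) + 1 := fun i => by
    have := hG i i
    rw [if_pos rfl] at this
    rw [← this]
    exact sum_congr rfl fun r _ => by ring
  rcases hs with h1 | h2
  · -- one column
    obtain ⟨i0, hi0⟩ := Fintype.card_eq_one_iff.1 h1
    have hx : ∀ r, x r i0 ≠ 0 := fun r => by
      obtain ⟨i, hi⟩ := hnz r
      rwa [hi0 i] at hi
    have hall : ∀ r, x r i0 ^ 2 = 1 := by
      intro r
      by_contra hne
      have h3 : 4 ≤ x r i0 ^ 2 := by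
        have h4 := hsq1 _ (hx r)
        have h5 : x r i0 ≠ 1 := fun h => hne (by rw [h]; norm_num)
        have h6 : x r i0 ≠ -1 := fun h => hne (by rw [h]; norm_num)
        have h7 := hx r
        rcases lt_or_gt_of_ne h7 with h | h
        · have : x r i0 ≤ -2 := by omega
          nlinarith
        · have : 2 ≤ x r i0 := by omega
          nlinarith
      obtain ⟨r', hr'⟩ : ∃ r', r' ≠ r := by
        apply Fintype.exists_ne_of_one_lt_card
        omega
      have h8 := hdiag i0
      have h9 : x r i0 ^ 2 + x r' i0 ^ 2 ≤ ∑ r, x r i0 ^ 2 := by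
        rw [← sum_pair (f := fun r => x r i0 ^ 2) hr'.symm]
        exact sum_le_sum_of_subset_of_nonneg (subset_univ _) fun i _ _ => sq_nonneg _
      have h10 := hsq1 _ (hx r')
      have h11 : (e : ℤ) ≤ 3 := by exact_mod_cast he3
      linarith
    have h12 := hdiag i0
    rw [sum_congr rfl fun r _ => hall r, sum_const, card_univ, nsmul_eq_mul, mul_one] at h12
    rw [h1]
    exact_mod_cast h12
  · -- at least `e + 2` columns
    have hex : ∀ i : ι, ∃ j, j ≠ i := fun i =>
      Fintype.exists_ne_of_one_lt_card (by omega) i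
    have hent : ∀ r i, x r i ≠ 0 → x r i ^ 2 = 1 := by
      intro r i hri
      by_contra hne
      have h3 : 4 ≤ x r i ^ 2 := by
        have h5 : x r i ≠ 1 := fun h => hne (by rw [h]; norm_num)
        have h6 : x r i ≠ -1 := fun h => hne (by rw [h]; norm_num)
        rcases lt_or_gt_of_ne hri with h | h
        · have : x r i ≤ -2 := by omega
          nlinarith
        · have : 2 ≤ x r i := by omega
          nlinarith
      have h4 := hdiag i
      have h5 := add_sum_erase univ (fun r => x r i ^ 2) (mem_univ r)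
      rw [h4] at h5
      have h6 : 0 ≤ ∑ j ∈ univ.erase r, x j i ^ 2 := sum_nonneg fun j _ => sq_nonneg _
      have h7 : (e : ℤ) ≤ 3 := by exact_mod_cast he3
      have h8 : ∑ j ∈ univ.erase r, x j i ^ 2 = 0 := by linarith
      have h9 : (e : ℤ) = 3 := by linarith
      have h10 : x r i ^ 2 = 4 := by linarith
      obtain ⟨j, hj⟩ := hex i
      have h11 := hG i j
      rw [if_neg hj.symm, add_zero, ← add_sum_erase univ _ (mem_univ r)] at h11
      have h12 : ∑ s ∈ univ.erase r, x s i * x s j = 0 := by
        refine sum_eq_zero fun s hs => ?_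
        have h13 := (sum_eq_zero_iff_of_nonneg (fun j _ => sq_nonneg (x j i))).1 h8 s hs
        rw [pow_eq_zero_iff (two_ne_zero)] at h13
        rw [h13, zero_mul]
      rw [h12, add_zero, h9] at h11
      have h14 : x r i = 2 ∨ x r i = -2 := by
        have : (x r i - 2) * (x r i + 2) = 0 := by linarith [h10, sq (x r i)]
        rcases mul_eq_zero.1 this with h | h
        · left; linarith
        · right; linarith
      rcases h14 with h | h <;> rw [h] at h11 <;> omega
    obtain ⟨T, hT⟩ : ∃ T : ι → Finset ρ, T = fun i => univ.filter (fun r => x r i ≠ 0) := ⟨_, rfl⟩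
    have hmT : ∀ r i, r ∈ T i ↔ x r i ≠ 0 := by
      intro r i; rw [hT]; simp
    have hcardT : ∀ i, (T i).card = e + 1 := by
      intro i
      have h3 := hdiag i
      have h4 : ∑ r, x r i ^ 2 = ((T i).card : ℤ) := by
        rw [hT]
        simp only
        rw [card_filter]
        push_cast
        refine sum_congr rfl fun r _ => ?_
        by_cases h : x r i = 0
        · simp [h]
        · rw [hent r i h, if_pos h]
      rw [h4] at h3
      exact_mod_cast h3
    have hinter : ∀ i j, i ≠ j → (T i ∩ T j).card = e := by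
      intro i j hij
      have h3 := hG i j
      rw [if_neg hij, add_zero] at h3
      have h4 : ∑ r, x r i * x r j = ∑ r ∈ T i ∩ T j, x r i * x r j := by
        symm
        refine sum_subset (subset_univ _) fun r _ hr => ?_
        rw [mem_inter, hmT, hmT, not_and_or, not_not, not_not] at hr
        rcases hr with h | h <;> rw [h] <;> ring
      have hpm : ∀ r ∈ T i ∩ T j, x r i * x r j = 1 ∨ x r i * x r j = -1 := by
        intro r hr
        rw [mem_inter, hmT, hmT] at hr
        have h5 : (x r i * x r j) ^ 2 = 1 := by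
          rw [mul_pow, hent r i hr.1, hent r j hr.2]; norm_num
        have h6 : (x r i * x r j - 1) * (x r i * x r j + 1) = 0 := by linarith [h5, sq (x r i * x r j)]
        rcases mul_eq_zero.1 h6 with h | h
        · left; linarith
        · right; linarith
      have h5 : (e : ℤ) ≤ (T i ∩ T j).card := by
        rw [← h3, h4]
        have : ((T i ∩ T j).card : ℤ) = ∑ r ∈ T i ∩ T j, (1 : ℤ) := by simp
        rw [this]
        refine sum_le_sum fun r hr => ?_
        rcases hpm r hr with h | h <;> rw [h]; norm_num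
      have h6 : (2 : ℤ) ∣ (e : ℤ) - (T i ∩ T j).card := by
        rw [← h3, h4]
        have : ((T i ∩ T j).card : ℤ) = ∑ r ∈ T i ∩ T j, (1 : ℤ) := by simp
        rw [this, ← sum_sub_distrib]
        refine dvd_sum fun r hr => ?_
        rcases hpm r hr with h | h <;> rw [h] <;> norm_num
      have h7 : (T i ∩ T j).card ≤ e + 1 := by
        rw [← hcardT i]; exact card_le_card inter_subset_left
      omega
    obtain ⟨i1⟩ : Nonempty ι := Fintype.card_pos_iff.1 (by omega)
    obtain ⟨i2, hi2⟩ := hex i1
    obtain ⟨I, hI⟩ : ∃ I, I = T i1 ∩ T i2 := ⟨_, rfl⟩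
    have hIc : I.card = e := by rw [hI]; exact hinter i1 i2 hi2.symm
    have hsub : ∀ i, I ⊆ T i := by
      by_contra hcon
      push Not at hcon
      obtain ⟨i3, hi3⟩ := hcon
      have h31 : i3 ≠ i1 := by rintro rfl; exact hi3 (by rw [hI]; exact inter_subset_left)
      have h32 : i3 ≠ i2 := by rintro rfl; exact hi3 (by rw [hI]; exact inter_subset_right)
      obtain ⟨W, hW⟩ : ∃ W, W = T i1 ∪ T i2 := ⟨_, rfl⟩
      have hWc : W.card = e + 2 := by
        have := card_union_add_card_inter (T i1) (T i2)
        rw [← hW, hinter i1 i2 hi2.symm, hcardT, hcardT] at this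
        omega
      have h3I : (T i3 ∩ I).card < e := by
        rw [← hIc]
        apply card_lt_card
        refine ⟨inter_subset_right, fun h => hi3 fun r hr => ?_⟩
        exact (mem_inter.1 (h hr)).1
      have h3W : T i3 ⊆ W := by
        have h4 := card_union_add_card_inter (T i3 ∩ T i1) (T i3 ∩ T i2)
        have h5 : T i3 ∩ T i1 ∩ (T i3 ∩ T i2) = T i3 ∩ I := by
          rw [hI]; ext r; simp only [mem_inter]; tauto
        have h6 : T i3 ∩ T i1 ∪ T i3 ∩ T i2 = T i3 ∩ W := by
          rw [hW, inter_union_distrib_left]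
        rw [h5, h6, hinter i3 i1 h31, hinter i3 i2 h32] at h4
        have h7 : T i3 ∩ W = T i3 := eq_of_subset_of_card_le inter_subset_left (by
          rw [hcardT]; omega)
        rw [← h7]; exact inter_subset_right
      obtain ⟨r, hr⟩ : ∃ r, r ∉ W := by
        by_contra hcon
        push Not at hcon
        have : Fintype.card ρ ≤ W.card := by
          rw [← card_univ]; exact card_le_card fun r _ => hcon r
        omega
      obtain ⟨i4, hi4⟩ := hnz r
      have hr4 : r ∈ T i4 := (hmT r i4).2 hi4
      have h41 : i4 ≠ i1 := by rintro rfl; exact hr (by rw [hW]; exact mem_union_left _ hr4)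
      have h42 : i4 ≠ i2 := by rintro rfl; exact hr (by rw [hW]; exact mem_union_right _ hr4)
      have h43 : i4 ≠ i3 := by rintro rfl; exact hr (h3W hr4)
      have h4W : (T i4 ∩ W).card ≤ e := by
        have h5 : (T i4 ∩ W).card < (T i4).card := by
          apply card_lt_card
          refine ⟨inter_subset_left, fun h => hr ?_⟩
          exact (mem_inter.1 (h hr4)).2
        rw [hcardT] at h5
        omega
      have h5 : T i4 ∩ T i1 = T i4 ∩ W := eq_of_subset_of_card_le
        (inter_subset_inter_left (by rw [hW]; exact subset_union_left))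
        (by rw [hinter i4 i1 h41]; exact h4W)
      have h6 : T i4 ∩ T i2 = T i4 ∩ W := eq_of_subset_of_card_le
        (inter_subset_inter_left (by rw [hW]; exact subset_union_right))
        (by rw [hinter i4 i2 h42]; exact h4W)
      have h7 : T i4 ∩ W ⊆ I := by
        intro s hs
        rw [hI, mem_inter]
        refine ⟨?_, ?_⟩
        · rw [← h5] at hs; exact (mem_inter.1 hs).2
        · rw [← h6] at hs; exact (mem_inter.1 hs).2
      have h8 : T i4 ∩ T i3 ⊆ I := fun s hs => h7 (by
        rw [mem_inter] at hs ⊢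
        exact ⟨hs.1, h3W hs.2⟩)
      have h9 : T i4 ∩ T i3 = I := eq_of_subset_of_card_le h8 (by
        rw [hIc, hinter i4 i3 h43])
      apply hi3
      rw [← h9]; exact inter_subset_right
    have hone : ∀ i, (T i \ I).card = 1 := by
      intro i
      rw [card_sdiff_of_subset (hsub i), hcardT, hIc]; omega
    have hdisj : ∀ i j, i ≠ j → Disjoint (T i \ I) (T j \ I) := by
      intro i j hij
      have h3 : T i ∩ T j = I := (eq_of_subset_of_card_le
        (subset_inter (hsub i) (hsub j)) (by rw [hinter i j hij, hIc])).symm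
      rw [disjoint_left]
      intro r hr hr'
      rw [mem_sdiff] at hr hr'
      apply hr.2
      rw [← h3, mem_inter]
      exact ⟨hr.1, hr'.1⟩
    have huniv : (univ : Finset ρ) = I ∪ univ.biUnion (fun i => T i \ I) := by
      symm
      rw [eq_univ_iff_forall]
      intro r
      rw [mem_union, mem_biUnion]
      by_cases hr : r ∈ I
      · exact Or.inl hr
      · obtain ⟨i, hi⟩ := hnz r
        exact Or.inr ⟨i, mem_univ i, mem_sdiff.2 ⟨(hmT r i).2 hi, hr⟩⟩
    rw [← card_univ, huniv, card_union_of_disjoint, card_biUnion (fun i _ j _ hij => hdisj i j hij),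
      sum_congr rfl fun i _ => hone i, sum_const, card_univ, smul_eq_mul, mul_one, hIc]
    rw [disjoint_biUnion_right]
    intro i _
    exact disjoint_sdiff

end Cfsg.Agent.AbFree
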