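import Cfsg.Agent.AbFree.Sign2
import Cfsg.Agent.AbFree.Comb

/-!
# The integral matrix of a block with free inertial action (owner: helper78)
-/

set_option autoImplicit false
set_option linter.style.haveILetI false
set_option linter.unusedSectionVars false

namespace Cfsg.Agent.AbFree

open scoped ComplexConjugate
open Cfsg Cfsg.Agent.CharBase

universe u v w

section reps

theorem exists_reps {Y : Type u} [Finite Y] {E : Type v} [Group E] [Finite E] (a : E → Y → Y)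
    (hmul : ∀ g h y, a (g * h) y = a g (a h y)) (hone : ∀ y, a 1 y = y)
    (hfree : ∀ g y, a g y = y → g = 1) :
    ∃ R : Set Y, (∀ y, ∃ r ∈ R, ∃ g, y = a g r) ∧
      (∀ r ∈ R, ∀ r' ∈ R, ∀ g, a g r = r' → r = r') ∧ Nat.card R * Nat.card E = Nat.card Y := by
  classical
  letI : MulAction E Y := { smul := a, one_smul := hone, mul_smul := hmul }
  have hsm : ∀ (g : E) (y : Y), g • y = a g y := fun _ _ => rfl
  obtain ⟨R, hR⟩ : ∃ R : Set Y, R = Set.range
    (fun q : MulAction.orbitRel.Quotient E Y => Quotient.out q) := ⟨_, rfl⟩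
  have h1 : ∀ y, ∃ r ∈ R, ∃ g, y = a g r := by
    intro y
    refine ⟨Quotient.out (Quotient.mk (MulAction.orbitRel E Y) y), by rw [hR]; exact ⟨_, rfl⟩, ?_⟩
    have h2 := Quotient.mk_out (s := MulAction.orbitRel E Y) y
    have h3 : (Quotient.out (Quotient.mk (MulAction.orbitRel E Y) y)) ∈ MulAction.orbit E y := h2
    obtain ⟨g, hg⟩ := h3
    refine ⟨g⁻¹, ?_⟩
    rw [← hg, ← hsm]
    change y = g⁻¹ • (g • y)
    rw [inv_smul_smul]
  have h2 : ∀ r ∈ R, ∀ r' ∈ R, ∀ g, a g r = r' → r = r' := by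
    intro r hr r' hr' g hg
    rw [hR] at hr hr'
    obtain ⟨q, rfl⟩ := hr
    obtain ⟨q', rfl⟩ := hr'
    have h3 : q = q' := by
      rw [← Quotient.out_eq q, ← Quotient.out_eq q']
      apply Quotient.sound
      change Quotient.out q ∈ MulAction.orbit E (Quotient.out q')
      have hg' : g • Quotient.out q = Quotient.out q' := hg
      exact ⟨g⁻¹, by change g⁻¹ • Quotient.out q' = Quotient.out q; rw [← hg', inv_smul_smul]⟩
    rw [h3]
  refine ⟨R, h1, h2, ?_⟩
  rw [← Nat.card_prod]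
  refine Nat.card_congr (Equiv.ofBijective (fun x : R × E => a x.2 x.1) ⟨?_, ?_⟩)
  · rintro ⟨⟨r, hr⟩, g⟩ ⟨⟨r', hr'⟩, g'⟩ h
    have h3 : a g r = a g' r' := h
    have h4 : a (g'⁻¹ * g) r = r' := by
      rw [hmul, h3, ← hmul, inv_mul_cancel, hone]
    have h5 := h2 r hr r' hr' _ h4
    subst h5
    have h6 := hfree _ _ h4
    have h7 : g = g' := by
      rw [inv_mul_eq_one] at h6
      exact h6.symm
    subst h7
    rfl
  · intro y
    obtain ⟨r, hr, g, hg⟩ := h1 y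
    exact ⟨(⟨r, hr⟩, g), hg.symm⟩

end reps

variable {Q : Type u} [Group Q] [Finite Q]

theorem sum_lc_eq [Fintype Q] (l : Q →* ℂˣ) [Decidable (l = 1)] :
    ∑ v, lc l v = if l = 1 then (Nat.card Q : ℂ) else 0 := by
  split_ifs with h
  · subst h
    simp [lc, Nat.card_eq_fintype_card]
  · obtain ⟨w, hw⟩ : ∃ w, lc l w ≠ 1 := by
      by_contra hcon
      push Not at hcon
      apply h
      ext v
      exact hcon v
    have h1 : lc l w * ∑ v : Q, lc l v = ∑ v : Q, lc l v := by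
      rw [Finset.mul_sum]
      refine Fintype.sum_equiv (Equiv.mulLeft w) _ _ fun v => ?_
      rw [Equiv.coe_mulLeft, lc_apply_mul]
    have h2 : (lc l w - 1) * ∑ v : Q, lc l v = 0 := by rw [sub_mul, h1, one_mul, sub_self]
    rcases mul_eq_zero.1 h2 with h3 | h3
    · exact absurd (sub_eq_zero.1 h3) hw
    · exact h3

/-- `l ∘ σ` -/
def la (σ : MulAut Q) (l : Q →* ℂˣ) : Q →* ℂˣ := l.comp (σ : Q ≃* Q).toMonoidHom

theorem lc_la (σ : MulAut Q) (l : Q →* ℂˣ) (v : Q) : lc (la σ l) v = lc l (σ v) := rfl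

theorem la_la (σ τ : MulAut Q) (l : Q →* ℂˣ) : la τ (la σ l) = la (σ * τ) l := rfl

theorem la_one (l : Q →* ℂˣ) : la (1 : MulAut Q) l = l := rfl

theorem la_eq_one {σ : MulAut Q} {l : Q →* ℂˣ} (h : la σ l = 1) : l = 1 := by
  have h1 : la σ⁻¹ (la σ l) = l := by rw [la_la, mul_inv_cancel, la_one]
  rw [← h1, h]
  rfl

theorem la_free (hcomm : ∀ a b : Q, a * b = b * a) {σ : MulAut Q}
    (hfree : ∀ v, v ≠ 1 → σ v ≠ v) {l : Q →* ℂˣ} (hl : la σ l = l) : l = 1 := by
  have hinj : Function.Injective (fun v : Q => σ v * v⁻¹) := by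
    intro v w h
    have h1 : σ v * v⁻¹ = σ w * w⁻¹ := h
    by_contra hne
    have h2 : v * w⁻¹ ≠ 1 := fun h => hne (mul_inv_eq_one.1 h)
    apply hfree _ h2
    rw [map_mul, map_inv]
    calc σ v * (σ w)⁻¹ = (σ v * v⁻¹) * v * (σ w)⁻¹ := by group
      _ = (σ w * w⁻¹) * v * (σ w)⁻¹ := by rw [h1]
      _ = v * (σ w * w⁻¹) * (σ w)⁻¹ := by rw [hcomm (σ w * w⁻¹) v]
      _ = v * (w⁻¹ * σ w) * (σ w)⁻¹ := by rw [hcomm (σ w) w⁻¹]
      _ = v * w⁻¹ := by group
  have hsurj := Finite.surjective_of_injective hinj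
  apply MonoidHom.ext
  intro w
  obtain ⟨v, hv⟩ := hsurj w
  have h1 : l (σ v) = l v := DFunLike.congr_fun hl v
  rw [← hv]
  change l (σ v * v⁻¹) = 1
  rw [map_mul, map_inv, h1, mul_inv_cancel]

theorem lc_mul_conj (l l' : Q →* ℂˣ) (v : Q) : lc l v * conj (lc l' v) = lc (l * l'⁻¹) v := by
  rw [lc_mul, Pi.mul_apply, lc_inv]

/-- the inner product of `1 - l` and `1 - l'` -/
theorem sum_one_sub [Fintype Q] {l l' : Q →* ℂˣ} (hl : l ≠ 1) (hl' : l' ≠ 1)
    [Decidable (l = l')] :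
    (Nat.card Q : ℂ)⁻¹ * ∑ v, (1 - lc l v) * conj (1 - lc l' v) = 1 + if l = l' then 1 else 0 := by
  classical
  have hQ : (Nat.card Q : ℂ) ≠ 0 := by exact_mod_cast Nat.card_pos.ne'
  have h1 : ∀ v, (1 - lc l v) * conj (1 - lc l' v) =
      1 - lc l v - lc l'⁻¹ v + lc (l * l'⁻¹) v := by
    intro v
    rw [map_sub, map_one, ← lc_mul_conj, lc_inv]
    ring
  have hl'' : l'⁻¹ ≠ 1 := by
    intro h
    apply hl'
    apply MonoidHom.ext
    intro v
    have h2 : (l'⁻¹) v = 1 := by rw [h]; rfl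
    rw [MonoidHom.inv_apply] at h2
    exact inv_eq_one.1 h2
  have h3 : l * l'⁻¹ = 1 ↔ l = l' := by
    constructor
    · intro h
      apply MonoidHom.ext
      intro v
      have h2 : (l * l'⁻¹) v = 1 := by rw [h]; rfl
      rw [MonoidHom.mul_apply, MonoidHom.inv_apply] at h2
      exact mul_inv_eq_one.1 h2
    · rintro rfl
      apply MonoidHom.ext
      intro v
      rw [MonoidHom.mul_apply, MonoidHom.inv_apply, mul_inv_cancel]
      rfl
  rw [Finset.sum_congr rfl fun v _ => h1 v, Finset.sum_add_distrib, Finset.sum_sub_distrib,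
    Finset.sum_sub_distrib, sum_lc_eq, sum_lc_eq, sum_lc_eq, if_neg hl, if_neg hl'']
  simp only [Finset.sum_const, nsmul_eq_mul, mul_one, Finset.card_univ]
  rw [← Nat.card_eq_fintype_card]
  by_cases h : l = l'
  · rw [if_pos h, if_pos (h3.2 h)]
    field_simp
    ring
  · rw [if_neg h, if_neg (fun h' => h (h3.1 h'))]
    field_simp
    ring

/-- the data of a block over the sign system -/
structure IsTop (p : ℕ) (m : Subgroup Q → ℤ) (S : Subgroup Q → Set (Q → ℂ))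
    (E : Subgroup (MulAut Q)) {ρ : Type v} [Fintype ρ] (A : ρ → Q → ℂ) : Prop where
  sys : IsSys p m S
  free : ∀ σ ∈ E, σ ≠ 1 → ∀ v, v ≠ 1 → σ v ≠ v
  eqv : ∀ σ ∈ E, ∀ X : Subgroup Q, X ≠ ⊥ → ∀ a ∈ S X,
    (fun v => a (σ⁻¹ v)) ∈ S (X.map (σ : Q ≃* Q).toMonoidHom)
  inv : ∀ r, ∀ σ ∈ E, ∀ v, v ≠ 1 → A r (σ v) = A r v
  one : ∀ v, v ≠ 1 → ∑ r, A r v * conj (A r v) = Nat.card Q
  zero : ∀ v v', v ≠ 1 → v' ≠ 1 → (∀ σ ∈ E, σ v ≠ v') → ∑ r, A r v * conj (A r v') = 0
  gen : ∀ r, ∃ h ∈ GR Q, ∀ v, v ≠ 1 → h v = (m (Subgroup.zpowers v) : ℂ) * A r v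
  loc : ∀ r v, v ≠ 1 → ∃ g ∈ GR Q, ∀ w, Subgroup.zpowers w = Subgroup.zpowers v → A r w = g w
  ne : ∀ r, ∃ v, v ≠ 1 ∧ A r v ≠ 0

variable {p : ℕ} {m : Subgroup Q → ℤ} {S : Subgroup Q → Set (Q → ℂ)} {E : Subgroup (MulAut Q)}
  {ρ : Type v} [Fintype ρ] {A : ρ → Q → ℂ}

theorem map_aut_zpowers (σ : MulAut Q) (v : Q) :
    (Subgroup.zpowers v).map (σ : Q ≃* Q).toMonoidHom = Subgroup.zpowers (σ v) := by
  rw [MonoidHom.map_zpowers]; rfl

theorem map_aut_ne_bot (σ : MulAut Q) {X : Subgroup Q} (hX : X ≠ ⊥) :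
    X.map (σ : Q ≃* Q).toMonoidHom ≠ ⊥ := by
  intro h
  exact hX ((Subgroup.map_eq_bot_iff_of_injective X
    (f := (σ : Q ≃* Q).toMonoidHom) (MulEquiv.injective σ)).1 h)

theorem map_aut_index (σ : MulAut Q) (X : Subgroup Q) :
    (X.map (σ : Q ≃* Q).toMonoidHom).index = X.index := by
  have h1 := (X.map (σ : Q ≃* Q).toMonoidHom).card_mul_index
  have h2 := X.card_mul_index
  have h3 : Nat.card (X.map (σ : Q ≃* Q).toMonoidHom) = Nat.card X :=
    (Nat.card_congr (X.equivMapOfInjective (σ : Q ≃* Q).toMonoidHom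
      (MulEquiv.injective σ)).toEquiv).symm
  rw [h3] at h1
  exact Nat.eq_of_mul_eq_mul_left (Nat.card_pos (α := X)) (h1.trans h2.symm)

/-- the adapted signs are invariant -/
theorem IsTop.signs_inv (h : IsTop p m S E A) {ω : Subgroup Q → ℤ}
    (hω : ∀ X, ω X = 1 ∨ ω X = -1) (h2 : ∀ X, X ≠ ⊥ → X.index ≤ 2 → ω X = 1)
    (hg : ∀ X, X ≠ ⊥ → Good S ω X) {σ : MulAut Q} (hσ : σ ∈ E) {X : Subgroup Q} (hX : X ≠ ⊥) :
    ω (X.map (σ : Q ≃* Q).toMonoidHom) = ω X := by
  refine signs_unique (ω := fun X => ω (X.map (σ : Q ≃* Q).toMonoidHom)) h.sys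
    (fun X => hω _) hω (fun X hX hi => h2 _ (map_aut_ne_bot σ hX) ?_) h2
    (fun X hX => ?_) hg X hX
  · rw [map_aut_index]; exact hi
  · obtain ⟨b, hb, hbv⟩ := hg _ (map_aut_ne_bot σ hX)
    refine ⟨fun v => b (σ v), ?_, fun v => ?_⟩
    · have h3 := h.eqv σ⁻¹ (E.inv_mem hσ) _ (map_aut_ne_bot σ hX) b hb
      have h4 : ((X.map (σ : Q ≃* Q).toMonoidHom).map
          ((σ⁻¹ : MulAut Q) : Q ≃* Q).toMonoidHom) = X := by
        rw [Subgroup.map_map]
        have : ((σ⁻¹ : MulAut Q) : Q ≃* Q).toMonoidHom.comp (σ : Q ≃* Q).toMonoidHom =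
            MonoidHom.id Q := by
          ext v
          change σ⁻¹ (σ v) = v
          rw [← MulAut.mul_apply, inv_mul_cancel, MulAut.one_apply]
        rw [this, Subgroup.map_id]
      rw [h4] at h3
      rw [inv_inv] at h3
      exact h3
    · simp only
      rw [hbv, Subgroup.map_sup, map_aut_zpowers]

open Classical in
/-- the Gram kernel -/
theorem IsTop.gram (h : IsTop p m S E A) [Fintype E] {v v' : Q} (hv : v ≠ 1) (hv' : v' ≠ 1) :
    ∑ r, A r v * conj (A r v') =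
      (Nat.card Q : ℂ) * ∑ σ : E, (if (σ : MulAut Q) v = v' then 1 else 0) := by
  by_cases hex : ∃ σ ∈ E, σ v = v'
  · obtain ⟨σ, hσ, rfl⟩ := hex
    have h1 : ∑ r, A r v * conj (A r (σ v)) = Nat.card Q := by
      rw [← h.one v hv]
      exact Finset.sum_congr rfl fun r _ => by rw [h.inv r σ hσ v hv]
    rw [h1, Finset.sum_eq_single (⟨σ, hσ⟩ : E)]
    · rw [if_pos rfl, mul_one]
    · intro τ _ hne
      rw [if_neg]
      intro h2
      have h3 : (σ⁻¹ * (τ : MulAut Q)) v = v := by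
        rw [MulAut.mul_apply, h2, ← MulAut.mul_apply, inv_mul_cancel, MulAut.one_apply]
      have h4 : σ⁻¹ * (τ : MulAut Q) = 1 := by
        by_contra h5
        exact h.free _ (E.mul_mem (E.inv_mem hσ) τ.2) h5 v hv h3
      apply hne
      apply Subtype.ext
      exact (inv_mul_eq_one.1 h4).symm
    · intro h2; exact absurd (Finset.mem_univ _) h2
  · push Not at hex
    rw [h.zero v v' hv hv' hex, Finset.sum_eq_zero, mul_zero]
    intro σ _
    rw [if_neg (hex σ σ.2)]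

open Classical in
/-- the coefficients are integers -/
theorem IsTop.int (h : IsTop p m S E A) [Fintype Q] (hp : p.Prime)
    {a : ℕ} (hQ : Nat.card Q = p ^ a) (hne : ∃ v : Q, v ≠ 1) {ω : Subgroup Q → ℤ}
    (hω : ∀ X, ω X = 1 ∨ ω X = -1) (hg : ∀ X, X ≠ ⊥ → Good S ω X) (r : ρ) (l : Q →* ℂˣ) :
    ∃ z : ℤ, (Nat.card Q : ℂ)⁻¹ * ∑ v : Q, (if v = 1 then 0 else
      (ω (Subgroup.zpowers v) : ℂ) * A r v * (1 - lc l v)) = z := by
  obtain ⟨v0, hv0⟩ := hne
  have hbt : (⊥ : Subgroup Q) ≠ ⊤ := by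
    intro h0
    apply hv0
    have : v0 ∈ (⊤ : Subgroup Q) := Subgroup.mem_top v0
    rw [← h0, Subgroup.mem_bot] at this
    exact this
  have h1 := int_of_good h.sys hp hQ hω hbt (fun Y hY => hg Y (bot_lt_iff_ne_bot.1 hY))
    (f0 := A r) (by
      obtain ⟨f, hf, hfv⟩ := h.gen r
      refine ⟨f, hf, fun v hv => ?_⟩
      rw [bot_sup_eq]
      exact hfv v (fun h0 => hv (by rw [h0]; exact Subgroup.one_mem _)))
    (fun v hv => h.loc r v (fun h0 => hv (by rw [h0]; exact Subgroup.one_mem _)))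
    (l := l) (fun x hx => by rw [Subgroup.mem_bot.1 hx, map_one])
  obtain ⟨z, hz⟩ := h1
  refine ⟨z, ?_⟩
  rw [← hz]
  congr 1
  refine Finset.sum_congr rfl fun v _ => ?_
  rw [bot_sup_eq]
  by_cases hv : v = 1
  · rw [if_pos hv, if_pos (Subgroup.mem_bot.2 hv)]
  · rw [if_neg hv, if_neg (fun h0 => hv (Subgroup.mem_bot.1 h0))]

theorem zpowers_ne_bot {v : Q} (hv : v ≠ 1) : Subgroup.zpowers v ≠ ⊥ := by
  intro h; exact hv (Subgroup.zpowers_eq_bot.1 h)

open Classical in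
theorem IsTop.gram_int (h : IsTop p m S E A) [Fintype Q] [Fintype E] {ω : Subgroup Q → ℤ}
    (hω : ∀ X, ω X = 1 ∨ ω X = -1)
    (hinv : ∀ σ ∈ E, ∀ X : Subgroup Q, X ≠ ⊥ → ω (X.map (σ : Q ≃* Q).toMonoidHom) = ω X)
    {z : ρ → (Q →* ℂˣ) → ℤ} (hz : ∀ r l, (Nat.card Q : ℂ)⁻¹ * ∑ v : Q, (if v = 1 then 0 else
      (ω (Subgroup.zpowers v) : ℂ) * A r v * (1 - lc l v)) = z r l) {l l' : Q →* ℂˣ}
    (hl : l ≠ 1) (hl' : l' ≠ 1) :
    ((∑ r, z r l * z r l' : ℤ) : ℂ) = ∑ σ : E, (1 + if l = la (σ : MulAut Q) l' then 1 else 0) := by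
  have hQ0 : (Nat.card Q : ℂ) ≠ 0 := by exact_mod_cast Nat.card_pos.ne'
  have h1 : ((∑ r, z r l * z r l' : ℤ) : ℂ) = ∑ r, ((z r l : ℤ) : ℂ) * conj ((z r l' : ℤ) : ℂ) := by
    push_cast
    refine Finset.sum_congr rfl fun r _ => ?_
    rw [map_intCast (starRingEnd ℂ)]
  rw [h1]
  have h2 : ∀ r, ((z r l : ℤ) : ℂ) * conj ((z r l' : ℤ) : ℂ) =
      (Nat.card Q : ℂ)⁻¹ * (Nat.card Q : ℂ)⁻¹ * ∑ v : Q, ∑ v' : Q,
        (if v = 1 then 0 else (ω (Subgroup.zpowers v) : ℂ) * A r v * (1 - lc l v)) *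
        conj (if v' = 1 then 0 else (ω (Subgroup.zpowers v') : ℂ) * A r v' * (1 - lc l' v')) := by
    intro r
    rw [← hz r l, ← hz r l', map_mul, map_sum, map_inv₀, Complex.conj_natCast,
      ← Finset.sum_mul_sum]
    ring
  rw [Finset.sum_congr rfl fun r _ => h2 r, ← Finset.mul_sum, Finset.sum_comm]
  have h3 : ∀ v : Q, ∑ r, ∑ v' : Q,
      (if v = 1 then 0 else (ω (Subgroup.zpowers v) : ℂ) * A r v * (1 - lc l v)) *
        conj (if v' = 1 then 0 else (ω (Subgroup.zpowers v') : ℂ) * A r v' * (1 - lc l' v')) =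
      (Nat.card Q : ℂ) * ∑ σ : E, (1 - lc l v) * conj (1 - lc (la (σ : MulAut Q) l') v) := by
    intro v
    rw [Finset.sum_comm]
    by_cases hv : v = 1
    · subst hv
      simp [lc_apply_one]
    have h4 : ∀ v' : Q, ∑ r, (if v = 1 then 0 else
        (ω (Subgroup.zpowers v) : ℂ) * A r v * (1 - lc l v)) *
        conj (if v' = 1 then 0 else (ω (Subgroup.zpowers v') : ℂ) * A r v' * (1 - lc l' v')) =
        (Nat.card Q : ℂ) * ∑ σ : E, (if (σ : MulAut Q) v = v' then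
          (1 - lc l v) * conj (1 - lc l' v') else 0) := by
      intro v'
      by_cases hv' : v' = 1
      · subst hv'
        simp [lc_apply_one]
      have h5 : ∀ r, (if v = 1 then 0 else
        (ω (Subgroup.zpowers v) : ℂ) * A r v * (1 - lc l v)) *
        conj (if v' = 1 then 0 else (ω (Subgroup.zpowers v') : ℂ) * A r v' * (1 - lc l' v')) =
        ((ω (Subgroup.zpowers v) : ℂ) * (ω (Subgroup.zpowers v') : ℂ) * ((1 - lc l v) *
          conj (1 - lc l' v'))) * (A r v * conj (A r v')) := by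
        intro r
        rw [if_neg hv, if_neg hv', map_mul, map_mul, map_intCast (starRingEnd ℂ)]
        ring
      rw [Finset.sum_congr rfl fun r _ => h5 r, ← Finset.mul_sum, h.gram hv hv', mul_left_comm,
        Finset.mul_sum]
      congr 1
      refine Finset.sum_congr rfl fun σ _ => ?_
      by_cases hσ : (σ : MulAut Q) v = v'
      · rw [if_pos hσ, if_pos hσ, mul_one, ← hσ, ← map_aut_zpowers,
          hinv σ σ.2 _ (zpowers_ne_bot hv), sq_sign hω, one_mul]
      · rw [if_neg hσ, if_neg hσ, mul_zero]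
    rw [Finset.sum_congr rfl fun v' _ => h4 v', ← Finset.mul_sum, Finset.sum_comm]
    congr 1
    refine Finset.sum_congr rfl fun σ _ => ?_
    rw [Finset.sum_ite_eq Finset.univ, if_pos (Finset.mem_univ _), lc_la]
  rw [Finset.sum_congr rfl fun v _ => h3 v, ← Finset.mul_sum, Finset.sum_comm]
  have h6 : ∀ σ : E, ∑ v, (1 - lc l v) * conj (1 - lc (la (σ : MulAut Q) l') v) =
      (Nat.card Q : ℂ) * (1 + if l = la (σ : MulAut Q) l' then 1 else 0) := by
    intro σ
    rw [← sum_one_sub hl (fun h0 => hl' (la_eq_one h0)), ← mul_assoc, mul_inv_cancel₀ hQ0, one_mul]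
  rw [Finset.sum_congr rfl fun σ _ => h6 σ, ← Finset.mul_sum]
  field_simp

open Classical in
theorem coeff_inv [Fintype Q] {ω : Subgroup Q → ℤ} {Ar : Q → ℂ} {σ : MulAut Q}
    (hA : ∀ v, v ≠ 1 → Ar (σ v) = Ar v)
    (hinv : ∀ X : Subgroup Q, X ≠ ⊥ → ω (X.map (σ : Q ≃* Q).toMonoidHom) = ω X)
    (l : Q →* ℂˣ) :
    ∑ v : Q, (if v = 1 then 0 else (ω (Subgroup.zpowers v) : ℂ) * Ar v * (1 - lc (la σ l) v)) =
    ∑ v : Q, (if v = 1 then 0 else (ω (Subgroup.zpowers v) : ℂ) * Ar v * (1 - lc l v)) := by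
  refine Fintype.sum_equiv σ.toEquiv _ _ fun v => ?_
  have h0 : σ.toEquiv v = σ v := rfl
  rw [h0]
  by_cases hv : v = 1
  · rw [if_pos hv, if_pos (by rw [hv, map_one])]
  · rw [if_neg hv, if_neg (fun h1 => hv (by
      rw [← map_one σ] at h1
      exact σ.injective h1)), hA v hv, ← map_aut_zpowers, hinv _ (zpowers_ne_bot hv), lc_la]

open Classical in
theorem eq_zero_of_coeff (hcomm : ∀ a b : Q, a * b = b * a) [Fintype Q] {F : Q → ℂ}
    (h : ∀ l : Q →* ℂˣ, ∑ v : Q, F v * (1 - lc l v) = 0) {w : Q} (hw : w ≠ 1) : F w = 0 := by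
  haveI := finite_dual hcomm
  haveI := Fintype.ofFinite (Q →* ℂˣ)
  have hQ0 : (Nat.card Q : ℂ) ≠ 0 := by exact_mod_cast Nat.card_pos.ne'
  have h1 : ∑ l : Q →* ℂˣ, lc l w⁻¹ * ∑ v : Q, F v * (1 - lc l v) = 0 :=
    Finset.sum_eq_zero fun l _ => by rw [h l, mul_zero]
  have h2 : ∀ l : Q →* ℂˣ, lc l w⁻¹ * ∑ v : Q, F v * (1 - lc l v) =
      ∑ v : Q, F v * (lc l w⁻¹ - lc l (v * w⁻¹)) := by
    intro l
    rw [Finset.mul_sum]
    refine Finset.sum_congr rfl fun v _ => ?_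
    rw [lc_apply_mul]
    ring
  rw [Finset.sum_congr rfl fun l _ => h2 l, Finset.sum_comm] at h1
  have h3 : ∀ v : Q, ∑ l : Q →* ℂˣ, F v * (lc l w⁻¹ - lc l (v * w⁻¹)) =
      if v = w then -((Nat.card Q : ℂ) * F w) else 0 := by
    intro v
    rw [← Finset.mul_sum, Finset.sum_sub_distrib]
    have h4 : ∑ l : Q →* ℂˣ, lc l w⁻¹ = 0 := by
      have := Char.sum_dual_eq hcomm w⁻¹
      rw [if_neg (fun h0 => hw (inv_eq_one.1 h0))] at this
      exact this
    have h5 : ∑ l : Q →* ℂˣ, lc l (v * w⁻¹) = if v = w then (Nat.card Q : ℂ) else 0 := by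
      have := Char.sum_dual_eq hcomm (v * w⁻¹)
      by_cases hvw : v = w
      · rw [if_pos (by rw [hvw, mul_inv_cancel])] at this
        rw [if_pos hvw]
        exact this
      · rw [if_neg (fun h0 => hvw (mul_inv_eq_one.1 h0))] at this
        rw [if_neg hvw]
        exact this
    rw [h4, h5]
    by_cases hvw : v = w
    · rw [if_pos hvw, if_pos hvw, hvw]; ring
    · rw [if_neg hvw, if_neg hvw]; ring
  rw [Finset.sum_congr rfl fun v _ => h3 v, Finset.sum_ite_eq' Finset.univ, if_pos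
    (Finset.mem_univ _)] at h1
  have h6 := neg_eq_zero.1 h1
  exact (mul_eq_zero.1 h6).resolve_left hQ0

theorem finite_mulAut : Finite (MulAut Q) :=
  Finite.of_injective (fun σ : MulAut Q => (σ : Q → Q)) DFunLike.coe_injective

/-- **The integral matrix.** -/
theorem IsTop.exists_mat (h : IsTop p m S E A) (hcomm : ∀ a b : Q, a * b = b * a) (hp : p.Prime)
    {a : ℕ} (hQ : Nat.card Q = p ^ a) (hne : ∃ v : Q, v ≠ 1) :
    ∃ (ι : Type u) (_ : Fintype ι) (_ : DecidableEq ι) (x : ρ → ι → ℤ),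
      (∀ i j, ∑ r, x r i * x r j = (Nat.card E : ℤ) + if i = j then 1 else 0) ∧
      (∀ r, ∃ i, x r i ≠ 0) ∧ Fintype.card ι * Nat.card E = Nat.card Q - 1 := by
  classical
  haveI := Fintype.ofFinite Q
  haveI : Finite (MulAut Q) := finite_mulAut
  haveI := Fintype.ofFinite E
  haveI := finite_dual hcomm
  have hQ0 : (Nat.card Q : ℂ) ≠ 0 := by exact_mod_cast Nat.card_pos.ne'
  obtain ⟨ω, hω, h2, hg⟩ := exists_signs hcomm h.sys hp hQ
  have hinv : ∀ σ ∈ E, ∀ X : Subgroup Q, X ≠ ⊥ → ω (X.map (σ : Q ≃* Q).toMonoidHom) = ω X :=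
    fun σ hσ X hX => h.signs_inv hω h2 hg hσ hX
  have hint := fun r l => h.int hp hQ hne hω hg r l
  choose z hz using hint
  have hfree : ∀ (σ : E) (l : Q →* ℂˣ), l ≠ 1 → la (σ : MulAut Q)⁻¹ l = l → σ = 1 := by
    intro σ l hl h0
    by_contra h1
    apply hl
    refine la_free hcomm (h.free _ (E.inv_mem σ.2) ?_) h0
    intro h2
    exact h1 (Subtype.ext (inv_eq_one.1 h2))
  obtain ⟨R, hR1, hR2, hR3⟩ := exists_reps (Y := {l : Q →* ℂˣ // l ≠ 1}) (E := E)
    (fun σ l => ⟨la (σ : MulAut Q)⁻¹ l.1, fun h0 => l.2 (la_eq_one h0)⟩)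
    (fun g h l => by
      apply Subtype.ext
      change la ((g * h : E) : MulAut Q)⁻¹ l.1 = la (g : MulAut Q)⁻¹ (la (h : MulAut Q)⁻¹ l.1)
      rw [la_la, Subgroup.coe_mul, mul_inv_rev])
    (fun l => by
      apply Subtype.ext
      change la ((1 : E) : MulAut Q)⁻¹ l.1 = l.1
      rw [OneMemClass.coe_one, inv_one, la_one])
    (fun g l h0 => hfree g l.1 l.2 (congrArg Subtype.val h0))
  haveI : Fintype R := Fintype.ofFinite R
  refine ⟨R, inferInstance, Classical.decEq R, fun r i => z r i.1.1, ?_, ?_, ?_⟩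
  · intro i j
    have h3 := h.gram_int hω hinv hz i.1.2 j.1.2
    have h4 : ∑ σ : E, ((1 : ℂ) + if i.1.1 = la (σ : MulAut Q) j.1.1 then 1 else 0) =
        (Nat.card E : ℂ) + if i = j then 1 else 0 := by
      rw [Finset.sum_add_distrib, Finset.sum_const, nsmul_eq_mul, mul_one, Finset.card_univ,
        ← Nat.card_eq_fintype_card]
      congr 1
      by_cases hij : i = j
      · subst hij
        rw [if_pos rfl, Finset.sum_eq_single (1 : E)]
        · rw [if_pos]; rfl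
        · intro σ _ hσ
          rw [if_neg]
          intro h5
          apply hσ
          have h6 : la ((σ⁻¹ : E) : MulAut Q)⁻¹ i.1.1 = i.1.1 := by
            rw [InvMemClass.coe_inv, inv_inv]; exact h5.symm
          have h7 := hfree σ⁻¹ i.1.1 i.1.2 h6
          exact inv_eq_one.1 h7
        · intro h5; exact absurd (Finset.mem_univ _) h5
      · rw [if_neg hij]
        refine Finset.sum_eq_zero fun σ _ => ?_
        rw [if_neg]
        intro h5
        apply hij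
        apply Subtype.ext
        refine (hR2 j.1 j.2 i.1 i.2 σ⁻¹ ?_).symm
        apply Subtype.ext
        change la ((σ⁻¹ : E) : MulAut Q)⁻¹ j.1.1 = i.1.1
        rw [InvMemClass.coe_inv, inv_inv]
        exact h5.symm
    rw [h4] at h3
    have h8 : ((∑ r, z r i.1.1 * z r j.1.1 : ℤ) : ℂ) =
        (((Nat.card E : ℤ) + if i = j then 1 else 0 : ℤ) : ℂ) := by
      rw [h3]
      push_cast
      rfl
    have h9 := Int.cast_injective h8
    simp only
    rw [h9]
    by_cases hij : i = j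
    · rw [if_pos hij, if_pos hij]
    · rw [if_neg hij, if_neg hij]
  · intro r
    by_contra hcon
    push Not at hcon
    obtain ⟨w, hw, hAw⟩ := h.ne r
    have h3 : ∀ l : Q →* ℂˣ, ∑ v : Q, (if v = 1 then 0 else
        (ω (Subgroup.zpowers v) : ℂ) * A r v * (1 - lc l v)) = 0 := by
      intro l
      by_cases hl : l = 1
      · subst hl
        refine Finset.sum_eq_zero fun v _ => ?_
        have : lc (1 : Q →* ℂˣ) v = 1 := rfl
        rw [this, sub_self, mul_zero, ite_self]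
      · obtain ⟨i, hi, σ, hσ⟩ := hR1 ⟨l, hl⟩
        have h4 : l = la (σ : MulAut Q)⁻¹ i.1 := congrArg Subtype.val hσ
        have h5 : z r i.1 = 0 := hcon ⟨i, hi⟩
        have h6 := hz r i.1
        rw [h5, Int.cast_zero] at h6
        have h7 := (mul_eq_zero.1 h6).resolve_left (inv_ne_zero hQ0)
        rw [h4, coeff_inv (fun v hv => h.inv r _ (E.inv_mem σ.2) v hv)
          (fun X hX => hinv _ (E.inv_mem σ.2) X hX)]
        exact h7
    have h4 : (fun v : Q => if v = 1 then 0 else (ω (Subgroup.zpowers v) : ℂ) * A r v) w = 0 := by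
      apply eq_zero_of_coeff hcomm _ hw
      intro l
      refine (Finset.sum_congr rfl fun v _ => ?_).trans (h3 l)
      by_cases hv : v = 1
      · simp only [if_pos hv, zero_mul]
      · simp only [if_neg hv]
    simp only [if_neg hw] at h4
    rcases mul_eq_zero.1 h4 with h5 | h5
    · have h6 := sq_sign hω (Subgroup.zpowers w)
      rw [h5, zero_mul] at h6
      exact zero_ne_one h6
    · exact hAw h5
  · rw [← Nat.card_eq_fintype_card, hR3]
    haveI := Fintype.ofFinite (Q →* ℂˣ)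
    have h3 : Nat.card (Q →* ℂˣ) = Nat.card Q := by
      have h4 := Char.sum_dual_eq hcomm (1 : Q)
      simp only [map_one, Units.val_one, Finset.sum_const, nsmul_eq_mul, mul_one,
        Finset.card_univ, if_true] at h4
      rw [Nat.card_eq_fintype_card]
      exact_mod_cast h4
    rw [← h3, Nat.card_eq_fintype_card, Nat.card_eq_fintype_card]
    have h5 := Fintype.card_subtype_compl (fun l : Q →* ℂˣ => l = 1)
    rw [Fintype.card_subtype_eq] at h5
    exact h5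

end Cfsg.Agent.AbFree
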