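import Cfsg.Agent.AbFree.Sign
import Cfsg.Agent.BlkF.MajorChar

/-!
# Sign systems: existence and uniqueness (owner: helper78)
-/

set_option autoImplicit false
set_option linter.style.haveILetI false
set_option linter.unusedSectionVars false

namespace Cfsg.Agent.AbFree

open scoped ComplexConjugate
open Cfsg Cfsg.Agent.CharBase

universe u

variable {Q : Type u} [Group Q] [Finite Q] {p : ℕ} {m : Subgroup Q → ℤ}
  {S : Subgroup Q → Set (Q → ℂ)}

open Classical in
/-- the induction step -/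
theorem step [Fintype Q] (hcomm : ∀ a b : Q, a * b = b * a) (hs : IsSys p m S) (hp : p.Prime)
    {e : ℕ} (hQ : Nat.card Q = p ^ e) {ω : Subgroup Q → ℤ} (hω : ∀ X, ω X = 1 ∨ ω X = -1)
    {X : Subgroup Q} (hXb : X ≠ ⊥) (hgood : ∀ Y, X < Y → Good S ω Y) :
    ∃ ε : ℤ, (ε = 1 ∨ ε = -1) ∧ (X.index ≤ 2 → ε = 1) ∧ ∃ a ∈ S X, (∀ v ∈ X, a v = 1) ∧
      ∀ v, v ∉ X → a v = (ε : ℂ) * (ω (X ⊔ Subgroup.zpowers v) : ℂ) := by
  obtain ⟨a0, ha0⟩ := hs.ne X hXb
  have hne0 : ∀ v, a0 v ≠ 0 := fun v h => by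
    have := hs.unit X hXb a0 ha0 v
    rw [h, zero_mul] at this
    exact zero_ne_one this
  obtain ⟨l0, hl0⟩ : ∃ l0 : X →* ℂˣ, ∀ x : X, ((l0 x : ℂˣ) : ℂ) = a0 x := by
    refine ⟨{ toFun := fun x => Units.mk0 (a0 x) (hne0 x), map_one' := ?_, map_mul' := ?_ },
      fun x => rfl⟩
    · apply Units.ext
      rw [Units.val_mk0, Units.val_one]
      exact hs.one X hXb a0 ha0
    · intro x y
      apply Units.ext
      rw [Units.val_mul, Units.val_mk0, Units.val_mk0, Units.val_mk0]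
      exact hs.cen X hXb a0 ha0 x x.2 y
  obtain ⟨L, hL⟩ := exists_ext hcomm X l0
  obtain ⟨a1, ha1⟩ : ∃ a1, a1 = lc L⁻¹ * a0 := ⟨_, rfl⟩
  have ha1S : a1 ∈ S X := by rw [ha1]; exact hs.tw X hXb a0 ha0 L⁻¹
  have ha1X : ∀ v ∈ X, a1 v = 1 := by
    intro v hv
    rw [ha1, Pi.mul_apply]
    have h1 : a0 v = lc L v := by
      rw [lc_apply, hL ⟨v, hv⟩, hl0]
    rw [h1, lc_inv_mul]
  by_cases htop : X = ⊤
  · refine ⟨1, Or.inl rfl, fun _ => rfl, a1, ha1S, ha1X, fun v hv => ?_⟩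
    rw [htop] at hv
    exact absurd (Subgroup.mem_top v) hv
  have hint := fun (l : Q →* ℂˣ) (hl : ∀ x ∈ X, l x = 1) =>
    int_of_good hs hp hQ hω htop hgood (f0 := a1)
      ⟨_, hs.gen X hXb a1 ha1S, fun v _ => rfl⟩ (fun v _ => hs.loc X hXb a1 ha1S v) hl
  haveI hXn : X.Normal := ⟨fun n hn g => by rw [hcomm g n, mul_inv_cancel_right]; exact hn⟩
  have hcommK : ∀ a b : Q ⧸ X, a * b = b * a := by
    intro a b
    obtain ⟨a, rfl⟩ := QuotientGroup.mk_surjective a
    obtain ⟨b, rfl⟩ := QuotientGroup.mk_surjective b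
    rw [← QuotientGroup.mk_mul, hcomm, QuotientGroup.mk_mul]
  haveI := Fintype.ofFinite (Q ⧸ X)
  obtain ⟨ψ, hψ⟩ : ∃ ψ : Q ⧸ X → ℂ, ψ = fun k =>
    (ω (X ⊔ Subgroup.zpowers k.out) : ℂ) * a1 k.out := ⟨_, rfl⟩
  have hmk1 : ∀ v : Q, (v : Q ⧸ X) = 1 ↔ v ∈ X := fun v => QuotientGroup.eq_one_iff v
  have hout : ∀ k : Q ⧸ X, k.out ∈ X ↔ k = 1 := by
    intro k
    rw [← hmk1, QuotientGroup.out_eq']
  have hψv : ∀ v : Q, ψ (v : Q ⧸ X) = (ω (X ⊔ Subgroup.zpowers v) : ℂ) * a1 v := by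
    intro v
    obtain ⟨x, hx⟩ := QuotientGroup.mk_out_eq_mul X v
    rw [hψ]
    simp only
    rw [hx, hcomm v x, sup_zpowers_mul x.2, hs.cen X hXb a1 ha1S x x.2, ha1X x x.2, one_mul]
  obtain ⟨v0, hv0⟩ : ∃ v, v ∉ X := by
    by_contra hcon
    push Not at hcon
    exact htop (eq_top_iff.2 fun x _ => hcon x)
  have hXc : (Nat.card X : ℂ) ≠ 0 := by exact_mod_cast Nat.card_pos.ne'
  have hQK : (Nat.card Q : ℂ) = (Nat.card X : ℂ) * (Nat.card (Q ⧸ X) : ℂ) := by
    have h1 := X.card_mul_index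
    rw [← h1, Subgroup.index_eq_card]; push_cast; ring
  obtain ⟨ε, l, hε, hε2, hl⟩ := exists_flat hcommK (ψ := ψ) (fun k hk => by
      rw [hψ]
      simp only [map_mul, map_intCast]
      linear_combination (a1 k.out * conj (a1 k.out)) *
        sq_sign hω (X ⊔ Subgroup.zpowers k.out) + hs.unit X hXb a1 ha1S k.out)
    ⟨(v0 : Q ⧸ X), fun h => hv0 ((hmk1 v0).1 h)⟩ (fun l => by
      obtain ⟨z, hz⟩ := hint (l.comp (QuotientGroup.mk' X)) (fun x hx => by
        rw [MonoidHom.comp_apply, QuotientGroup.mk'_apply, (hmk1 x).2 hx, map_one])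
      refine ⟨z, ?_⟩
      rw [← hz, BlkF.sum_eq_sum_quotient X, hQK, mul_inv, mul_assoc, mul_left_comm,
        inv_mul_cancel_left₀ hXc]
      · congr 1
        refine Finset.sum_congr rfl fun k _ => ?_
        by_cases hk : k = 1
        · rw [if_pos hk, if_pos ((hout k).2 hk)]
        · rw [if_neg hk, if_neg (fun h => hk ((hout k).1 h)), hψ]
          have h1 : lc (l.comp (QuotientGroup.mk' X)) k.out = lc l k := by
            rw [lc_apply, lc_apply, MonoidHom.comp_apply, QuotientGroup.mk'_apply,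
              QuotientGroup.out_eq']
          rw [h1]
      · intro g c hc
        have h1 : g * c ∈ X ↔ g ∈ X := ⟨fun h => by
          have := X.mul_mem h (X.inv_mem hc)
          rwa [mul_inv_cancel_right] at this, fun h => X.mul_mem h hc⟩
        have h2 : lc (l.comp (QuotientGroup.mk' X)) (g * c) =
            lc (l.comp (QuotientGroup.mk' X)) g := by
          rw [lc_apply, lc_apply, MonoidHom.comp_apply, MonoidHom.comp_apply,
            QuotientGroup.mk'_apply, QuotientGroup.mk'_apply, QuotientGroup.mk_mul_of_mem g hc]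
        by_cases hg : g ∈ X
        · rw [if_pos hg, if_pos (h1.2 hg)]
        · rw [if_neg hg, if_neg (fun h => hg (h1.1 h)), h2, hcomm g c, sup_zpowers_mul hc,
            hs.cen X hXb a1 ha1S c hc, ha1X c hc, one_mul])
  refine ⟨ε, hε, fun h => hε2 (by rwa [← Subgroup.index_eq_card]),
    lc (l.comp (QuotientGroup.mk' X))⁻¹ * a1, hs.tw X hXb a1 ha1S _, ?_, ?_⟩
  · intro v hv
    rw [Pi.mul_apply, ha1X v hv, mul_one]
    have h1 : (l.comp (QuotientGroup.mk' X))⁻¹ v = 1 := by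
      rw [MonoidHom.inv_apply, MonoidHom.comp_apply, QuotientGroup.mk'_apply, (hmk1 v).2 hv,
        map_one, inv_one]
    rw [lc_apply, h1, Units.val_one]
  · intro v hv
    have h1 := hl (v : Q ⧸ X) (fun h => hv ((hmk1 v).1 h))
    rw [hψv] at h1
    rw [Pi.mul_apply]
    have h2 : lc (l.comp (QuotientGroup.mk' X))⁻¹ v * lc l (v : Q ⧸ X) = 1 :=
      lc_inv_mul (l.comp (QuotientGroup.mk' X)) v
    have h3 := sq_sign hω (X ⊔ Subgroup.zpowers v)
    linear_combination (ω (X ⊔ Subgroup.zpowers v) : ℂ) *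
      lc (l.comp (QuotientGroup.mk' X))⁻¹ v * h1 +
      (ε : ℂ) * (ω (X ⊔ Subgroup.zpowers v) : ℂ) * h2 -
      lc (l.comp (QuotientGroup.mk' X))⁻¹ v * a1 v * h3

/-- **Existence of adapted signs.** -/
theorem exists_signs (hcomm : ∀ a b : Q, a * b = b * a) (hs : IsSys p m S) (hp : p.Prime)
    {e : ℕ} (hQ : Nat.card Q = p ^ e) :
    ∃ ω : Subgroup Q → ℤ, (∀ X, ω X = 1 ∨ ω X = -1) ∧ (∀ X, X ≠ ⊥ → X.index ≤ 2 → ω X = 1) ∧
      ∀ X, X ≠ ⊥ → Good S ω X := by
  classical
  haveI := Fintype.ofFinite Q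
  have key : ∀ n : ℕ, ∃ ω : Subgroup Q → ℤ, (∀ X, ω X = 1 ∨ ω X = -1) ∧
      (∀ X, X ≠ ⊥ → X.index ≤ n → X.index ≤ 2 → ω X = 1) ∧
      ∀ X, X ≠ ⊥ → X.index ≤ n → Good S ω X := by
    intro n
    induction n with
    | zero =>
      refine ⟨fun _ => 1, fun _ => Or.inl rfl, fun _ _ _ _ => rfl, fun X _ h => ?_⟩
      have h1 := X.card_mul_index
      have h2 : 0 < Nat.card Q := Nat.card_pos
      rw [Nat.le_zero.1 h, mul_zero] at h1
      omega
    | succ n ih =>
      obtain ⟨ω, hω, hn2, hgood⟩ := ih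
      have hstep : ∀ X : Subgroup Q, ∃ ε : ℤ, (ε = 1 ∨ ε = -1) ∧ (X ≠ ⊥ → X.index = n + 1 →
          (X.index ≤ 2 → ε = 1) ∧ ∃ a ∈ S X, (∀ v ∈ X, a v = 1) ∧
          ∀ v, v ∉ X → a v = (ε : ℂ) * (ω (X ⊔ Subgroup.zpowers v) : ℂ)) := by
        intro X
        by_cases hX : X ≠ ⊥ ∧ X.index = n + 1
        · obtain ⟨ε, h1, h2, h3⟩ := step hcomm hs hp hQ hω hX.1 (fun Y hY =>
            hgood Y (fun h0 => not_lt_bot (h0 ▸ hY)) (by
              have := index_lt hY
              have := hX.2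
              omega))
          exact ⟨ε, h1, fun _ _ => ⟨h2, h3⟩⟩
        · exact ⟨1, Or.inl rfl, fun h1 h2 => absurd ⟨h1, h2⟩ hX⟩
      choose ε hε hε2 using hstep
      refine ⟨fun X => if X.index = n + 1 then ε X else ω X, fun X => ?_, fun X hX hXn hX2 => ?_,
        fun X hX hXn => ?_⟩
      · by_cases h : X.index = n + 1
        · simp only [if_pos h]; exact hε X
        · simp only [if_neg h]; exact hω X
      · by_cases h : X.index = n + 1
        · simp only [if_pos h]; exact (hε2 X hX h).1 hX2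
        · simp only [if_neg h]; exact hn2 X hX (by omega) hX2
      · by_cases h : X.index = n + 1
        · obtain ⟨a, ha, ha1, ha2⟩ := (hε2 X hX h).2
          refine ⟨a, ha, fun v => ?_⟩
          by_cases hv : v ∈ X
          · rw [sup_zpowers_of_mem hv, ha1 v hv]
            simp only [if_pos h]
            rcases hε X with h1 | h1 <;> rw [h1] <;> norm_num
          · have h1 := index_lt (lt_sup_zpowers hv)
            have h2 : (X ⊔ Subgroup.zpowers v).index ≠ n + 1 := by omega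
            simp only [if_pos h, if_neg h2]
            exact ha2 v hv
        · obtain ⟨a, ha, hav⟩ := hgood X hX (by omega)
          refine ⟨a, ha, fun v => ?_⟩
          have h1 : (X ⊔ Subgroup.zpowers v).index ≤ X.index := by
            rcases eq_or_lt_of_le (le_sup_left : X ≤ X ⊔ Subgroup.zpowers v) with h2 | h2
            · rw [← h2]
            · exact (index_lt h2).le
          have h2 : (X ⊔ Subgroup.zpowers v).index ≠ n + 1 := by omega
          simp only [if_neg h, if_neg h2]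
          exact hav v
  obtain ⟨ω, h1, h2, h3⟩ := key (Nat.card Q)
  have hidx : ∀ X : Subgroup Q, X.index ≤ Nat.card Q := fun X =>
    Nat.le_of_dvd Nat.card_pos (Subgroup.index_dvd_card X)
  exact ⟨ω, h1, fun X hX h => h2 X hX (hidx X) h, fun X hX => h3 X hX (hidx X)⟩

/-- **Uniqueness of the normalized adapted signs.** -/
theorem signs_unique (hs : IsSys p m S) {ω ω' : Subgroup Q → ℤ}
    (hω : ∀ X, ω X = 1 ∨ ω X = -1) (hω' : ∀ X, ω' X = 1 ∨ ω' X = -1)
    (h2 : ∀ X, X ≠ ⊥ → X.index ≤ 2 → ω X = 1) (h2' : ∀ X, X ≠ ⊥ → X.index ≤ 2 → ω' X = 1)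
    (hg : ∀ X, X ≠ ⊥ → Good S ω X) (hg' : ∀ X, X ≠ ⊥ → Good S ω' X)
    (X : Subgroup Q) (hX : X ≠ ⊥) : ω X = ω' X := by
  classical
  induction hn : X.index using Nat.strong_induction_on generalizing X with
  | _ n ih =>
  by_cases hle : X.index ≤ 2
  · rw [h2 X hX hle, h2' X hX hle]
  push Not at hle
  obtain ⟨a, ha, hav⟩ := hg X hX
  obtain ⟨b, hb, hbv⟩ := hg' X hX
  obtain ⟨l, hl⟩ := hs.diff X hX a ha b hb
  have hlv : ∀ v, v ∉ X → lc l v = (ω X : ℂ) * ω' X := by
    intro v hv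
    have h1 := ih _ (by rw [← hn]; exact index_lt (lt_sup_zpowers hv)) (X ⊔ Subgroup.zpowers v)
      (sup_ne_bot hv) rfl
    have h3 := hbv v
    rw [hl, Pi.mul_apply, hav v, ← h1] at h3
    have h4 := sq_sign hω (X ⊔ Subgroup.zpowers v)
    have h5 := sq_sign hω X
    linear_combination (ω X : ℂ) * (ω (X ⊔ Subgroup.zpowers v) : ℂ) * h3 -
      lc l v * (ω X : ℂ) * (ω X : ℂ) * h4 - lc l v * h5 + (ω X : ℂ) * ω' X * h4
  -- two elements whose product is outside
  obtain ⟨v, w, hv, hw, hvw⟩ : ∃ v w, v ∉ X ∧ w ∉ X ∧ v * w ∉ X := by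
    have htop : X ≠ ⊤ := by
      rintro rfl
      rw [Subgroup.index_top] at hle
      omega
    obtain ⟨v, hv⟩ : ∃ v, v ∉ X := by
      by_contra hcon
      push Not at hcon
      exact htop (eq_top_iff.2 fun x _ => hcon x)
    by_contra hcon
    push Not at hcon
    have h3 : X.index ≤ 2 := by
      rw [Subgroup.index_eq_card]
      have : Fintype (Q ⧸ X) := Fintype.ofFinite _
      rw [Nat.card_eq_fintype_card]
      have hsub : (Finset.univ : Finset (Q ⧸ X)) ⊆ {((1 : Q) : Q ⧸ X), ((v⁻¹ : Q) : Q ⧸ X)} := by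
        intro k _
        obtain ⟨w, rfl⟩ := QuotientGroup.mk_surjective k
        rw [Finset.mem_insert, Finset.mem_singleton]
        by_cases hw : w ∈ X
        · left
          rw [QuotientGroup.eq, mul_one]
          exact X.inv_mem hw
        · right
          symm
          rw [QuotientGroup.eq, inv_inv]
          exact hcon v w hv hw
      have := Finset.card_le_card hsub
      rw [Finset.card_univ] at this
      exact this.trans Finset.card_le_two
    omega
  have h4 := lc_apply_mul l v w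
  rw [hlv v hv, hlv w hw, hlv _ hvw] at h4
  have h5 : (ω X : ℂ) * ω' X = 1 := by
    have hne : (ω X : ℂ) * ω' X ≠ 0 := by
      rw [← hlv v hv]; exact lc_ne_zero l v
    exact mul_left_cancel₀ hne (by rw [mul_one]; exact h4.symm)
  have h6 : ω X * ω' X = 1 := by exact_mod_cast h5
  rcases hω X with h | h <;> rcases hω' X with h' | h' <;> rw [h, h'] at h6 ⊢ <;> norm_num at h6

end Cfsg.Agent.AbFree
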