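import Cfsg.Agent.Star.NilApp
import Cfsg.Agent.Star.Loc
import Cfsg.Agent.Star.Sing
import Cfsg.Agent.AbFree.Sign2
import Cfsg.Agent.BlkC.SubContrib

/-!
# Coefficients on sections (owner: helper78)

`LocDat p M e θ n`: `e` is a block of `C` with `n` members which all agree with `θ` on the
`p`-regular elements. `cf p n C Θ v F`: the coefficient of `F` on the section of `v`.
-/

set_option autoImplicit false
set_option linter.unusedSectionVars false
set_option linter.style.haveILetI false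

universe u

namespace Cfsg.Agent.AbFree

open scoped ComplexConjugate
open MonoidAlgebra Cfsg Cfsg.Agent.Blk Cfsg.Agent.BlkF Cfsg.Agent.CharBase Cfsg.Agent.BlkC
  Cfsg.Agent.Star

open Classical in
/-- the coefficient of `F` on the section of `v` -/
noncomputable def cf {G : Type u} [Group G] [Fintype G] (p n : ℕ) (C : Subgroup G) (Θ : G → ℂ)
    (v : G) (F : G → ℂ) : ℂ :=
  (n : ℂ) / (Nat.card C : ℂ) *
    ∑ g : G, (if g ∈ C ∧ ¬ p ∣ orderOf g then conj (Θ g) * F (v * g) else 0)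

section basic

variable {G : Type u} [Group G] [Fintype G] {p n : ℕ}

theorem cf_congr {C : Subgroup G} {Θ Θ' : G → ℂ} (v : G) {F F' : G → ℂ}
    (h : ∀ g ∈ C, ¬ p ∣ orderOf g → Θ g = Θ' g)
    (h' : ∀ g ∈ C, ¬ p ∣ orderOf g → F (v * g) = F' (v * g)) :
    cf p n C Θ v F = cf p n C Θ' v F' := by
  rw [cf, cf]
  congr 1
  refine Finset.sum_congr rfl fun g _ => ?_
  by_cases hg : g ∈ C ∧ ¬ p ∣ orderOf g
  · rw [if_pos hg, if_pos hg, h g hg.1 hg.2, h' g hg.1 hg.2]
  · rw [if_neg hg, if_neg hg]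

theorem cf_eq {C : Subgroup G} [Fintype C] (θ : C → ℂ) (v : G) (F : G → ℂ) :
    cf p n C (xt C θ) v F = (n : ℂ) / (Nat.card C : ℂ) *
      ∑ c : C, (if p ∣ orderOf c then 0 else conj (θ c) * F (v * (c : G))) := by
  classical
  rw [cf]
  congr 1
  symm
  apply Fintype.sum_of_injective (fun c : C => (c : G)) Subtype.val_injective
  · intro g hg
    rw [if_neg]
    rintro ⟨h, -⟩
    exact hg ⟨⟨g, h⟩, rfl⟩
  · intro c
    rw [xt_coe]
    by_cases hc : p ∣ orderOf c
    · rw [if_pos hc, if_neg]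
      rintro ⟨-, h⟩
      exact h (by rw [Subgroup.orderOf_coe]; exact hc)
    · rw [if_neg hc, if_pos ⟨c.2, by rw [Subgroup.orderOf_coe]; exact hc⟩]

/-- conjugation -/
theorem cf_conj (C : Subgroup G) {Θ Θ' : G → ℂ} (v s : G) {F F' : G → ℂ}
    (hΘ : ∀ g ∈ C, ¬ p ∣ orderOf g → Θ' (s * g * s⁻¹) = Θ g)
    (hF : ∀ g ∈ C, ¬ p ∣ orderOf g → F' (s * (v * g) * s⁻¹) = F (v * g)) :
    cf p n (C.map (MulAut.conj s).toMonoidHom) Θ' (s * v * s⁻¹) F' = cf p n C Θ v F := by
  classical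
  have hord : ∀ z : G, orderOf (s * z * s⁻¹) = orderOf z := fun z =>
    MulEquiv.orderOf_eq (MulAut.conj s) z
  have hmem : ∀ g : G, s * g * s⁻¹ ∈ C.map (MulAut.conj s).toMonoidHom ↔ g ∈ C := by
    intro g
    constructor
    · rintro ⟨t, ht, h⟩
      have h1 : s * t * s⁻¹ = s * g * s⁻¹ := h
      have h2 : t = g := mul_left_cancel (mul_right_cancel h1)
      rw [← h2]; exact ht
    · intro h; exact ⟨g, h, rfl⟩
  rw [cf, cf, Blk.card_map_conj]
  congr 1
  symm
  refine Fintype.sum_equiv (MulAut.conj s).toEquiv _ _ fun g => ?_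
  have h1 : (MulAut.conj s).toEquiv g = s * g * s⁻¹ := rfl
  rw [h1, hord, hmem]
  by_cases hg : g ∈ C ∧ ¬ p ∣ orderOf g
  · rw [if_pos hg, if_pos hg, hΘ g hg.1 hg.2]
    have h2 : s * v * s⁻¹ * (s * g * s⁻¹) = s * (v * g) * s⁻¹ := by group
    rw [h2, hF g hg.1 hg.2]
  · rw [if_neg hg, if_neg hg]

end basic

/-- all members of the block `e` agree with `θ` on the `p`-regular elements -/
structure LocDat (p : ℕ) (M : Ideal AlgInt) {C : Type u} [Group C] [Fintype C]
    (e : Set (IrrCharacter C)) (θ : IrrCharacter C) (n : ℕ) : Prop where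
  blk : IsPBlock M e
  mem : θ ∈ e
  reg : ∀ η ∈ e, ∀ c : C, ¬ p ∣ orderOf c → (η : C → ℂ) c = (θ : C → ℂ) c
  card : Nat.card e = n
  norm : (n : ℂ) * ∑ c : C, (if p ∣ orderOf c then 0 else
    (θ : C → ℂ) c * conj ((θ : C → ℂ) c)) = Nat.card C

section grp

variable {p : ℕ} [hp : Fact p.Prime] {M : Ideal AlgInt} {C : Type u} [Group C] [Fintype C]
  {e : Set (IrrCharacter C)} {θ : IrrCharacter C} {n : ℕ}

theorem one_reg : ¬ p ∣ orderOf (1 : C) := by
  rw [orderOf_one]; exact hp.out.one_lt.ne' ∘ Nat.dvd_one.1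

theorem LocDat.kernel (h : LocDat p M e θ n) {y c : C} (hy : ¬ p ∣ orderOf y)
    (hc : ¬ p ∣ orderOf c) :
    blockKernel e y c = (n : ℂ) * ((θ : C → ℂ) y * conj ((θ : C → ℂ) c)) := by
  rw [blockKernel_eq_Bfin, Finset.sum_congr rfl fun χ hχ => by
    rw [h.reg χ (mem_Bfin.1 hχ) y hy, h.reg χ (mem_Bfin.1 hχ) c hc], Finset.sum_const,
    nsmul_eq_mul, ← h.card, natCard_eq_Bfin]

theorem LocDat.pos (h : LocDat p M e θ n) : 0 < n := by
  rw [← h.card]
  have : Nonempty e := ⟨⟨θ, h.mem⟩⟩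
  exact Nat.card_pos

/-- the data of a block of rank one -/
theorem LocDat.of_rank (hM : IsPModular p M) (he : IsPBlock M e) (hθ : θ ∈ e)
    (hreg : ∀ χ ∈ e, ∀ ψ ∈ e, ∀ x : C, ¬ p ∣ orderOf x → (χ : C → ℂ) x = (ψ : C → ℂ) x)
    (hrank : blockRank p e = 1) : LocDat p M e θ (Nat.card e) := by
  classical
  refine ⟨he, hθ, fun η hη c hc => hreg η hη θ hθ c hc, rfl, ?_⟩
  have h1 := sum_blockKernel_self (p := p) hM he
  rw [hrank, Nat.cast_one, mul_one] at h1
  rw [← h1, Finset.mul_sum]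
  refine Finset.sum_congr rfl fun c _ => ?_
  by_cases hc : p ∣ orderOf c
  · rw [if_pos hc, if_pos hc, mul_zero]
  · rw [if_neg hc, if_neg hc, blockKernel_eq_Bfin, Finset.sum_congr rfl fun χ hχ => by
      rw [hreg χ (mem_Bfin.1 hχ) θ hθ c hc], Finset.sum_const, nsmul_eq_mul, natCard_eq_Bfin]

theorem LocDat.cf_irr (hM : IsPModular p M) (h : LocDat p M e θ n) (η : IrrCharacter C)
    [Decidable (η ∈ e)] :
    (n : ℂ) / (Nat.card C : ℂ) * ∑ c : C, (if p ∣ orderOf c then 0 else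
      conj ((θ : C → ℂ) c) * (η : C → ℂ) c) = if η ∈ e then 1 else 0 := by
  classical
  have hC : (Nat.card C : ℂ) ≠ 0 := by exact_mod_cast Nat.card_pos.ne'
  have hθ1 : (θ : C → ℂ) 1 ≠ 0 := irr_one_ne_zero θ.2
  have h1 := sum_regular_blockKernel_mul hM h.blk (one_reg (p := p)) η
  have h2 : ∑ y : C, (if p ∣ orderOf y then 0 else blockKernel e 1 y * (η : C → ℂ) y) =
      (θ : C → ℂ) 1 * (n * ∑ c : C, (if p ∣ orderOf c then 0 else
      conj ((θ : C → ℂ) c) * (η : C → ℂ) c)) := by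
    rw [Finset.mul_sum, Finset.mul_sum]
    refine Finset.sum_congr rfl fun c _ => ?_
    by_cases hc : p ∣ orderOf c
    · rw [if_pos hc, if_pos hc]; ring
    · rw [if_neg hc, if_neg hc, h.kernel one_reg hc]; ring
  rw [h2] at h1
  by_cases hη : η ∈ e
  · rw [if_pos hη] at h1 ⊢
    rw [h.reg η hη 1 one_reg] at h1
    have h3 : (n : ℂ) * ∑ c : C, (if p ∣ orderOf c then 0 else
      conj ((θ : C → ℂ) c) * (η : C → ℂ) c) = Nat.card C :=
      mul_left_cancel₀ hθ1 (by rw [h1]; ring)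
    rw [div_mul_eq_mul_div, h3, div_self hC]
  · rw [if_neg hη] at h1 ⊢
    rw [div_mul_eq_mul_div, (mul_eq_zero.1 h1).resolve_left hθ1, zero_div]

theorem LocDat.map {C' : Type u} [Group C'] [Fintype C'] (h : LocDat p M e θ n) (φ : C ≃* C') :
    LocDat p M (irrMap φ '' e) (irrMap φ θ) n := by
  classical
  have hord : ∀ c : C', orderOf (φ.symm c) = orderOf c := fun c => MulEquiv.orderOf_eq φ.symm c
  refine ⟨isPBlock_image φ h.blk, ⟨θ, h.mem, rfl⟩, ?_, ?_, ?_⟩
  · rintro _ ⟨η, hη, rfl⟩ c hc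
    rw [irrMap_apply, irrMap_apply]
    exact h.reg η hη _ (by rw [hord]; exact hc)
  · rw [Nat.card_image_of_injective (irrMap φ).injective, h.card]
  · rw [← Nat.card_congr φ.toEquiv, ← h.norm]
    congr 1
    symm
    refine Fintype.sum_equiv φ.toEquiv _ _ fun c => ?_
    have h1 : φ.toEquiv c = φ c := rfl
    rw [h1, ← hord (φ c), MulEquiv.symm_apply_apply, irrMap_apply, MulEquiv.symm_apply_apply]

end grp

section sec

variable {p : ℕ} [hp : Fact p.Prime] {M : Ideal AlgInt} {G : Type u} [Group G] [Fintype G]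
  {C : Subgroup G} [Fintype C] {e : Set (IrrCharacter C)} {θ : IrrCharacter C} {n : ℕ}

theorem LocDat.dpart (hM : IsPModular p M) (h : LocDat p M e θ n) (v : G) (F : G → ℂ) {s : C}
    (hs : ¬ p ∣ orderOf s) :
    BlkC.dpart p v e F s = cf p n C (xt C (θ : C → ℂ)) v F * (θ : C → ℂ) s := by
  classical
  rw [dpart_eq hM h.blk F hs, cf_eq]
  have h1 : ∀ c : C, (if p ∣ orderOf c then 0 else blockKernel e s c * F (v * (c : G))) =
      (n : ℂ) * (θ : C → ℂ) s * (if p ∣ orderOf c then 0 else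
        conj ((θ : C → ℂ) c) * F (v * (c : G))) := by
    intro c
    by_cases hc : p ∣ orderOf c
    · rw [if_pos hc, if_pos hc, mul_zero]
    · rw [if_neg hc, if_neg hc, h.kernel hs hc]; ring
  rw [Finset.sum_congr rfl fun c _ => h1 c, ← Finset.mul_sum]
  ring

/-- characters outside the block do not see the section -/
theorem LocDat.cf_eq_zero (hM : IsPModular p M) (h : LocDat p M e θ n) {v : G}
    (hv : ∃ k : ℕ, orderOf v = p ^ k) (hC : C = Subgroup.centralizer ({v} : Set G))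
    {B : Set (IrrCharacter G)} (hind : IsInducedBlock M C e B) {ψ : IrrCharacter G}
    (hψ : ψ ∉ B) : cf p n C (xt C (θ : C → ℂ)) v (ψ : G → ℂ) = 0 := by
  have h1 := h.dpart hM v (ψ : G → ℂ) (one_reg (p := p))
  rw [dpart_eq_zero_of_notMem hM hv hC hind hψ] at h1
  exact (mul_eq_zero.1 h1.symm).resolve_right (irr_one_ne_zero θ.2)

/-- **orthogonality** -/
theorem LocDat.sum_cf (hM : IsPModular p M) (h : LocDat p M e θ n) {v : G}
    (hv : ∃ k : ℕ, orderOf v = p ^ k) (hC : C = Subgroup.centralizer ({v} : Set G))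
    {B : Set (IrrCharacter G)} (hind : IsInducedBlock M C e B) :
    ∑ ψ ∈ Bfin B, cf p n C (xt C (θ : C → ℂ)) v (ψ : G → ℂ) *
      conj (cf p n C (xt C (θ : C → ℂ)) v (ψ : G → ℂ)) = n := by
  classical
  have hθ1 : (θ : C → ℂ) 1 ≠ 0 := irr_one_ne_zero θ.2
  have h1 := sum_dpart_mul_conj_block hM hv hC hind (one_reg (p := p)) (one_reg (p := p))
  rw [h.kernel one_reg one_reg] at h1
  have h2 : ∀ ψ ∈ Bfin B, BlkC.dpart p v e (ψ : G → ℂ) 1 * conj (BlkC.dpart p v e (ψ : G → ℂ) 1) =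
      (cf p n C (xt C (θ : C → ℂ)) v (ψ : G → ℂ) *
      conj (cf p n C (xt C (θ : C → ℂ)) v (ψ : G → ℂ))) *
        ((θ : C → ℂ) 1 * conj ((θ : C → ℂ) 1)) := by
    intro ψ _
    rw [h.dpart hM v _ one_reg, map_mul]; ring
  rw [Finset.sum_congr rfl h2, ← Finset.sum_mul] at h1
  refine mul_right_cancel₀ (mul_ne_zero hθ1 ?_) h1
  rw [Ne, map_eq_zero]; exact hθ1

/-- **orthogonality**, different blocks -/
theorem sum_cf_of_ne (hM : IsPModular p M) [Fintype (IrrCharacter G)] {v : G}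
    (hv : ∃ k : ℕ, orderOf v = p ^ k) (hC : C = Subgroup.centralizer ({v} : Set G))
    (h : LocDat p M e θ n) {e' : Set (IrrCharacter C)} {θ' : IrrCharacter C}
    (h' : LocDat p M e' θ' n) (hne : e ≠ e') :
    ∑ ψ : IrrCharacter G, cf p n C (xt C (θ : C → ℂ)) v (ψ : G → ℂ) *
      conj (cf p n C (xt C (θ' : C → ℂ)) v (ψ : G → ℂ)) = 0 := by
  classical
  have hθ1 : (θ : C → ℂ) 1 ≠ 0 := irr_one_ne_zero θ.2
  have hθ1' : (θ' : C → ℂ) 1 ≠ 0 := irr_one_ne_zero θ'.2
  have h1 := sum_dpart_mul_conj hM hv hC h.blk h'.blk (one_reg (p := p)) (one_reg (p := p))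
  rw [if_neg hne] at h1
  have h2 : ∀ ψ : IrrCharacter G,
      BlkC.dpart p v e (ψ : G → ℂ) 1 * conj (BlkC.dpart p v e' (ψ : G → ℂ) 1) =
      (cf p n C (xt C (θ : C → ℂ)) v (ψ : G → ℂ) *
      conj (cf p n C (xt C (θ' : C → ℂ)) v (ψ : G → ℂ))) *
        ((θ : C → ℂ) 1 * conj ((θ' : C → ℂ) 1)) := by
    intro ψ
    rw [h.dpart hM v _ one_reg, h'.dpart hM v _ one_reg, map_mul]; ring
  rw [Finset.sum_congr rfl fun ψ _ => h2 ψ, ← Finset.sum_mul] at h1
  refine (mul_eq_zero.1 h1).resolve_right (mul_ne_zero hθ1 ?_)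
  rw [Ne, map_eq_zero]; exact hθ1'

/-- **orthogonality**, different sections -/
theorem sum_cf_of_not_conj [Fintype (IrrCharacter G)] {v v' : G}
    (hv : ∃ k : ℕ, orderOf v = p ^ k) (hv' : ∃ k : ℕ, orderOf v' = p ^ k)
    {C' : Subgroup G} [Fintype C'] (hC : ∀ c ∈ C, v * c = c * v) (hC' : ∀ c ∈ C', v' * c = c * v')
    (Θ Θ' : G → ℂ) (hne : ∀ g : G, g * v * g⁻¹ ≠ v') {n n' : ℕ} :
    ∑ ψ : IrrCharacter G, cf p n C Θ v (ψ : G → ℂ) * conj (cf p n' C' Θ' v' (ψ : G → ℂ)) = 0 := by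
  classical
  have h1 : ∀ ψ : IrrCharacter G, cf p n C Θ v (ψ : G → ℂ) *
      conj (cf p n' C' Θ' v' (ψ : G → ℂ)) =
      (n : ℂ) / (Nat.card C : ℂ) * conj ((n' : ℂ) / (Nat.card C' : ℂ)) * ∑ g : G, ∑ g' : G,
        (if (g ∈ C ∧ ¬ p ∣ orderOf g) ∧ (g' ∈ C' ∧ ¬ p ∣ orderOf g') then
          conj (Θ g) * Θ' g' * ((ψ : G → ℂ) (v * g) * conj ((ψ : G → ℂ) (v' * g'))) else 0) := by
    intro ψ
    rw [cf, cf, map_mul, map_sum, mul_mul_mul_comm, Finset.sum_mul_sum]
    congr 1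
    refine Finset.sum_congr rfl fun g _ => Finset.sum_congr rfl fun g' _ => ?_
    by_cases hg : g ∈ C ∧ ¬ p ∣ orderOf g
    · by_cases hg' : g' ∈ C' ∧ ¬ p ∣ orderOf g'
      · rw [if_pos hg, if_pos hg', if_pos ⟨hg, hg'⟩, map_mul, Complex.conj_conj]; ring
      · have hn : ¬ ((g ∈ C ∧ ¬ p ∣ orderOf g) ∧ (g' ∈ C' ∧ ¬ p ∣ orderOf g')) := fun h => hg' h.2
        rw [if_neg hg', if_neg hn, map_zero, mul_zero]
    · have hn : ¬ ((g ∈ C ∧ ¬ p ∣ orderOf g) ∧ (g' ∈ C' ∧ ¬ p ∣ orderOf g')) := fun h => hg h.1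
      rw [if_neg hg, if_neg hn, zero_mul]
  rw [Finset.sum_congr rfl fun ψ _ => h1 ψ, ← Finset.mul_sum, Finset.sum_comm]
  apply mul_eq_zero_of_right
  refine Finset.sum_eq_zero fun g _ => ?_
  rw [Finset.sum_comm]
  refine Finset.sum_eq_zero fun g' _ => ?_
  by_cases hgg : (g ∈ C ∧ ¬ p ∣ orderOf g) ∧ (g' ∈ C' ∧ ¬ p ∣ orderOf g')
  · simp only [if_pos hgg]
    rw [← Finset.mul_sum, column_orthogonality, if_neg, mul_zero]
    intro hconj
    obtain ⟨x, hx⟩ := isConj_iff.1 hconj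
    apply hne x
    have h2 := isPPart_mul hv hgg.1.2 (hC g hgg.1.1)
    have h3 := isPPart_mul hv' hgg.2.2 (hC' g' hgg.2.1)
    have h4 := isPPart_conj' h2 x
    rw [hx] at h4
    exact BlkInd.isPPart_unique hp.out h4 h3
  · simp [if_neg hgg]

end sec

section star

variable {p : ℕ} [hp : Fact p.Prime] {M : Ideal AlgInt} [hMp : M.IsPrime]
  {G : Type u} [Group G] [Fintype G]

/-- the Broué–Puig product multiplies the coefficient -/
theorem LocDat.cf_wstar (hM : IsPModular p M) {w : G → MonoidAlgebra (kM M) G → ℂ} {χ : G → ℂ}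
    (hχ : IsClassFunction G χ) {v : G} (hv : ∃ k : ℕ, orderOf v = p ^ k)
    [Fintype (Subgroup.centralizer (Subgroup.zpowers v : Set G))]
    {e : Set (IrrCharacter (Subgroup.centralizer (Subgroup.zpowers v : Set G)))}
    {θ : IrrCharacter (Subgroup.centralizer (Subgroup.zpowers v : Set G))} {n : ℕ}
    (h : LocDat p M e θ n) :
    cf p n (Subgroup.centralizer (Subgroup.zpowers v : Set G))
        (xt (Subgroup.centralizer (Subgroup.zpowers v : Set G)) (θ : _ → ℂ)) v
      (wstar p w χ) = w v (EB M _ e) *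
      cf p n (Subgroup.centralizer (Subgroup.zpowers v : Set G))
        (xt (Subgroup.centralizer (Subgroup.zpowers v : Set G)) (θ : _ → ℂ)) v χ := by
  have h1 := h.dpart hM v (wstar p w χ) (one_reg (p := p))
  rw [dpart_wstar hM hχ hv h.blk, Pi.smul_apply, smul_eq_mul, h.dpart hM v χ (one_reg (p := p)),
    ← mul_assoc] at h1
  exact (mul_right_cancel₀ (irr_one_ne_zero θ.2) h1).symm

theorem Tc_sub_fun {H : Type u} [Group H] [Fintype H] (χ : H → ℂ) (c : ℂ) (x : MonoidAlgebra ℂ H) :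
    Tc (fun h => c * χ h) x = c * Tc χ x := by
  rw [Tc_eq, Tc_eq, Finset.mul_sum]
  exact Finset.sum_congr rfl fun g _ => by ring

/-- the block idempotent acts on traces as the block projection -/
theorem Tc_blockCoeff_mul {H : Type u} [Group H] [Fintype H] (e : Set (IrrCharacter H))
    {F : H → ℂ} (hF : IsClassFunction H F) (y : MonoidAlgebra ℂ H) :
    Tc F (ofFun (blockCoeff e) * y) = Tc (blockPart e F) y := by
  rw [Tc_mul, Finset.sum_comm, Tc_eq]
  refine Finset.sum_congr rfl fun h _ => ?_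
  rw [← sum_blockCoeff_mul e hF h, Finset.mul_sum]
  refine Finset.sum_congr rfl fun g _ => ?_
  rw [ofFun_coeff, classFun_mul_comm hF g h]
  ring

theorem blockPart_isClassFunction {H : Type u} [Group H] [Fintype H] (e : Set (IrrCharacter H))
    (F : H → ℂ) : IsClassFunction H (blockPart e F) := by
  intro g h
  rw [blockPart_eq_Bfin, blockPart_eq_Bfin]
  exact Finset.sum_congr rfl fun χ _ => by rw [irr_isClassFunction χ]

/-- the value of `tv` through the coefficient -/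
theorem LocDat.tv_eq (hM : IsPModular p M) {v : G} (hv : IsPGroup p (Subgroup.zpowers v))
    [Fintype (Subgroup.centralizer (Subgroup.zpowers v : Set G))]
    {e : Set (IrrCharacter (Subgroup.centralizer (Subgroup.zpowers v : Set G)))}
    {θ : IrrCharacter (Subgroup.centralizer (Subgroup.zpowers v : Set G))} {n : ℕ}
    (h : LocDat p M e θ n) {i : MonoidAlgebra (kM M) G} (hi : Fixed (Subgroup.zpowers v) i)
    (hii : i * i = i)
    (hbr : EB M _ e * br (Subgroup.zpowers v) i = br (Subgroup.zpowers v) i)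
    {χ : G → ℂ} (hχ : IsClassFunction G χ) :
    tv M χ v i = cf p n (Subgroup.centralizer (Subgroup.zpowers v : Set G))
        (xt (Subgroup.centralizer (Subgroup.zpowers v : Set G)) (θ : _ → ℂ)) v χ *
      tv M (θ : Subgroup.centralizer (Subgroup.zpowers v : Set G) → ℂ) 1
        (res (Subgroup.centralizer (Subgroup.zpowers v : Set G)) (br (Subgroup.zpowers v) i)) := by
  classical
  have := charP_kM hM
  obtain ⟨C, hC⟩ : ∃ C, C = Subgroup.centralizer (Subgroup.zpowers v : Set G) := ⟨_, rfl⟩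
  obtain ⟨j, hj⟩ : ∃ j, j = res (Subgroup.centralizer (Subgroup.zpowers v : Set G))
    (br (Subgroup.zpowers v) i) := ⟨_, rfl⟩
  have hbrb : br (Subgroup.zpowers v) i * br (Subgroup.zpowers v) i =
      br (Subgroup.zpowers v) i := by rw [← br_mul hv hi hi, hii]
  have hij : incl (Subgroup.centralizer (Subgroup.zpowers v : Set G)) j =
      br (Subgroup.zpowers v) i := by rw [hj]; exact incl_res (supp_br _ _)
  have hjj : j * j = j := by
    apply incl_injective
    rw [incl_mul, hij, hbrb]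
  have hej : eB M e * j = j := by
    apply incl_injective
    rw [incl_mul, hij, ← EB_eq, hbr]
  have hje : j * eB M e = j := by
    have h1 := (isBlk_eB h.blk).fixed
    have h2 : eB M e * j = j * eB M e := mul_comm_of_fixed (H := ⊤) h1 (supp_top _)
    rw [← h2, hej]
  -- the lift in the corner
  have hcl := isCL_blockCoeff (M := M) h.blk
  have hx : IsLift M (Subgroup.zpowers (1 : Subgroup.centralizer (Subgroup.zpowers v : Set G)))
      (eB M e) (ofFun (blockCoeff e)) :=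
    ⟨hcl.lr, hcl.fixed.mono le_top, hcl.idem, hcl.red⟩
  have hjf : Fixed (Subgroup.zpowers (1 : Subgroup.centralizer (Subgroup.zpowers v : Set G))) j := by
    intro x hx
    rw [Subgroup.zpowers_one_eq_bot, Subgroup.mem_bot] at hx
    rw [hx, cj_one_left]
  obtain ⟨y, hy, hxy, -⟩ := exists_lift_corner hx hjf hjj hej hje
  rw [← hj, Star.tv_eq (irr_isClassFunction θ) hy]
  have h1y : MonoidAlgebra.single (1 : Subgroup.centralizer (Subgroup.zpowers v : Set G)) (1 : ℂ) *
      y = y := by rw [← one_def, one_mul]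
  rw [h1y]
  -- the lift in `G`
  have hycoef : ∀ c : Subgroup.centralizer (Subgroup.zpowers v : Set G),
      (incl _ y).coeff (c : G) = y.coeff c := fun c => incl_coeff_coe y c
  have hly : IsLift M (Subgroup.zpowers v) (br (Subgroup.zpowers v) i) (incl _ y) := by
    refine ⟨?_, ?_, ?_, ?_⟩
    · intro g
      by_cases hg : g ∈ Subgroup.centralizer (Subgroup.zpowers v : Set G)
      · rw [incl_coeff_of_mem _ hg]; exact hy.lr _
      · rw [incl_coeff_of_notMem _ hg]; exact mlr_zero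
    · exact (supp_incl y).fixed_of_centralizer
    · rw [← incl_mul, hy.idem]
    · rw [← hij]
      apply Blk.ga_ext; intro g
      rw [red_coeff]
      by_cases hg : g ∈ Subgroup.centralizer (Subgroup.zpowers v : Set G)
      · rw [incl_coeff_of_mem _ hg, incl_coeff_of_mem _ hg, ← red_coeff, hy.red]
      · rw [incl_coeff_of_notMem _ hg, incl_coeff_of_notMem _ hg, rd_zero]
  rw [tv_br hM hχ hv hi hii, Star.tv_eq hχ hly, Tc_single_mul]
  have hF := shiftC_isClassFunction (C := Subgroup.centralizer (Subgroup.zpowers v : Set G))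
    (cent_comm v) hχ
  have h2 : ∑ g : G, (incl (Subgroup.centralizer (Subgroup.zpowers v : Set G)) y).coeff g *
      χ (v * g) = Tc (shiftC (Subgroup.centralizer (Subgroup.zpowers v : Set G)) v χ) y := by
    rw [Tc_eq]
    symm
    apply Fintype.sum_of_injective
      (fun c : Subgroup.centralizer (Subgroup.zpowers v : Set G) => (c : G)) Subtype.val_injective
    · intro g hg
      rw [incl_coeff_of_notMem _ (fun h => hg ⟨⟨g, h⟩, rfl⟩), zero_mul]
    · intro c
      rw [hycoef]; rfl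
  rw [h2]
  nth_rewrite 1 [← hxy]
  rw [Tc_blockCoeff_mul e hF, ← Tc_sub_fun]
  refine Tc_congr_reg hM hy.lr hy.idem (blockPart_isClassFunction e _)
    (fun g h => by simp only [irr_isClassFunction θ g h]) fun g hg => ?_
  rw [← h.dpart hM v χ hg, BlkC.dpart, pRegularPart_apply_of_reg hg]

end star

end Cfsg.Agent.AbFree
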