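import Cfsg.Agent.AbFree.Gram
import Cfsg.Agent.H4.SecSum
import Cfsg.Agent.H79.FixRk

/-!
# `k(B) - l(B)` (owner: helper78)
-/

set_option autoImplicit false
set_option linter.unusedSectionVars false
set_option linter.style.haveILetI false

universe u

namespace Cfsg.Agent.AbFree

open scoped ComplexConjugate
open MonoidAlgebra Cfsg Cfsg.Agent.Blk Cfsg.Agent.BlkF Cfsg.Agent.CharBase Cfsg.Agent.BlkC
  Cfsg.Agent.Star Cfsg.Agent.Cyc

section

variable {p : ℕ} [hp : Fact p.Prime] {M : Ideal AlgInt} [hMp : M.IsPrime]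
  {G : Type u} [Group G] [Fintype G] {P : Subgroup G} {e : MonoidAlgebra (kM M) G}

theorem ind_iff' (hM : IsPModular p M) {B : Set (IrrCharacter G)} (hB : IsPBlock M B)
    {V C : Subgroup G} (hC : C = Subgroup.centralizer (V : Set G)) (hV : IsPGroup p V)
    {b : Set (IrrCharacter C)} (hb : IsPBlock M b) :
    IsInducedBlock M C b B ↔ MPairOf p (eB M B) V (EB M C b) := by
  subst hC
  exact isInducedBlock_iff_pair hM hV hb hB

theorem rank_one_of_conj (c : Ctx p M P e) {C V : Subgroup G}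
    (hC : C = Subgroup.centralizer (V : Set G)) (hV : V ≠ ⊥) {b : Set (IrrCharacter C)}
    (hb : IsPBlock M b) {g : G}
    (hle : MLe p (V.map (MulAut.conj g).toMonoidHom) (Blk.cj g (EB M C b)) P e) :
    blockRank p b = 1 := by
  subst hC
  haveI : Fintype (Subgroup.centralizer
    ((V.map (MulAut.conj g).toMonoidHom : Subgroup G) : Set G)) := Fintype.ofFinite _
  have hV' : V.map (MulAut.conj g).toMonoidHom ≠ ⊥ := by
    intro h
    exact hV ((Subgroup.map_eq_bot_iff_of_injective V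
      (f := (MulAut.conj g).toMonoidHom) (MulAut.conj g).injective).1 h)
  rw [← EB_conjBlock] at hle
  obtain ⟨k2, k1, k3, hn, S, -⟩ := c.nil hV' (isPBlock_conjBlock V g hb) hle
  obtain ⟨-, -, -, hrank, -⟩ := nilp_abelian c.hM (isPBlock_conjBlock V g hb) k2 k1 k3 hn S.comm
  rw [conjBlock_eq, H79.blockRank_image] at hrank
  exact hrank

theorem kl_count (c : Ctx p M P e) {B : Set (IrrCharacter G)} (hB : IsPBlock M B)
    (hb : MPairOf p (eB M B) P e) :
    ∃ r, Nat.card B = blockRank p B + r ∧ r * Nat.card (inE P e) = Nat.card P - 1 := by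
  classical
  haveI := charP_kM c.hM
  have hPp := c.max.1.isPGroup
  obtain ⟨th, hth⟩ := exists_fam c.hM c.max
  obtain ⟨X, hX⟩ := H4.exists_isNTRep G p
  have h1 := H4.card_eq_add_sum c.hM hB hX
  haveI : Fintype P := Fintype.ofFinite _
  haveI : Finite (MulAut P) := finite_mulAut
  haveI : Fintype (inE P e) := Fintype.ofFinite _
  have hzp : ∀ x : G, Subgroup.centralizer ({x} : Set G) =
      Subgroup.centralizer (Subgroup.zpowers x : Set G) := fun x => (centralizer_zpowers_eq x).symm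
  have hpx : ∀ x ∈ X, IsPGroup p (Subgroup.zpowers x) := by
    intro x hx
    obtain ⟨k, hk⟩ := hX.pel x hx
    exact IsPGroup.of_card (n := k) (by rw [Nat.card_zpowers, hk])
  -- `f u`
  obtain ⟨f, hf⟩ : ∃ f : P → MonoidAlgebra (kM M) G, f = fun u : P =>
      EB M _ (blockOf M (th (Subgroup.zpowers (u : G))).1) := ⟨_, rfl⟩
  have hfle : ∀ u : P, MLe p (Subgroup.zpowers (u : G)) (f u) P e := by
    intro u
    rw [hf]
    exact hth _ (by rw [Subgroup.zpowers_le]; exact u.2)
  have hfb : ∀ u : P, IsBlk (Subgroup.centralizer (Subgroup.zpowers (u : G) : Set G)) (f u) := by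
    intro u
    rw [hf]
    exact isBlk_EB (isPBlock_blockOf _)
  have hfu : ∀ (u : P) (f' : MonoidAlgebra (kM M) G), MLe p (Subgroup.zpowers (u : G)) f' P e →
      f' = f u := fun u f' h => MLe.unique c.max.1 _ _ _ h (hfle u)
  -- the existence of a conjugate
  have hex : ∀ x ∈ X, ∀ b ∈ H4.indB M (Subgroup.centralizer ({x} : Set G)) B, ∃ g : G,
      MLe p ((Subgroup.zpowers x).map (MulAut.conj g).toMonoidHom) (Blk.cj g (EB M _ b)) P e := by
    intro x hx b hbx
    rw [H4.mem_indB] at hbx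
    have h2 := (ind_iff' c.hM hB (hzp x) (hpx x hx) hbx.1).1 hbx
    exact c.max.exists_conj_le hb h2
  have hrank : ∀ x ∈ X, ∀ b ∈ H4.indB M (Subgroup.centralizer ({x} : Set G)) B,
      blockRank p b = 1 := by
    intro x hx b hbx
    obtain ⟨g, hg⟩ := hex x hx b hbx
    rw [H4.mem_indB] at hbx
    exact rank_one_of_conj c (hzp x) (zp_ne_bot (hX.ne_one x hx)) hbx.1 hg
  rw [Finset.sum_congr rfl fun x hx => Finset.sum_congr rfl fun b hbx => hrank x hx b hbx] at h1
  refine ⟨_, h1, ?_⟩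
  obtain ⟨U, hU⟩ : ∃ U : (x : G) → Set (IrrCharacter (Subgroup.centralizer ({x} : Set G))) →
      Finset P, U = fun x b => Finset.univ.filter (fun u : P =>
        ∃ g : G, g * x * g⁻¹ = u ∧ Blk.cj g (EB M _ b) = f u) := ⟨_, rfl⟩
  have hmemU : ∀ (x : G) (b : Set (IrrCharacter (Subgroup.centralizer ({x} : Set G)))) (u : P),
      u ∈ U x b ↔ ∃ g : G, g * x * g⁻¹ = u ∧ Blk.cj g (EB M _ b) = f u := by
    intro x b u
    rw [hU, Finset.mem_filter]
    exact ⟨fun h => h.2, fun h => ⟨Finset.mem_univ _, h⟩⟩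
  -- cardinality
  have hcard : ∀ x ∈ X, ∀ b ∈ H4.indB M (Subgroup.centralizer ({x} : Set G)) B,
      (U x b).card = Nat.card (inE P e) := by
    intro x hx b hbx
    obtain ⟨g₀, hg₀⟩ := hex x hx b hbx
    have hu₀ : g₀ * x * g₀⁻¹ ∈ P := hg₀.le ⟨x, Subgroup.mem_zpowers x, rfl⟩
    obtain ⟨u₀, hu₀e⟩ : ∃ u₀ : P, (u₀ : G) = g₀ * x * g₀⁻¹ := ⟨⟨_, hu₀⟩, rfl⟩
    rw [← zpowers_conj, ← hu₀e] at hg₀
    have hfu₀ := hfu u₀ _ hg₀
    have hu₀1 : u₀ ≠ 1 := by
      intro h
      rw [h, OneMemClass.coe_one] at hu₀e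
      apply hX.ne_one x hx
      have : x = g₀⁻¹ * (g₀ * x * g₀⁻¹) * g₀ := by group
      rw [this, ← hu₀e]; group
    have himg : U x b = Finset.univ.image (fun σ : inE P e => (σ : MulAut P) u₀) := by
      ext u
      rw [hmemU, Finset.mem_image]
      constructor
      · rintro ⟨g, hg1, hg2⟩
        have h3 : (g * g₀⁻¹) * u₀ * (g * g₀⁻¹)⁻¹ = u := by
          rw [hu₀e, ← hg1]; group
        have h4 : Blk.cj (g * g₀⁻¹) (f u₀) = f u := by
          rw [← hfu₀, cj_cj, ← hg2]
          congr 1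
          group
        have h5 : MLe p (cjS (g * g₀⁻¹) (Subgroup.zpowers (u₀ : G)))
            (Blk.cj (g * g₀⁻¹) (f u₀)) P e := by
          have h6 : cjS (g * g₀⁻¹) (Subgroup.zpowers (u₀ : G)) = Subgroup.zpowers (u : G) := by
            rw [← h3, zpowers_conj]
          rw [h6, h4]
          exact hfle u
        obtain ⟨y, hy, t, ht, hgt⟩ := fusion_of_comm c.max c.comm (hfle u₀) h5
        refine ⟨⟨actHom P _ (stab_le _ _) ⟨y, hy⟩, ⟨_, rfl⟩⟩, Finset.mem_univ _, ?_⟩
        apply Subtype.ext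
        rw [actHom_apply]
        have h7 : (u : G) ∈ cjS (g * g₀⁻¹) (Subgroup.zpowers (u₀ : G)) :=
          ⟨u₀, Subgroup.mem_zpowers _, h3⟩
        have h8 := Subgroup.mem_centralizer_iff.1 ht _ h7
        change y * (u₀ : G) * y⁻¹ = u
        have h9 : y * (u₀ : G) * y⁻¹ = t⁻¹ * ((g * g₀⁻¹) * u₀ * (g * g₀⁻¹)⁻¹) * t := by
          rw [hgt]; group
        rw [h9, h3, mul_assoc, h8]
        group
      · rintro ⟨σ, -, rfl⟩
        obtain ⟨s, hs, hσs⟩ := mem_inE.1 σ.2
        refine ⟨s * g₀, ?_, ?_⟩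
        · rw [hσs, hu₀e]; group
        · rw [← cj_cj, hfu₀]
          apply hfu
          rw [hσs, zpowers_conj]
          exact mle_stab hs (hfle u₀)
    rw [himg, Finset.card_image_of_injective, Finset.card_univ, Nat.card_eq_fintype_card]
    intro σ τ h
    have h3 : (σ : MulAut P) u₀ = (τ : MulAut P) u₀ := h
    apply Subtype.ext
    by_contra hne
    have h4 : ((τ : MulAut P)⁻¹ * σ) u₀ = u₀ := by
      rw [MulAut.mul_apply, h3, ← MulAut.mul_apply, inv_mul_cancel, MulAut.one_apply]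
    exact inE_free c _ ((inE P e).mul_mem ((inE P e).inv_mem τ.2) σ.2)
      (fun h => hne (inv_mul_eq_one.1 h).symm) u₀ hu₀1 h4
  -- the partition
  have hunion : (Finset.univ.erase (1 : P)) = X.biUnion (fun x =>
      (H4.indB M (Subgroup.centralizer ({x} : Set G)) B).biUnion (U x)) := by
    ext u
    rw [Finset.mem_erase, Finset.mem_biUnion]
    constructor
    · rintro ⟨hu, -⟩
      have hu1 : (u : G) ≠ 1 := fun h => hu (Subtype.ext h)
      obtain ⟨x, ⟨hx, hcj⟩, -⟩ := hX.rep u (exists_orderOf hPp u.2) hu1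
      obtain ⟨g, hg⟩ := isConj_iff.1 hcj.symm
      have hzx : (Subgroup.zpowers (u : G)).map (MulAut.conj g⁻¹).toMonoidHom =
          Subgroup.zpowers x := by
        rw [← zpowers_conj, ← hg]
        congr 1
        group
      have hblk : IsBlk (Subgroup.centralizer ({x} : Set G)) (Blk.cj g⁻¹ (f u)) := by
        rw [hzp, ← hzx, ← map_conj_centralizer]
        exact (hfb u).cj g⁻¹
      obtain ⟨b, hbb, hbe⟩ := exists_EB hblk
      refine ⟨x, hx, ?_⟩
      rw [Finset.mem_biUnion]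
      refine ⟨b, ?_, ?_⟩
      · rw [H4.mem_indB, ind_iff' c.hM hB (hzp x) (hpx x hx) hbb, hbe, ← hzx]
        have h3 : MPairOf p (eB M B) (Subgroup.zpowers (u : G)) (f u) :=
          ((hfle u).pairOf_iff c.max.1).1 hb
        have h4 := h3.cj g⁻¹
        exact h4
      · rw [hmemU]
        refine ⟨g, hg, ?_⟩
        rw [hbe, cj_cj, mul_inv_cancel, cj_one_left]
    · rintro ⟨x, hx, hu⟩
      rw [Finset.mem_biUnion] at hu
      obtain ⟨b, hbx, hu⟩ := hu
      rw [hmemU] at hu
      obtain ⟨g, hg, -⟩ := hu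
      refine ⟨?_, Finset.mem_univ _⟩
      rintro rfl
      apply hX.ne_one x hx
      have : x = g⁻¹ * (g * x * g⁻¹) * g := by group
      rw [this, hg, OneMemClass.coe_one]; group
  have hcardP : (Finset.univ.erase (1 : P)).card = Nat.card P - 1 := by
    rw [Finset.card_erase_of_mem (Finset.mem_univ _), Finset.card_univ, Nat.card_eq_fintype_card]
  rw [← hcardP, hunion, Finset.card_biUnion]
  · rw [Finset.sum_mul]
    refine Finset.sum_congr rfl fun x hx => ?_
    rw [Finset.card_biUnion]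
    · rw [Finset.sum_mul]
      refine Finset.sum_congr rfl fun b hbx => ?_
      rw [hcard x hx b hbx, one_mul]
    · intro b hbx b' hbx' hne
      rw [Function.onFun, Finset.disjoint_left]
      intro u hu hu'
      rw [hmemU] at hu hu'
      obtain ⟨g, hg1, hg2⟩ := hu
      obtain ⟨g', hg1', hg2'⟩ := hu'
      rw [Finset.mem_coe, H4.mem_indB] at hbx hbx'
      apply hne
      apply EB_injective hbx.1 hbx'.1
      have h3 : g'⁻¹ * g ∈ Subgroup.centralizer ({x} : Set G) := by
        rw [Subgroup.mem_centralizer_singleton_iff]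
        have h4 : g * x * g⁻¹ = g' * x * g'⁻¹ := by rw [hg1, hg1']
        calc g'⁻¹ * g * x = g'⁻¹ * (g * x * g⁻¹) * g := by group
          _ = g'⁻¹ * (g' * x * g'⁻¹) * g := by rw [h4]
          _ = x * (g'⁻¹ * g) := by group
      have h5 := (isBlk_EB hbx.1).fixed _ h3
      rw [← h5, ← cj_cj, hg2, ← hg2', cj_cj, inv_mul_cancel, cj_one_left]
  · intro x hx x' hx' hne
    rw [Function.onFun, Finset.disjoint_left]
    intro u hu hu'
    rw [Finset.mem_biUnion] at hu hu'
    obtain ⟨b, -, hu⟩ := hu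
    obtain ⟨b', -, hu'⟩ := hu'
    rw [hmemU] at hu hu'
    obtain ⟨g, hg1, -⟩ := hu
    obtain ⟨g', hg1', -⟩ := hu'
    apply hne
    have hu1 : (u : G) ≠ 1 := by
      intro h
      rw [h] at hg1
      apply hX.ne_one x hx
      have : x = g⁻¹ * (g * x * g⁻¹) * g := by group
      rw [this, hg1]; group
    exact (hX.rep u (exists_orderOf hPp u.2) hu1).unique
      ⟨hx, (isConj_iff.2 ⟨g, hg1⟩).symm⟩ ⟨hx', (isConj_iff.2 ⟨g', hg1'⟩).symm⟩

end

end Cfsg.Agent.AbFree
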