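import Cfsg.Agent.AbFree.Coef
import Cfsg.Agent.Cyc.Transport
import Cfsg.Agent.Cyc.NilAb

/-!
# Transport from a local subgroup (owner: helper78)
-/

set_option autoImplicit false
set_option linter.unusedSectionVars false
set_option linter.style.haveILetI false

universe u

namespace Cfsg.Agent.AbFree

open scoped ComplexConjugate
open MonoidAlgebra Cfsg Cfsg.Agent.Blk Cfsg.Agent.BlkF Cfsg.Agent.CharBase Cfsg.Agent.BlkC
  Cfsg.Agent.Star Cfsg.Agent.Cyc

section cut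

variable {G : Type u} [Group G] {H C : Subgroup G} {C' : Subgroup H}

/-- the same subgroup, inside `H` -/
def cut (hCH : C ≤ H) (h : ∀ x : H, x ∈ C' ↔ (x : G) ∈ C) : C ≃* C' where
  toFun c := ⟨⟨c, hCH c.2⟩, (h _).2 c.2⟩
  invFun c := ⟨((c : H) : G), (h _).1 c.2⟩
  left_inv _ := rfl
  right_inv _ := rfl
  map_mul' _ _ := rfl

theorem cut_coe (hCH : C ≤ H) (h : ∀ x : H, x ∈ C' ↔ (x : G) ∈ C) (c : C) :
    ((cut hCH h c : H) : G) = c := rfl

theorem cut_symm_coe (hCH : C ≤ H) (h : ∀ x : H, x ∈ C' ↔ (x : G) ∈ C) (c : C') :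
    (((cut hCH h).symm c : C) : G) = (c : H) := rfl

theorem cut_symm_mk (hCH : C ≤ H) (h : ∀ x : H, x ∈ C' ↔ (x : G) ∈ C) (x : H) (hx : x ∈ C') :
    (cut hCH h).symm ⟨x, hx⟩ = ⟨(x : G), (h x).1 hx⟩ := rfl

variable [Fintype G] {M : Ideal AlgInt} [hMp : M.IsPrime]

theorem EB_cut [Fintype H] (hCH : C ≤ H) (h : ∀ x : H, x ∈ C' ↔ (x : G) ∈ C)
    (c : Set (IrrCharacter C)) :
    EB M C' (irrMap (cut hCH h) '' c) = res H (EB M C c) := by
  classical
  apply Blk.ga_ext; intro x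
  have h1 : (res H (EB M C c)).coeff x = (EB M C c).coeff (x : G) := rfl
  rw [h1, EB_coeff, EB_coeff]
  congr 1
  unfold subgroupBlockCoeff
  by_cases hx : x ∈ C'
  · rw [dif_pos hx, dif_pos ((h x).1 hx), blockCoeff_image]
    rfl
  · rw [dif_neg hx, dif_neg (fun h' => hx ((h x).2 h'))]

theorem res_res_cut [Fintype H] (hCH : C ≤ H) (h : ∀ x : H, x ∈ C' ↔ (x : G) ∈ C)
    {k : Type*} [Field k] (i : MonoidAlgebra k G) :
    res C' (res H i) = tm (cut hCH h) (res C i) := by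
  apply Blk.ga_ext; intro x
  rw [tm_coeff]
  rfl

variable {p n : ℕ}

theorem cf_cut [Fintype H] (hCH : C ≤ H) (h : ∀ x : H, x ∈ C' ↔ (x : G) ∈ C)
    (θ : C → ℂ) (θ' : C' → ℂ) (hθ : ∀ c : C, θ' (cut hCH h c) = θ c) (v : H) (ξ : H → ℂ) :
    cf p n C (xt C θ) (v : G) (xt H ξ) = cf p n C' (xt C' θ') v ξ := by
  classical
  have := Fintype.ofFinite C
  have := Fintype.ofFinite C'
  rw [cf_eq, cf_eq, Nat.card_congr (cut hCH h).toEquiv]
  congr 1
  refine Fintype.sum_equiv (cut hCH h).toEquiv _ _ fun c => ?_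
  have h1 : (cut hCH h).toEquiv c = cut hCH h c := rfl
  have h2 : orderOf (cut hCH h c) = orderOf c := MulEquiv.orderOf_eq _ c
  rw [h1, h2, hθ]
  congr 2
  have h3 : (v : G) * (c : G) = ((v * (cut hCH h c : H) : H) : G) := rfl
  rw [h3, xt_coe]

end cut

section tvtm

variable {M : Ideal AlgInt} [hMp : M.IsPrime] {A : Type u} [Group A] [Finite A]
  {B : Type u} [Group B] [Finite B]

/-- transport of `tv` -/
theorem tv_tm (α : A ≃* B) {χ : B → ℂ} (hχ : IsClassFunction B χ) (v : A)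
    {i : MonoidAlgebra (kM M) A} (hi : Fixed (Subgroup.zpowers v) i) (hii : i * i = i) :
    tv M χ (α v) (tm α i) = tv M (fun a => χ (α a)) v i := by
  obtain ⟨x, hx⟩ := exists_lift (M := M) hi hii
  have hχ' : IsClassFunction A (fun a => χ (α a)) := by
    intro g h
    simp only [map_mul, map_inv]
    exact hχ _ _
  have hy : IsLift M (Subgroup.zpowers (α v)) (tm α i) (tm α x) := by
    refine ⟨lr_tm α hx.lr, ?_, by rw [← tm_mul, hx.idem], by rw [red_tm, hx.red]⟩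
    rw [← map_zpowers']
    exact fixed_tm α hx.fixed
  rw [Star.tv_eq hχ' hx, Star.tv_eq hχ hy, ← Tc_tm α χ, tm_mul, tm_single]

end tvtm

end Cfsg.Agent.AbFree
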