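import Cfsg.Agent.AbFree.Sys
import Cfsg.Agent.AbFree.Abs

/-!
# Equivariance of the local coefficients (owner: helper78)
-/

set_option autoImplicit false
set_option linter.unusedSectionVars false
set_option linter.style.haveILetI false

universe u

namespace Cfsg.Agent.AbFree

open scoped ComplexConjugate
open MonoidAlgebra Cfsg Cfsg.Agent.Blk Cfsg.Agent.BlkF Cfsg.Agent.CharBase Cfsg.Agent.BlkC
  Cfsg.Agent.Star Cfsg.Agent.Cyc

section

variable {p : ℕ} [hp : Fact p.Prime] {M : Ideal AlgInt} [hMp : M.IsPrime]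
  {G : Type u} [Group G] [Fintype G] {P : Subgroup G} {e : MonoidAlgebra (kM M) G}

theorem mle_stab {s : G} (hs : s ∈ stab (Subgroup.normalizer (P : Set G)) e) {Q : Subgroup G}
    {f : MonoidAlgebra (kM M) G} (h : MLe p Q f P e) :
    MLe p (Q.map (MulAut.conj s).toMonoidHom) (Blk.cj s f) P e := by
  have h1 := h.cj s
  rwa [map_conj_of_mem_normalizer hs.1, hs.2] at h1

theorem conj_mem_iff_of_stab {s : G} (hs : s ∈ stab (Subgroup.normalizer (P : Set G)) e) (x : G) :
    s * x * s⁻¹ ∈ P ↔ x ∈ P := (Subgroup.mem_normalizer_iff.1 hs.1 x).symm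

variable (c : Ctx p M P e)
  {th : ∀ Y : Subgroup G, IrrCharacter (Subgroup.centralizer (Y : Set G))}
  (hth : Fam p M P e th)
include c hth

/-- the chosen characters of conjugate pairs agree on the `p`-regular elements -/
theorem th_conj {s : G} {Z : Subgroup G} (hZ : Z ≠ ⊥)
    (hle : MLe p (Z.map (MulAut.conj s).toMonoidHom) (Blk.cj s (EB M _ (blockOf M (th Z).1))) P e)
    {g : G} (hg : g ∈ Subgroup.centralizer (Z : Set G)) (hgp : ¬ p ∣ orderOf g) :
    xt (Subgroup.centralizer ((Z.map (MulAut.conj s).toMonoidHom : Subgroup G) : Set G))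
      (th (Z.map (MulAut.conj s).toMonoidHom)).1 (s * g * s⁻¹) =
    xt (Subgroup.centralizer (Z : Set G)) (th Z).1 g := by
  classical
  haveI := charP_kM c.hM
  haveI : Fintype (Subgroup.centralizer
    ((Z.map (MulAut.conj s).toMonoidHom : Subgroup G) : Set G)) := Fintype.ofFinite _
  have hZ' : Z.map (MulAut.conj s).toMonoidHom ≠ ⊥ := by
    intro h
    exact hZ ((Subgroup.map_eq_bot_iff_of_injective Z
      (f := (MulAut.conj s).toMonoidHom) (MulAut.conj s).injective).1 h)
  have hle' := hth _ hle.le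
  rw [← EB_conjBlock] at hle
  have hb := c.unique (isPBlock_conjBlock Z s (isPBlock_blockOf (th Z)))
    (isPBlock_blockOf (th (Z.map (MulAut.conj s).toMonoidHom))) hle hle'
  have hloc := c.locDat hZ' (isPBlock_blockOf (th (Z.map (MulAut.conj s).toMonoidHom))) hle'
    (mem_blockOf_self _)
  have hmem : irrMap (centConj Z s) (th Z) ∈
      blockOf M (th (Z.map (MulAut.conj s).toMonoidHom)).1 := by
    rw [← hb, conjBlock_eq]
    haveI : Fintype (Subgroup.centralizer (Z : Set G)) := Fintype.ofFinite _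
    exact ⟨th Z, mem_blockOf_self _, rfl⟩
  have hmemg : s * g * s⁻¹ ∈ Subgroup.centralizer
      ((Z.map (MulAut.conj s).toMonoidHom : Subgroup G) : Set G) := by
    rw [← map_conj_centralizer]
    exact ⟨g, hg, rfl⟩
  have hord : orderOf (⟨s * g * s⁻¹, hmemg⟩ : Subgroup.centralizer
      ((Z.map (MulAut.conj s).toMonoidHom : Subgroup G) : Set G)) = orderOf g := by
    rw [Subgroup.orderOf_mk]
    exact MulEquiv.orderOf_eq (MulAut.conj s) g
  have h1 := hloc.reg _ hmem ⟨s * g * s⁻¹, hmemg⟩ (by rw [hord]; exact hgp)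
  have h2 : (centConj Z s).symm ⟨s * g * s⁻¹, hmemg⟩ = ⟨g, hg⟩ := by
    rw [MulEquiv.symm_apply_eq]
    apply Subtype.ext
    rw [centConj_coe]
  rw [irrMap_apply, h2] at h1
  have h3 := xt_coe (th Z).1 ⟨g, hg⟩
  have h4 := xt_coe (th (Z.map (MulAut.conj s).toMonoidHom)).1 ⟨s * g * s⁻¹, hmemg⟩
  simp only at h3 h4
  rw [h3, h4, ← h1]

/-- equivariance of the coefficients -/
theorem av_conj' {s : G} {Y : Subgroup G} (hYP : Y ≤ P) {v : G} (hv : v ∈ P)
    (hne : Y ⊔ Subgroup.zpowers v ≠ ⊥)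
    (hle : MLe p ((Y ⊔ Subgroup.zpowers v).map (MulAut.conj s).toMonoidHom)
      (Blk.cj s (EB M _ (blockOf M (th (Y ⊔ Subgroup.zpowers v)).1))) P e) {F F' : G → ℂ}
    (hF : ∀ x ∈ Subgroup.centralizer (Y : Set G), F' (s * x * s⁻¹) = F x) :
    av p P th (Y.map (MulAut.conj s).toMonoidHom) (s * v * s⁻¹) F' = av p P th Y v F := by
  classical
  have hPH : P ≤ Subgroup.centralizer (Y : Set G) := le_centralizer_of_comm c.comm hYP
  have hZ : Y.map (MulAut.conj s).toMonoidHom ⊔ Subgroup.zpowers (s * v * s⁻¹) =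
      (Y ⊔ Subgroup.zpowers v).map (MulAut.conj s).toMonoidHom := by
    rw [Subgroup.map_sup, ← zpowers_conj]
  have hZP : Y ⊔ Subgroup.zpowers v ≤ P := by
    rw [sup_le_iff, Subgroup.zpowers_le]; exact ⟨hYP, hv⟩
  rw [av, av, hZ]
  have key := cf_conj (p := p) (n := Nat.card P)
    (Subgroup.centralizer ((Y ⊔ Subgroup.zpowers v : Subgroup G) : Set G))
    (Θ := xt _ (th (Y ⊔ Subgroup.zpowers v)).1)
    (Θ' := xt _ (th ((Y ⊔ Subgroup.zpowers v).map (MulAut.conj s).toMonoidHom)).1) v s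
    (F := F) (F' := F')
    (fun g hg hgp => th_conj c hth hne hle hg hgp)
    (fun g hg _ => hF _ (Subgroup.mul_mem _ (hPH hv) (mem_centralizer_sup_iff.1 hg).1))
  rw [map_conj_centralizer] at key
  exact key

theorem av_conj {s : G} (hs : s ∈ stab (Subgroup.normalizer (P : Set G)) e) {Y : Subgroup G}
    (hYP : Y ≤ P) {v : G} (hv : v ∈ P) (hne : Y ⊔ Subgroup.zpowers v ≠ ⊥) {F F' : G → ℂ}
    (hF : ∀ x ∈ Subgroup.centralizer (Y : Set G), F' (s * x * s⁻¹) = F x) :
    av p P th (Y.map (MulAut.conj s).toMonoidHom) (s * v * s⁻¹) F' = av p P th Y v F := by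
  haveI := charP_kM c.hM
  refine av_conj' c hth hYP hv hne (mle_stab hs (hth _ ?_)) hF
  rw [sup_le_iff, Subgroup.zpowers_le]; exact ⟨hYP, hv⟩

end

/-- the hom `T → Aut(P)` -/
noncomputable def actHom {G : Type u} [Group G] (P T : Subgroup G)
    (hT : T ≤ Subgroup.normalizer (P : Set G)) : T →* MulAut P :=
  P.normalizerMonoidHom.comp (Subgroup.inclusion hT)

theorem actHom_apply {G : Type u} [Group G] {P T : Subgroup G}
    (hT : T ≤ Subgroup.normalizer (P : Set G)) (t : T) (x : P) :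
    ((actHom P T hT t x : P) : G) = t * x * (t : G)⁻¹ := rfl

section

variable {p : ℕ} [hp : Fact p.Prime] {M : Ideal AlgInt} [hMp : M.IsPrime]
  {G : Type u} [Group G] [Fintype G] {P : Subgroup G} {e : MonoidAlgebra (kM M) G}

/-- the inertial quotient inside `Aut(P)` -/
noncomputable def inE (P : Subgroup G) (e : MonoidAlgebra (kM M) G) : Subgroup (MulAut P) :=
  (actHom P (stab (Subgroup.normalizer (P : Set G)) e) (stab_le _ _)).range

theorem mem_inE {σ : MulAut P} : σ ∈ inE P e ↔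
    ∃ s ∈ stab (Subgroup.normalizer (P : Set G)) e, ∀ x : P, ((σ x : P) : G) = s * x * s⁻¹ := by
  constructor
  · rintro ⟨t, rfl⟩
    exact ⟨t, t.2, fun x => rfl⟩
  · rintro ⟨s, hs, h⟩
    refine ⟨⟨s, hs⟩, ?_⟩
    ext x
    rw [actHom_apply, h]

theorem card_inE :
    Nat.card (inE P e) = (Subgroup.centralizer (P : Set G)).relIndex
      (stab (Subgroup.normalizer (P : Set G)) e) := by
  have h1 : Nat.card (inE P e) =
      (actHom P (stab (Subgroup.normalizer (P : Set G)) e) (stab_le _ _)).ker.index := by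
    rw [Subgroup.index_ker]
    rfl
  rw [h1, Subgroup.relIndex]
  congr 1
  ext t
  rw [MonoidHom.mem_ker, Subgroup.mem_subgroupOf, Subgroup.mem_centralizer_iff]
  constructor
  · intro h x hx
    have h2 := congrArg (fun σ : MulAut P => ((σ ⟨x, hx⟩ : P) : G)) h
    simp only [MulAut.one_apply] at h2
    rw [actHom_apply] at h2
    have h3 : (t : G) * x = x * t := by
      calc (t : G) * x = (t * x * (t : G)⁻¹) * t := by group
        _ = x * t := by rw [h2]
    exact h3.symm
  · intro h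
    ext x
    rw [actHom_apply, MulAut.one_apply]
    have h3 := h x x.2
    calc (t : G) * x * (t : G)⁻¹ = (x * t) * (t : G)⁻¹ := by rw [h3]
      _ = x := by group

theorem inE_free (c : Ctx p M P e) : ∀ σ ∈ inE P e, σ ≠ 1 → ∀ v : P, v ≠ 1 → σ v ≠ v := by
  intro σ hσ hne v hv h
  obtain ⟨s, hs, hσs⟩ := mem_inE.1 hσ
  apply hne
  have h1 := c.free s hs v v.2 (fun h0 => hv (Subtype.ext h0)) (by rw [← hσs, h])
  ext x
  rw [hσs, MulAut.one_apply]
  have h2 := Subgroup.mem_centralizer_iff.1 h1 x x.2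
  calc s * (x : G) * s⁻¹ = (x * s) * s⁻¹ := by rw [h2]
    _ = x := by group

theorem map_inE {s : G} {σ : MulAut P} (hσs : ∀ x : P, ((σ x : P) : G) = s * x * s⁻¹)
    (X : Subgroup P) : (X.map (σ : P ≃* P).toMonoidHom).map P.subtype =
      (X.map P.subtype).map (MulAut.conj s).toMonoidHom := by
  rw [Subgroup.map_map, Subgroup.map_map]
  congr 1
  ext x
  exact hσs x

variable (c : Ctx p M P e)
  {th : ∀ Y : Subgroup G, IrrCharacter (Subgroup.centralizer (Y : Set G))}
  (hth : Fam p M P e th)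
include c hth

/-- equivariance of the sign system -/
theorem SX_eqv {σ : MulAut P} (hσ : σ ∈ inE P e) {X : Subgroup P} (hX : X ≠ ⊥) {a : P → ℂ}
    (ha : a ∈ SX p M P e th X) :
    (fun v => a (σ⁻¹ v)) ∈ SX p M P e th (X.map (σ : P ≃* P).toMonoidHom) := by
  classical
  haveI := charP_kM c.hM
  obtain ⟨s, hs, hσs⟩ := mem_inE.1 hσ
  obtain ⟨ξ, hξ, hav⟩ := ha
  have key : ∀ Y : Subgroup G, (X.map P.subtype).map (MulAut.conj s).toMonoidHom = Y →
      ∃ ξ' : IrrCharacter (Subgroup.centralizer (Y : Set G)),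
        MLe p Y (EB M _ (blockOf M ξ'.1)) P e ∧
        ∀ v : P, a (σ⁻¹ v) = av p P th Y v (xt (Subgroup.centralizer (Y : Set G)) ξ'.1) := by
    rintro Y rfl
    refine ⟨irrMap (centConj (X.map P.subtype) s) ξ, ?_, fun v => ?_⟩
    · rw [← image_blockOf, ← conjBlock_eq, EB_conjBlock]
      exact mle_stab hs hξ
    · obtain ⟨w, hw⟩ : ∃ w, w = σ⁻¹ v := ⟨_, rfl⟩
      have hv : v = σ w := by rw [hw, ← MulAut.mul_apply, mul_inv_cancel, MulAut.one_apply]
      rw [← hw, hav w, hv, hσs]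
      symm
      refine av_conj c hth hs (Subgroup.map_subtype_le X) w.2
        (sup_ne_bot_left (up_ne_bot hX)) fun x hx => ?_
      have hmem : s * x * s⁻¹ ∈ Subgroup.centralizer
          (((X.map P.subtype).map (MulAut.conj s).toMonoidHom : Subgroup G) : Set G) := by
        rw [← map_conj_centralizer]
        exact ⟨x, hx, rfl⟩
      have h3 := xt_coe ξ.1 ⟨x, hx⟩
      have h4 := xt_coe (irrMap (centConj (X.map P.subtype) s) ξ).1 ⟨s * x * s⁻¹, hmem⟩
      simp only at h3 h4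
      have h2 : (centConj (X.map P.subtype) s).symm ⟨s * x * s⁻¹, hmem⟩ = ⟨x, hx⟩ := by
        rw [MulEquiv.symm_apply_eq]
        apply Subtype.ext
        rw [centConj_coe]
      rw [h3, h4, irrMap_apply, h2]
  exact key _ (map_inE hσs X).symm

end

end Cfsg.Agent.AbFree
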