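import Mathlib

/-!
# The ring of generalized characters of a finite abelian group (owner: helper78)

`GR Q` is the ring of generalized characters of the finite abelian group `Q`. Main results:
`frob` (`f ^ |Q| ≡ f(1) mod p`), `sum_gen` (the sum over the generators of a cyclic subgroup is an
integer) and the division lemma `division`.
-/

set_option autoImplicit false
set_option linter.style.haveILetI false
set_option linter.unusedSectionVars false

namespace Cfsg.Agent.AbFree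

open scoped ComplexConjugate

universe u

variable {Q : Type u} [Group Q]

/-- a linear character, as a function -/
def lc (l : Q →* ℂˣ) : Q → ℂ := fun v => ((l v : ℂˣ) : ℂ)

theorem lc_apply (l : Q →* ℂˣ) (v : Q) : lc l v = ((l v : ℂˣ) : ℂ) := rfl

theorem lc_mul (l m : Q →* ℂˣ) : lc (l * m) = lc l * lc m := by
  funext v; simp [lc]

theorem lc_one : lc (1 : Q →* ℂˣ) = 1 := by
  funext v; simp [lc]

theorem lc_apply_one (l : Q →* ℂˣ) : lc l 1 = 1 := by simp [lc]

theorem lc_apply_mul (l : Q →* ℂˣ) (v w : Q) : lc l (v * w) = lc l v * lc l w := by simp [lc]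

theorem lc_ne_zero (l : Q →* ℂˣ) (v : Q) : lc l v ≠ 0 := (l v).ne_zero

theorem lc_inv_mul (l : Q →* ℂˣ) (v : Q) : lc l⁻¹ v * lc l v = 1 := by
  simp [lc]

variable (Q) in
/-- the ring of generalized characters -/
def GR : Subring (Q → ℂ) := Subring.closure (Set.range (lc : (Q →* ℂˣ) → Q → ℂ))

theorem lc_mem (l : Q →* ℂˣ) : lc l ∈ GR Q := Subring.subset_closure ⟨l, rfl⟩

/-- the monoid hom `lc` -/
def lcHom : (Q →* ℂˣ) →* (Q → ℂ) where
  toFun := lc
  map_one' := lc_one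
  map_mul' := lc_mul

theorem mem_GR_iff {f : Q → ℂ} : f ∈ GR Q ↔
    f ∈ AddSubgroup.closure (Set.range (lc : (Q →* ℂˣ) → Q → ℂ)) := by
  rw [GR, Subring.mem_closure_iff]
  have h : Submonoid.closure (Set.range (lc : (Q →* ℂˣ) → Q → ℂ)) = MonoidHom.mrange lcHom := by
    have h1 : (Set.range (lc : (Q →* ℂˣ) → Q → ℂ)) =
        ((MonoidHom.mrange (lcHom (Q := Q)) : Submonoid (Q → ℂ)) : Set (Q → ℂ)) := by
      ext x; rfl
    rw [h1, Submonoid.closure_eq]
  rw [h]
  rfl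

theorem GR_induction {P : (Q → ℂ) → Prop} (hlc : ∀ l, P (lc l)) (h0 : P 0)
    (hadd : ∀ f g, P f → P g → P (f + g)) (hneg : ∀ f, P f → P (-f)) {f : Q → ℂ}
    (hf : f ∈ GR Q) : P f := by
  rw [mem_GR_iff] at hf
  induction hf using AddSubgroup.closure_induction with
  | mem x hx => obtain ⟨l, rfl⟩ := hx; exact hlc l
  | zero => exact h0
  | add x y _ _ hx hy => exact hadd x y hx hy
  | neg x _ hx => exact hneg x hx

theorem GR_apply_one {f : Q → ℂ} (hf : f ∈ GR Q) : ∃ z : ℤ, f 1 = z := by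
  refine GR_induction (P := fun f => ∃ z : ℤ, f 1 = z) ?_ ?_ ?_ ?_ hf
  · intro l; exact ⟨1, by rw [lc_apply_one]; norm_num⟩
  · exact ⟨0, by simp⟩
  · rintro f g ⟨a, ha⟩ ⟨b, hb⟩
    exact ⟨a + b, by rw [Pi.add_apply, ha, hb]; push_cast; ring⟩
  · rintro f ⟨a, ha⟩
    exact ⟨-a, by rw [Pi.neg_apply, ha]; push_cast; ring⟩

variable [Finite Q]

theorem lc_pow_card (l : Q →* ℂˣ) : lc l ^ Nat.card Q = 1 := by
  funext v
  rw [Pi.pow_apply, lc, ← Units.val_pow_eq_pow_val, ← map_pow, pow_card_eq_one', map_one]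
  rfl

theorem lc_isIntegral (l : Q →* ℂˣ) (v : Q) : IsIntegral ℤ (lc l v) := by
  have h : (lc l v) ^ Nat.card Q = 1 := congrFun (lc_pow_card l) v
  exact IsIntegral.of_pow Nat.card_pos (by rw [h]; exact isIntegral_one)

theorem lc_inv (l : Q →* ℂˣ) (v : Q) : lc l⁻¹ v = conj (lc l v) := by
  have h : (lc l v) ^ Nat.card Q = 1 := congrFun (lc_pow_card l) v
  have h1 : ‖lc l v‖ = 1 := Complex.norm_eq_one_of_pow_eq_one h Nat.card_pos.ne'
  have h2 : lc l v * conj (lc l v) = 1 := by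
    rw [Complex.mul_conj, Complex.normSq_eq_norm_sq, h1]; norm_num
  have h3 := lc_inv_mul l v
  apply mul_right_cancel₀ (lc_ne_zero l v)
  rw [h3, ← h2, mul_comm]

theorem GR_isIntegral {f : Q → ℂ} (hf : f ∈ GR Q) (v : Q) : IsIntegral ℤ (f v) := by
  refine GR_induction (P := fun f => IsIntegral ℤ (f v)) ?_ ?_ ?_ ?_ hf
  · intro l; exact lc_isIntegral l v
  · exact isIntegral_zero
  · intro f g hf hg; exact hf.add hg
  · intro f hf; exact hf.neg

theorem sum_lc_subgroup (l : Q →* ℂˣ) (Z : Subgroup Q) [Fintype Z] :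
    ∃ z : ℤ, ∑ v : Z, lc l v = z := by
  classical
  by_cases h : ∀ v : Z, lc l v = 1
  · exact ⟨Fintype.card Z, by simp [h]⟩
  · push Not at h
    obtain ⟨w, hw⟩ := h
    refine ⟨0, ?_⟩
    have h1 : lc l w * ∑ v : Z, lc l v = ∑ v : Z, lc l v := by
      rw [Finset.mul_sum]
      refine Fintype.sum_equiv (Equiv.mulLeft w) _ _ fun v => ?_
      rw [Equiv.coe_mulLeft, Subgroup.coe_mul, lc_apply_mul]
    have h2 : (lc l w - 1) * ∑ v : Z, lc l v = 0 := by rw [sub_mul, h1, one_mul, sub_self]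
    rcases mul_eq_zero.1 h2 with h3 | h3
    · exact absurd (sub_eq_zero.1 h3) hw
    · rw [h3]; norm_num

theorem sum_lc [Fintype Q] (l : Q →* ℂˣ) : ∃ z : ℤ, (Nat.card Q : ℂ)⁻¹ * ∑ v, lc l v = z := by
  classical
  have hQ : (Nat.card Q : ℂ) ≠ 0 := by exact_mod_cast Nat.card_pos.ne'
  by_cases h : ∀ v : Q, lc l v = 1
  · exact ⟨1, by simp [h]⟩
  · push Not at h
    obtain ⟨w, hw⟩ := h
    refine ⟨0, ?_⟩
    have h1 : lc l w * ∑ v : Q, lc l v = ∑ v : Q, lc l v := by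
      rw [Finset.mul_sum]
      refine Fintype.sum_equiv (Equiv.mulLeft w) _ _ fun v => ?_
      rw [Equiv.coe_mulLeft, lc_apply_mul]
    have h2 : (lc l w - 1) * ∑ v : Q, lc l v = 0 := by rw [sub_mul, h1, one_mul, sub_self]
    rcases mul_eq_zero.1 h2 with h3 | h3
    · exact absurd (sub_eq_zero.1 h3) hw
    · rw [h3]; norm_num

theorem GR_sum [Fintype Q] {f : Q → ℂ} (hf : f ∈ GR Q) :
    ∃ z : ℤ, (Nat.card Q : ℂ)⁻¹ * ∑ v, f v = z := by
  refine GR_induction (P := fun f => ∃ z : ℤ, (Nat.card Q : ℂ)⁻¹ * ∑ v, f v = z) ?_ ?_ ?_ ?_ hf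
  · exact sum_lc
  · exact ⟨0, by simp⟩
  · rintro f g ⟨a, ha⟩ ⟨b, hb⟩
    refine ⟨a + b, ?_⟩
    push_cast
    rw [← ha, ← hb, ← mul_add, ← Finset.sum_add_distrib]
    rfl
  · rintro f ⟨a, ha⟩
    refine ⟨-a, ?_⟩
    push_cast
    rw [← ha, ← mul_neg, ← Finset.sum_neg_distrib]
    rfl

open Classical in
/-- the sum of a generalized character over the generators of a cyclic subgroup is an integer -/
theorem sum_gen [Fintype Q] {f : Q → ℂ} (hf : f ∈ GR Q) (Z : Subgroup Q) :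
    ∃ z : ℤ, ∑ v : Q, (if Subgroup.zpowers v = Z then f v else 0) = z := by
  refine GR_induction (P := fun f => ∃ z : ℤ,
    ∑ v : Q, (if Subgroup.zpowers v = Z then f v else 0) = z) ?_ ?_ ?_ ?_ hf
  · intro l
    induction hn : Nat.card Z using Nat.strong_induction_on generalizing Z with
    | _ n ih =>
    have := Fintype.ofFinite (Subgroup Q)
    have h1 : ∑ v : Q, (if v ∈ Z then lc l v else 0) =
        ∑ Z' : Subgroup Q, if Z' ≤ Z then
          ∑ v : Q, (if Subgroup.zpowers v = Z' then lc l v else 0) else 0 := by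
      have h2 : ∀ Z' : Subgroup Q, (if Z' ≤ Z then
          ∑ v : Q, (if Subgroup.zpowers v = Z' then lc l v else 0) else 0) =
          ∑ v : Q, (if Subgroup.zpowers v = Z' then (if v ∈ Z then lc l v else 0) else 0) := by
        intro Z'
        split_ifs with h
        · refine Finset.sum_congr rfl fun v _ => ?_
          by_cases hv : Subgroup.zpowers v = Z'
          · rw [if_pos hv, if_pos hv, if_pos]
            exact h (by rw [← hv]; exact Subgroup.mem_zpowers v)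
          · rw [if_neg hv, if_neg hv]
        · symm
          refine Finset.sum_eq_zero fun v _ => ?_
          by_cases hv : Subgroup.zpowers v = Z'
          · rw [if_pos hv, if_neg]
            intro hvZ
            exact h (by rw [← hv, Subgroup.zpowers_le]; exact hvZ)
          · rw [if_neg hv]
      rw [Finset.sum_congr rfl fun Z' _ => h2 Z', Finset.sum_comm]
      refine Finset.sum_congr rfl fun v _ => ?_
      rw [Finset.sum_ite_eq Finset.univ (Subgroup.zpowers v), if_pos (Finset.mem_univ _)]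
    have h3 : ∃ z : ℤ, ∑ v : Q, (if v ∈ Z then lc l v else 0) = z := by
      have := Fintype.ofFinite Z
      obtain ⟨z, hz⟩ := sum_lc_subgroup l Z
      refine ⟨z, ?_⟩
      rw [← hz]
      symm
      apply Fintype.sum_of_injective (fun v : Z => (v : Q)) Subtype.val_injective
      · intro v hv
        rw [if_neg]
        intro h
        exact hv ⟨⟨v, h⟩, rfl⟩
      · intro v
        rw [if_pos v.2]
    obtain ⟨z, hz⟩ := h3
    have h4 : ∀ Z' : Subgroup Q, Z' ≠ Z → ∃ a : ℤ, (if Z' ≤ Z then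
          ∑ v : Q, (if Subgroup.zpowers v = Z' then lc l v else 0) else 0) = a := by
      intro Z' hne
      by_cases h : Z' ≤ Z
      · have hlt : Nat.card Z' < n := by
          rw [← hn]
          exact lt_of_le_of_ne (Subgroup.card_le_of_le h) fun hc =>
            hne (Subgroup.eq_of_le_of_card_ge h hc.ge)
        obtain ⟨a, ha⟩ := ih _ hlt Z' rfl
        exact ⟨a, by rw [if_pos h, ha]⟩
      · exact ⟨0, by rw [if_neg h]; norm_num⟩
    choose! a ha using h4
    refine ⟨z - ∑ Z' ∈ Finset.univ.erase Z, a Z', ?_⟩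
    rw [h1, ← Finset.add_sum_erase Finset.univ _ (Finset.mem_univ Z), if_pos le_rfl,
      Finset.sum_congr rfl fun Z' hZ' => ha Z' (Finset.ne_of_mem_erase hZ')] at hz
    push_cast
    rw [← hz]; ring
  · exact ⟨0, by simp⟩
  · rintro f g ⟨a, ha⟩ ⟨b, hb⟩
    refine ⟨a + b, ?_⟩
    push_cast
    rw [← ha, ← hb, ← Finset.sum_add_distrib]
    refine Finset.sum_congr rfl fun v _ => ?_
    split_ifs <;> simp
  · rintro f ⟨a, ha⟩
    refine ⟨-a, ?_⟩
    push_cast
    rw [← ha, ← Finset.sum_neg_distrib]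
    refine Finset.sum_congr rfl fun v _ => ?_
    split_ifs <;> simp

/-- **Frobenius.** -/
theorem frob {p a : ℕ} (hp : p.Prime) (hQ : Nat.card Q = p ^ a) {f : Q → ℂ} (hf : f ∈ GR Q) :
    ∃ g ∈ GR Q, f ^ (p ^ a) = (fun _ => f 1) + (p : Q → ℂ) * g := by
  have hpG : (p : Q → ℂ) ∈ GR Q := natCast_mem _ _
  refine GR_induction (P := fun f => f ∈ GR Q ∧ ∃ g ∈ GR Q, f ^ (p ^ a) = (fun _ => f 1) +
    (p : Q → ℂ) * g) ?_ ?_ ?_ ?_ hf |>.2
  · intro l
    refine ⟨lc_mem l, 0, zero_mem _, ?_⟩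
    rw [← hQ, lc_pow_card, mul_zero, add_zero]
    funext v
    rw [lc_apply_one]; rfl
  · refine ⟨zero_mem _, 0, zero_mem _, ?_⟩
    rw [zero_pow (pow_pos hp.pos a).ne', mul_zero, add_zero]
    funext v; rfl
  · rintro f g ⟨hf, x, hx, hfx⟩ ⟨hg, y, hy, hgy⟩
    refine ⟨add_mem hf hg, ?_⟩
    obtain ⟨⟨r, hr⟩, h⟩ := exists_add_pow_prime_pow_eq hp (⟨f, hf⟩ : GR Q) ⟨g, hg⟩ a
    have h' : (f + g) ^ (p ^ a) = f ^ (p ^ a) + g ^ (p ^ a) + p * f * g * r := by
      have := congrArg Subtype.val h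
      simpa using this
    refine ⟨x + y + f * g * r, add_mem (add_mem hx hy) (mul_mem (mul_mem hf hg) hr), ?_⟩
    rw [h', hfx, hgy]
    funext v
    simp only [Pi.add_apply, Pi.mul_apply]
    ring
  · rintro f ⟨hf, x, hx, hfx⟩
    refine ⟨neg_mem hf, ?_⟩
    obtain ⟨n, hn⟩ := GR_apply_one hf
    rcases hp.eq_two_or_odd' with h2 | hodd
    · subst h2
      rcases Nat.eq_zero_or_pos a with ha | ha
      · subst ha
        refine ⟨-x, neg_mem hx, ?_⟩
        rw [pow_zero, pow_one] at hfx ⊢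
        funext v
        have h := congrFun hfx v
        simp only [Pi.add_apply, Pi.mul_apply, Pi.neg_apply] at h ⊢
        linear_combination -h
      · have he : Even (2 ^ a) := (Nat.even_pow.2 ⟨even_two, ha.ne'⟩)
        refine ⟨x + (n : Q → ℂ), add_mem hx (intCast_mem _ _), ?_⟩
        rw [he.neg_pow, hfx]
        funext v
        simp only [Pi.add_apply, Pi.mul_apply, Pi.neg_apply, hn, Pi.natCast_apply,
          Pi.intCast_apply]
        push_cast
        ring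
    · refine ⟨-x, neg_mem hx, ?_⟩
      rw [(hodd.pow).neg_pow, hfx]
      funext v
      simp only [Pi.add_apply, Pi.mul_apply, Pi.neg_apply]
      ring

theorem isIntegral_ratCast {q : ℚ} (h : IsIntegral ℤ (q : ℂ)) : ∃ z : ℤ, q = z := by
  have h1 : IsIntegral ℤ q := by
    rw [← isIntegral_algHom_iff (Rat.castHom ℂ).toIntAlgHom (Rat.castHom ℂ).injective]
    exact h
  obtain ⟨z, hz⟩ := IsIntegrallyClosed.isIntegral_iff.1 h1
  exact ⟨z, hz.symm⟩

/-- if `p` divides `m - n` in the algebraic integers then it does in `ℤ` -/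
theorem dvd_of_isIntegral {p : ℕ} (hp : p.Prime) {m : ℤ} {z : ℂ} (hz : IsIntegral ℤ z)
    (h : (m : ℂ) = p * z) : (p : ℤ) ∣ m := by
  have hp0 : (p : ℂ) ≠ 0 := by exact_mod_cast hp.ne_zero
  have h1 : z = ((m / p : ℚ) : ℂ) := by
    push_cast
    rw [h]; field_simp
  rw [h1] at hz
  obtain ⟨a, ha⟩ := isIntegral_ratCast hz
  refine ⟨a, ?_⟩
  have hpq : (p : ℚ) ≠ 0 := by exact_mod_cast hp.ne_zero
  have h2 : (m : ℚ) = p * a := by
    rw [← ha]; field_simp
  exact_mod_cast h2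

theorem GR_one_dvd_iff {p a : ℕ} (hp : p.Prime) (hQ : Nat.card Q = p ^ a) {f : Q → ℂ}
    (hf : f ∈ GR Q) {n : ℤ} (hn : f 1 = n) {v : Q} {m : ℤ} {b c : ℂ} (hm : f v = m * b)
    (hb : IsIntegral ℤ b) (hc : IsIntegral ℤ c) (hbc : b * c = 1) :
    (p : ℤ) ∣ n ↔ (p : ℤ) ∣ m := by
  obtain ⟨g, hg, h⟩ := frob hp hQ hf
  have h1 := congrFun h v
  simp only [Pi.pow_apply, Pi.add_apply, Pi.mul_apply, hn, hm, Pi.natCast_apply] at h1
  have hgv := GR_isIntegral hg v
  have hpa : p ^ a ≠ 0 := (pow_pos hp.pos a).ne'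
  constructor
  · rintro ⟨k, rfl⟩
    have h2 : ((m ^ (p ^ a) : ℤ) : ℂ) = p * ((k + g v) * c ^ (p ^ a)) := by
      push_cast at h1 ⊢
      have h3 : (m : ℂ) ^ p ^ a = (m * b) ^ p ^ a * c ^ p ^ a := by
        rw [← mul_pow, mul_assoc, hbc, mul_one]
      rw [h3, h1]; ring
    have h4 := dvd_of_isIntegral hp ((((isIntegral_algebraMap (R := ℤ) (A := ℂ) (x := k)).add
      hgv).mul (hc.pow _))) h2
    exact (Nat.prime_iff_prime_int.1 hp).dvd_of_dvd_pow h4
  · rintro ⟨k, rfl⟩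
    obtain ⟨e, he⟩ := Nat.exists_eq_succ_of_ne_zero hpa
    have h2 : (n : ℂ) = p * ((k * b) * ((p : ℤ) * k * b) ^ e - g v) := by
      have h3 : (n : ℂ) = (((p : ℤ) * k : ℤ) * b : ℂ) ^ p ^ a - p * g v := by rw [h1]; ring
      rw [h3, he, pow_succ]
      push_cast
      ring
    refine dvd_of_isIntegral hp ?_ h2
    have hk : IsIntegral ℤ (k : ℂ) := isIntegral_algebraMap (R := ℤ) (A := ℂ) (x := k)
    have hp' : IsIntegral ℤ (((p : ℤ) : ℂ)) := isIntegral_algebraMap (R := ℤ) (A := ℂ) (x := p)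
    exact ((hk.mul hb).mul (((hp'.mul hk).mul hb).pow _)).sub hgv

open Classical in
/-- **Division Lemma.** -/
theorem division [Fintype Q] {p a : ℕ} (hp : p.Prime) (hQ : Nat.card Q = p ^ a) (X : Subgroup Q)
    {G h : Q → ℂ} (hG : G ∈ GR Q) (hh : h ∈ GR Q) {n : ℤ} (hG1 : G 1 = n) (hn : ¬ (p : ℤ) ∣ n)
    {f : Q → ℂ} (hf : ∀ v, v ∉ X → f v * G v = h v)
    (hint : ∀ l : Q →* ℂˣ, ∃ z : ℤ, ∑ v : Q, (if v ∈ X then 0 else f v * lc l v) = z)
    {l : Q →* ℂˣ} (hl : ∀ x ∈ X, l x = 1) :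
    ∃ z : ℤ, (Nat.card Q : ℂ)⁻¹ * ∑ v : Q, (if v ∈ X then 0 else f v * (1 - lc l v)) = z := by
  have hQ0 : (Nat.card Q : ℂ) ≠ 0 := by exact_mod_cast Nat.card_pos.ne'
  have hp0 : (p : ℂ) ≠ 0 := by exact_mod_cast hp.ne_zero
  -- `G G' = N + |Q| H`
  obtain ⟨G', hG', H, hH, N, hN, hNG⟩ : ∃ G' ∈ GR Q, ∃ H ∈ GR Q, ∃ N : ℤ, ¬ (p : ℤ) ∣ N ∧
      ∀ v, G v * G' v = N + (Nat.card Q : ℂ) * H v := by
    obtain ⟨g, hg, h1⟩ := frob hp hQ hG
    have h2 : ((p : ℕ) : GR Q) ∣ (⟨G, hG⟩ : GR Q) ^ (p ^ a) - ((n : ℤ) : GR Q) := by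
      refine ⟨⟨g, hg⟩, Subtype.ext ?_⟩
      push_cast
      change G ^ p ^ a - ((n : ℤ) : Q → ℂ) = (p : Q → ℂ) * g
      rw [h1]
      funext v
      simp only [Pi.sub_apply, Pi.add_apply, Pi.mul_apply, hG1, Pi.intCast_apply]
      ring
    have h3 := dvd_sub_pow_of_dvd_sub h2 a
    obtain ⟨⟨k, hk⟩, h4⟩ := h3
    have h5 : (G ^ p ^ a) ^ p ^ a - ((n : ℤ) : Q → ℂ) ^ p ^ a = (p : Q → ℂ) ^ (a + 1) * k := by
      have := congrArg Subtype.val h4
      simpa using this
    have hpa : p ^ a * p ^ a ≠ 0 := (mul_pos (pow_pos hp.pos a) (pow_pos hp.pos a)).ne'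
    obtain ⟨e, he⟩ := Nat.exists_eq_succ_of_ne_zero hpa
    refine ⟨G ^ e, pow_mem hG _, (p : Q → ℂ) * k, mul_mem (natCast_mem _ _) hk, n ^ p ^ a,
      fun h => hn ((Nat.prime_iff_prime_int.1 hp).dvd_of_dvd_pow h), fun v => ?_⟩
    have h6 := congrFun h5 v
    rw [← pow_mul, he] at h6
    simp only [Pi.sub_apply, Pi.mul_apply, Pi.pow_apply, Pi.natCast_apply, Pi.intCast_apply] at h6 ⊢
    rw [hQ]
    push_cast
    rw [pow_succ] at h6
    linear_combination h6
  -- the two integrality statements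
  have key1 : ∀ r ∈ GR Q, ∃ z : ℤ, ∑ v : Q, (if v ∈ X then 0 else f v * r v) = z := by
    intro r hr
    refine GR_induction (P := fun r => ∃ z : ℤ, ∑ v : Q, (if v ∈ X then 0 else f v * r v) = z)
      hint ⟨0, by simp⟩ ?_ ?_ hr
    · rintro r s ⟨x, hx⟩ ⟨y, hy⟩
      refine ⟨x + y, ?_⟩
      push_cast
      rw [← hx, ← hy, ← Finset.sum_add_distrib]
      refine Finset.sum_congr rfl fun v _ => ?_
      split_ifs
      · ring
      · simp only [Pi.add_apply]; ring
    · rintro r ⟨x, hx⟩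
      refine ⟨-x, ?_⟩
      push_cast
      rw [← hx, ← Finset.sum_neg_distrib]
      refine Finset.sum_congr rfl fun v _ => ?_
      split_ifs
      · ring
      · simp only [Pi.neg_apply]; ring
  have hl' : (1 : Q → ℂ) - lc l ∈ GR Q := sub_mem (one_mem _) (lc_mem l)
  obtain ⟨A, hA⟩ := GR_sum (mul_mem (mul_mem hh hG') hl')
  obtain ⟨B, hB⟩ := key1 (H * (1 - lc l)) (mul_mem hH hl')
  obtain ⟨C, hC⟩ := key1 (1 - lc l) hl'
  set c := (Nat.card Q : ℂ)⁻¹ * ∑ v : Q, (if v ∈ X then 0 else f v * (1 - lc l v)) with hc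
  have hC' : (Nat.card Q : ℂ) * c = C := by
    rw [hc, mul_inv_cancel_left₀ hQ0, ← hC]
    rfl
  have hN' : (N : ℂ) * c = ((A - B : ℤ) : ℂ) := by
    push_cast
    rw [← hA, ← hB, hc, mul_left_comm, Finset.mul_sum]
    have h1 : ∑ v : Q, (h * G' * (1 - lc l)) v = ∑ v : Q,
        (if v ∈ X then 0 else h v * G' v * (1 - lc l v)) := by
      refine Finset.sum_congr rfl fun v _ => ?_
      split_ifs with hv
      · simp only [Pi.mul_apply, Pi.sub_apply, Pi.one_apply]
        rw [lc_apply, hl v hv]; simp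
      · rfl
    have h2 : ∑ v : Q, (N : ℂ) * (if v ∈ X then 0 else f v * (1 - lc l v)) =
        ∑ v : Q, (h * G' * (1 - lc l)) v -
          (Nat.card Q : ℂ) * ∑ v : Q, (if v ∈ X then 0 else f v * (H * (1 - lc l)) v) := by
      rw [h1, Finset.mul_sum, ← Finset.sum_sub_distrib]
      refine Finset.sum_congr rfl fun v _ => ?_
      split_ifs with hv
      · ring
      · simp only [Pi.mul_apply, Pi.sub_apply, Pi.one_apply]
        rw [← hf v hv, mul_assoc (f v), hNG v]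
        ring
    rw [h2, mul_sub, inv_mul_cancel_left₀ hQ0]
  -- Bezout
  have hcop : IsCoprime (N : ℤ) ((Nat.card Q : ℕ) : ℤ) := by
    rw [hQ]
    push_cast
    exact ((Nat.prime_iff_prime_int.1 hp).coprime_iff_not_dvd.2 hN).symm.pow_right
  obtain ⟨x, y, hxy⟩ := hcop
  refine ⟨x * (A - B) + y * C, ?_⟩
  have hxy' : (x : ℂ) * N + y * (Nat.card Q : ℂ) = 1 := by exact_mod_cast hxy
  have h3 : c = (x * N + y * (Nat.card Q : ℂ)) * c := by rw [hxy', one_mul]
  rw [h3]
  push_cast at hN' ⊢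
  rw [← hN', ← hC']
  ring

open Classical in
/-- **Gluing** (inclusion-exclusion). -/
theorem glue [Fintype Q] (X : Subgroup Q) (g : Subgroup Q → ℂ) {v : Q} (hv : v ∉ X) :
    ∑ S ∈ (Finset.univ.filter (fun w : Q => w ∉ X)).powerset,
      (-1 : ℂ) ^ S.card * g (X ⊔ Subgroup.closure (S : Set Q) ⊔ Subgroup.zpowers v) = 0 := by
  have h1 : (Finset.univ.filter (fun w : Q => w ∉ X)) =
      insert v ((Finset.univ.filter (fun w : Q => w ∉ X)).erase v) := by
    rw [Finset.insert_erase]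
    simp [hv]
  rw [h1, Finset.sum_powerset_insert (Finset.notMem_erase _ _), ← Finset.sum_add_distrib]
  refine Finset.sum_eq_zero fun S hS => ?_
  have hvS : v ∉ S := fun h => Finset.notMem_erase v _ (Finset.mem_powerset.1 hS h)
  rw [Finset.card_insert_of_notMem hvS, pow_succ]
  have h2 : X ⊔ Subgroup.closure ((insert v S : Finset Q) : Set Q) ⊔ Subgroup.zpowers v =
      X ⊔ Subgroup.closure (S : Set Q) ⊔ Subgroup.zpowers v := by
    rw [Finset.coe_insert, ← Set.singleton_union, Subgroup.closure_union,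
      ← Subgroup.zpowers_eq_closure, sup_comm (Subgroup.zpowers v) (Subgroup.closure _),
      ← sup_assoc X, sup_assoc (X ⊔ _), sup_idem]
  rw [h2]
  ring

end Cfsg.Agent.AbFree
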