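import Cfsg.Agent.AbFree.Equi
import Cfsg.Agent.BlkF.MajorAny

/-!
# The block as a top datum over the sign system (owner: helper78)
-/

set_option autoImplicit false
set_option linter.unusedSectionVars false
set_option linter.style.haveILetI false

universe u

namespace Cfsg.Agent.AbFree

open scoped ComplexConjugate
open MonoidAlgebra Cfsg Cfsg.Agent.Blk Cfsg.Agent.BlkF Cfsg.Agent.CharBase Cfsg.Agent.BlkC
  Cfsg.Agent.Star Cfsg.Agent.Cyc

section

variable {p : ℕ} [hp : Fact p.Prime] {M : Ideal AlgInt} [hMp : M.IsPrime]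
  {G : Type u} [Group G] [Fintype G] {P : Subgroup G} {e : MonoidAlgebra (kM M) G}

/-- nonvanishing on major sections, block version -/
theorem sum_ne_zero_of_major (hM : IsPModular p M) {P C : Subgroup G} [Fintype C]
    {B : Set (IrrCharacter G)} (hB : IsPBlock M B) {g : MonoidAlgebra (kM M) G}
    (hmax : MMax p P g) (hb : MPairOf p (eB M B) P g)
    (hCC : Subgroup.centralizer (P : Set G) ≤ C) {e : Set (IrrCharacter C)}
    (he' : IsPBlock M e) (hd : IsDef p C (EB M C e) P)
    (heg : Blk.br P (EB M C e) * g = g) {u : C} (hu : ∀ c : C, c * u = u * c)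
    (hup : ∃ m : ℕ, orderOf (u : G) = p ^ m) {χ : IrrCharacter G} (hχ : χ ∈ B) :
    ∑ c : C, blockCoeff e (u⁻¹ * c) * (χ : G → ℂ) c ≠ 0 := by
  classical
  haveI := charP_kM hM
  intro h2
  have he := isBlk_EB he'
  have hPC : P ≤ C := hd.le
  have hcen : ∀ c ∈ C, c * (u : G) = u * c := fun c hc =>
    congrArg (Subtype.val : C → G) (hu ⟨c, hc⟩)
  have huC : (u : G) ∈ Subgroup.centralizer (P : Set G) := by
    rw [Subgroup.mem_centralizer_iff]
    intro x hx
    exact hcen x (hPC hx)
  have hsS : Supp (Subgroup.centralizer (P : Set G)) (MonoidAlgebra.single (u : G) (1 : kM M)) := by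
    intro x hx
    rw [coeff_single, Finsupp.single_apply, if_neg]
    rintro rfl
    exact hx huC
  have hsF : Fixed C (MonoidAlgebra.single (u : G) (1 : kM M)) := by
    refine fixed_single fun c hc => ?_
    rw [Subgroup.mem_centralizer_singleton_iff]
    exact hcen c hc
  have h1 := not_isNilpotent_relTr_major_mul hmax hb (splitBlk hmax.1.blk) hCC he hd heg hsS hsF
    (isNilpotent_single_sub_one hup)
  rw [isNilpotent_mul_eB_iff hB hχ (fixed_relTr le_top (hsF.mul he.fixed))] at h1
  apply h1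
  have hcf := Char.indFun_isClassFunction C (fun c => blockCoeff e (u⁻¹ * c))
  rw [← redc_indFun_shift he' hu, lam_redc χ hcf (rv_indFun_shift he' hu),
    rd_eq_zero_iff (mlr_omega χ hcf (rv_indFun_shift he' hu)),
    omega_indFun _ (irr_isClassFunction χ)]
  rw [h2, mul_zero, zero_div]
  exact mli_zero

omit [Fintype G] in
theorem exists_xt_top [Fintype G] {H : Subgroup G} (hH : H = ⊤) (χ : IrrCharacter G) :
    ∃ ξ : IrrCharacter H, xt H ξ.1 = χ.1 := by
  subst hH
  refine ⟨irrMap Subgroup.topEquiv.symm χ, ?_⟩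
  funext g
  have h1 := xt_coe (irrMap Subgroup.topEquiv.symm χ).1 (⟨g, Subgroup.mem_top g⟩ : (⊤ : Subgroup G))
  simp only at h1
  rw [h1]
  rfl

variable (c : Ctx p M P e)
  {th : ∀ Y : Subgroup G, IrrCharacter (Subgroup.centralizer (Y : Set G))}
  (hth : Fam p M P e th)
include c hth

omit c hth in
theorem av_bot (v : G) (F : G → ℂ) : av p P th ⊥ v F = cf p (Nat.card P)
    (Subgroup.centralizer (Subgroup.zpowers v : Set G))
    (xt (Subgroup.centralizer (Subgroup.zpowers v : Set G)) (th (Subgroup.zpowers v)).1) v F := by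
  have h1 : (⊥ : Subgroup G) ⊔ Subgroup.zpowers v = Subgroup.zpowers v := bot_sup_eq _
  rw [av, h1]

omit c hth in
theorem zp_ne_bot {v : G} (hv : v ≠ 1) : Subgroup.zpowers v ≠ ⊥ := fun h =>
  hv (Subgroup.zpowers_eq_bot.1 h)

theorem locDat_zp {v : G} (hv : v ∈ P) (hv1 : v ≠ 1)
    [Fintype (Subgroup.centralizer (Subgroup.zpowers v : Set G))] :
    LocDat p M (blockOf M (th (Subgroup.zpowers v)).1) (th (Subgroup.zpowers v)) (Nat.card P) :=
  c.locDat (zp_ne_bot hv1) (isPBlock_blockOf _)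
    (hth _ (by rw [Subgroup.zpowers_le]; exact hv)) (mem_blockOf_self _)

variable {B : Set (IrrCharacter G)} (hB : IsPBlock M B) (hb : MPairOf p (eB M B) P e)
include hB hb

theorem ind_zp {v : G} (hv : v ∈ P) :
    IsInducedBlock M (Subgroup.centralizer (Subgroup.zpowers v : Set G))
      (blockOf M (th (Subgroup.zpowers v)).1) B := by
  haveI := charP_kM c.hM
  have hle := hth (Subgroup.zpowers v) (by rw [Subgroup.zpowers_le]; exact hv)
  rw [isInducedBlock_iff_pair c.hM (c.max.1.isPGroup.to_le hle.le) (isPBlock_blockOf _) hB]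
  exact (hle.pairOf_iff c.max.1).1 hb

theorem top_one {v : G} (hv : v ∈ P) (hv1 : v ≠ 1) :
    ∑ χ ∈ Bfin B, av p P th ⊥ v χ.1 * conj (av p P th ⊥ v χ.1) = Nat.card P := by
  haveI := Fintype.ofFinite (Subgroup.centralizer (Subgroup.zpowers v : Set G))
  simp only [av_bot]
  exact (locDat_zp c hth hv hv1).sum_cf c.hM (exists_orderOf c.max.1.isPGroup hv)
    (centralizer_zpowers_eq v) (ind_zp c hth hB hb hv)

theorem top_notMem {v : G} (hv : v ∈ P) (hv1 : v ≠ 1) {ψ : IrrCharacter G} (hψ : ψ ∉ B) :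
    av p P th ⊥ v ψ.1 = 0 := by
  haveI := Fintype.ofFinite (Subgroup.centralizer (Subgroup.zpowers v : Set G))
  rw [av_bot]
  exact (locDat_zp c hth hv hv1).cf_eq_zero c.hM (exists_orderOf c.max.1.isPGroup hv)
    (centralizer_zpowers_eq v) (ind_zp c hth hB hb hv) hψ

theorem top_zero {v v' : G} (hv : v ∈ P) (hv' : v' ∈ P) (hv1 : v ≠ 1) (hv1' : v' ≠ 1)
    (hne : ∀ s ∈ stab (Subgroup.normalizer (P : Set G)) e, s * v * s⁻¹ ≠ v') :
    ∑ χ ∈ Bfin B, av p P th ⊥ v χ.1 * conj (av p P th ⊥ v' χ.1) = 0 := by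
  classical
  haveI := charP_kM c.hM
  haveI : Fintype (IrrCharacter G) := Fintype.ofFinite _
  have h0 : ∑ χ ∈ Bfin B, av p P th ⊥ v χ.1 * conj (av p P th ⊥ v' χ.1) =
      ∑ χ : IrrCharacter G, av p P th ⊥ v χ.1 * conj (av p P th ⊥ v' χ.1) := by
    refine Finset.sum_subset (Finset.subset_univ _) fun χ _ hχ => ?_
    rw [top_notMem c hth hB hb hv hv1 (fun h => hχ (mem_Bfin.2 h)), zero_mul]
  rw [h0]
  have hv'o := exists_orderOf c.max.1.isPGroup hv'
  by_cases hg : ∃ g : G, g * v * g⁻¹ = v'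
  · obtain ⟨g, rfl⟩ := hg
    simp only [av_bot]
    have hZ : Subgroup.zpowers (g * v * g⁻¹) =
        (Subgroup.zpowers v).map (MulAut.conj g).toMonoidHom := zpowers_conj v g
    have hC : Subgroup.centralizer
        (((Subgroup.zpowers v).map (MulAut.conj g).toMonoidHom : Subgroup G) : Set G) =
        Subgroup.centralizer ({g * v * g⁻¹} : Set G) := by
      rw [← hZ, centralizer_zpowers_eq]
    have hle' := hth (Subgroup.zpowers (g * v * g⁻¹)) (by rw [Subgroup.zpowers_le]; exact hv')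
    haveI : Fintype (Subgroup.centralizer (Subgroup.zpowers v : Set G)) := Fintype.ofFinite _
    haveI : Fintype (Subgroup.centralizer
      (((Subgroup.zpowers v).map (MulAut.conj g).toMonoidHom : Subgroup G) : Set G)) :=
      Fintype.ofFinite _
    have hne1 := zp_ne_bot hv1'
    rw [hZ] at hle' hne1
    have hloc' := c.locDat hne1 (isPBlock_blockOf _) hle' (mem_blockOf_self _)
    have hloc := (locDat_zp c hth hv hv1).map (centConj (Subgroup.zpowers v) g)
    have hcj : ∀ χ : IrrCharacter G, cf p (Nat.card P)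
        (Subgroup.centralizer (Subgroup.zpowers v : Set G))
        (xt (Subgroup.centralizer (Subgroup.zpowers v : Set G)) (th (Subgroup.zpowers v)).1) v χ.1 =
        cf p (Nat.card P) (Subgroup.centralizer
          (((Subgroup.zpowers v).map (MulAut.conj g).toMonoidHom : Subgroup G) : Set G))
        (xt (Subgroup.centralizer
          (((Subgroup.zpowers v).map (MulAut.conj g).toMonoidHom : Subgroup G) : Set G))
          (irrMap (centConj (Subgroup.zpowers v) g) (th (Subgroup.zpowers v))).1)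
        (g * v * g⁻¹) χ.1 := by
      intro χ
      have key := cf_conj (p := p) (n := Nat.card P)
        (Subgroup.centralizer (Subgroup.zpowers v : Set G))
        (Θ := xt _ (th (Subgroup.zpowers v)).1)
        (Θ' := xt (Subgroup.centralizer
          (((Subgroup.zpowers v).map (MulAut.conj g).toMonoidHom : Subgroup G) : Set G))
          (irrMap (centConj (Subgroup.zpowers v) g) (th (Subgroup.zpowers v))).1) v g
        (F := χ.1) (F' := χ.1)
        (fun x hx _ => by
          have hmem : g * x * g⁻¹ ∈ Subgroup.centralizer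
              (((Subgroup.zpowers v).map (MulAut.conj g).toMonoidHom : Subgroup G) : Set G) := by
            rw [← map_conj_centralizer]
            exact ⟨x, hx, rfl⟩
          have h3 := xt_coe (th (Subgroup.zpowers v)).1 ⟨x, hx⟩
          have h4 := xt_coe (irrMap (centConj (Subgroup.zpowers v) g)
            (th (Subgroup.zpowers v))).1 ⟨g * x * g⁻¹, hmem⟩
          simp only at h3 h4
          have h2 : (centConj (Subgroup.zpowers v) g).symm ⟨g * x * g⁻¹, hmem⟩ = ⟨x, hx⟩ := by
            rw [MulEquiv.symm_apply_eq]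
            apply Subtype.ext
            rw [centConj_coe]
          rw [h3, h4, irrMap_apply, h2])
        (fun x _ _ => irr_isClassFunction χ _ _)
      rw [map_conj_centralizer] at key
      exact key.symm
    rw [Finset.sum_congr rfl fun χ _ => by rw [hcj χ, hZ]]
    rw [← conjBlock_eq] at hloc
    refine sum_cf_of_ne c.hM hv'o hC hloc hloc' ?_
    intro heq
    -- fusion
    have hle := hth (Subgroup.zpowers v) (by rw [Subgroup.zpowers_le]; exact hv)
    have hle2 : MLe p (cjS g (Subgroup.zpowers v))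
        (Blk.cj g (EB M _ (blockOf M (th (Subgroup.zpowers v)).1))) P e := by
      rw [← EB_conjBlock, heq]
      exact hle'
    obtain ⟨y, hy, x, hx, hgx⟩ := fusion_of_comm c.max c.comm hle hle2
    apply hne y hy
    have h5 : g * v * g⁻¹ ∈ cjS g (Subgroup.zpowers v) := ⟨v, Subgroup.mem_zpowers v, rfl⟩
    have h6 := Subgroup.mem_centralizer_iff.1 hx _ h5
    have h7 : y * v * y⁻¹ = x⁻¹ * (g * v * g⁻¹) * x := by rw [hgx]; group
    rw [h7, mul_assoc, h6]
    group
  · push Not at hg
    simp only [av_bot]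
    haveI : Fintype (Subgroup.centralizer (Subgroup.zpowers v : Set G)) := Fintype.ofFinite _
    haveI : Fintype (Subgroup.centralizer (Subgroup.zpowers v' : Set G)) := Fintype.ofFinite _
    exact sum_cf_of_not_conj (exists_orderOf c.max.1.isPGroup hv) hv'o
      (fun x hx => cent_comm v x hx) (fun x hx => cent_comm v' x hx) _ _ hg

theorem top_ne {v : G} (hv : v ∈ P) (hv1 : v ≠ 1) {χ : IrrCharacter G} (hχ : χ ∈ B) :
    av p P th ⊥ v χ.1 ≠ 0 := by
  classical
  haveI := charP_kM c.hM
  haveI : Fintype (Subgroup.centralizer (Subgroup.zpowers v : Set G)) := Fintype.ofFinite _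
  have hZP : Subgroup.zpowers v ≤ P := by rw [Subgroup.zpowers_le]; exact hv
  have hle := hth (Subgroup.zpowers v) hZP
  have hPZ : P ≤ Subgroup.centralizer (Subgroup.zpowers v : Set G) :=
    le_centralizer_of_comm c.comm hZP
  have hn : MNorm p _ _ P e := MLe.mnorm hle c.max.1 (hPZ.trans (centralizer_le_normalizer _))
  have hvC : v ∈ Subgroup.centralizer (Subgroup.zpowers v : Set G) := hPZ hv
  have hcomm : ∀ x : Subgroup.centralizer (Subgroup.zpowers v : Set G),
      x * ⟨v, hvC⟩ = ⟨v, hvC⟩ * x := fun x => Subtype.ext (cent_comm v x x.2).symm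
  have h1 := sum_ne_zero_of_major c.hM hB c.max hb (centralizer_le_of_le hZP)
    (isPBlock_blockOf (th (Subgroup.zpowers v)))
    (isDef_centralizer_of_comm c.max c.comm hle) hn.brmul (u := ⟨v, hvC⟩) hcomm
    (exists_orderOf c.max.1.isPGroup hv) hχ
  intro h2
  apply h1
  rw [av_bot] at h2
  have h3 := (locDat_zp c hth hv hv1).dpart c.hM v χ.1 (one_reg (p := p))
  rw [h2, zero_mul, BlkC.dpart, pRegularPart_apply_of_reg one_reg,
    ← sum_blockCoeff_mul _ (shiftC_isClassFunction (cent_comm v) (irr_isClassFunction χ))] at h3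
  rw [← h3]
  symm
  refine Fintype.sum_equiv (Equiv.mulLeft (⟨v, hvC⟩ :
    Subgroup.centralizer (Subgroup.zpowers v : Set G))) _ _ fun x => ?_
  rw [Equiv.coe_mulLeft, inv_mul_cancel_left, one_mul]
  rfl

/-- **The top datum.** -/
theorem isTop (hP : P ≠ ⊥) {i : MonoidAlgebra (kM M) G} {m : Subgroup P → ℤ} (hi : Src P e i)
    (hm : ∀ X : Subgroup P, tv M (th (X.map P.subtype)).1 1
        (Blk.res (Subgroup.centralizer ((X.map P.subtype : Subgroup G) : Set G)) i) = (m X : ℂ))
    (hsys : IsSys p m (SX p M P e th)) :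
    IsTop p m (SX p M P e th) (inE P e)
      (fun (χ : {χ // χ ∈ Bfin B}) (v : P) => av p P th ⊥ (v : G) χ.1.1) := by
  classical
  haveI := charP_kM c.hM
  have hbotC : Subgroup.centralizer ((⊥ : Subgroup G) : Set G) = ⊤ := centralizer_bot'
  have h1v : ∀ v : P, v ≠ 1 → (v : G) ≠ 1 := fun v hv h => hv (Subtype.ext h)
  refine ⟨hsys, inE_free c, fun σ hσ X hX a ha => SX_eqv c hth hσ hX ha, ?_, ?_, ?_, ?_, ?_, ?_⟩
  · rintro ⟨χ, hχ⟩ σ hσ v hv
    obtain ⟨s, hs, hσs⟩ := mem_inE.1 hσ
    have h2 := av_conj c hth hs (Y := ⊥) bot_le v.2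
      (by rw [bot_sup_eq]; exact zp_ne_bot (h1v v hv))
      (F := χ.1) (F' := χ.1) (fun x _ => irr_isClassFunction χ _ _)
    rw [Subgroup.map_bot] at h2
    simp only
    rw [hσs v, h2]
  · intro v hv
    rw [← top_one c hth hB hb v.2 (h1v v hv)]
    exact Finset.sum_coe_sort (Bfin B) (fun χ : IrrCharacter G =>
      av p P th ⊥ (v : G) χ.1 * conj (av p P th ⊥ (v : G) χ.1))
  · intro v v' hv hv' hne
    rw [← top_zero c hth hB hb v.2 v'.2 (h1v v hv) (h1v v' hv') (fun s hs h => ?_)]
    · exact Finset.sum_coe_sort (Bfin B) (fun χ : IrrCharacter G =>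
        av p P th ⊥ (v : G) χ.1 * conj (av p P th ⊥ (v' : G) χ.1))
    · refine hne (actHom P _ (stab_le _ _) ⟨s, hs⟩) ⟨_, rfl⟩ ?_
      apply Subtype.ext
      rw [actHom_apply]
      exact h
  · rintro ⟨χ, hχ⟩
    obtain ⟨ξ, hξ⟩ := exists_xt_top hbotC χ
    obtain ⟨h, hh, hv⟩ := exists_gen c hth hi (Y := ⊥) bot_le ξ
    refine ⟨h, hh, fun v hv1 => ?_⟩
    have h2 := hv v (by rw [bot_sup_eq]; exact zp_ne_bot (h1v v hv1))
    rw [h2, hξ]
    congr 1
    have h3 := hm (Subgroup.zpowers v)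
    rw [up_zpowers] at h3
    have h4 : (⊥ : Subgroup G) ⊔ Subgroup.zpowers (v : G) = Subgroup.zpowers (v : G) :=
      bot_sup_eq _
    rw [h4, h3]
  · rintro ⟨χ, hχ⟩ v hv
    obtain ⟨ξ, hξ⟩ := exists_xt_top hbotC χ
    obtain ⟨r, hr, h⟩ := exists_agree c hth (X := Subgroup.zpowers v)
      (up_ne_bot (zpowers_ne_bot hv)) (Y := ⊥) bot_le ξ
    refine ⟨r, hr, fun w hw => ?_⟩
    have h2 := h w (by rw [bot_sup_eq, ← hw, up_zpowers])
    rw [hξ] at h2
    exact h2
  · rintro ⟨χ, hχ⟩
    obtain ⟨z, hz, hz1⟩ : ∃ z ∈ P, z ≠ 1 := by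
      by_contra hcon
      push Not at hcon
      exact hP ((Subgroup.eq_bot_iff_forall P).2 hcon)
    exact ⟨⟨z, hz⟩, fun h => hz1 (congrArg Subtype.val h),
      top_ne c hth hB hb hz hz1 (mem_Bfin.1 hχ)⟩

end

end Cfsg.Agent.AbFree
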