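import Cfsg.Agent.AbFree.Cut

/-!
# Local characters below an abelian pair with free inertial quotient (owner: helper78)
-/

set_option autoImplicit false
set_option linter.unusedSectionVars false
set_option linter.style.haveILetI false

universe u

namespace Cfsg.Agent.AbFree

open scoped ComplexConjugate
open MonoidAlgebra Cfsg Cfsg.Agent.Blk Cfsg.Agent.BlkF Cfsg.Agent.CharBase Cfsg.Agent.BlkC
  Cfsg.Agent.Star Cfsg.Agent.Cyc

/-- an abelian maximal pair, whose inertial quotient acts freely -/
structure Ctx (p : ℕ) [Fact p.Prime] (M : Ideal AlgInt) [M.IsPrime] {G : Type u} [Group G]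
    [Fintype G] (P : Subgroup G) (e : MonoidAlgebra (kM M) G) : Prop where
  hM : IsPModular p M
  max : MMax p P e
  comm : ∀ x ∈ P, ∀ y ∈ P, x * y = y * x
  free : ∀ x ∈ stab (Subgroup.normalizer (P : Set G)) e, ∀ z ∈ P, z ≠ 1 → x * z * x⁻¹ = z →
    x ∈ Subgroup.centralizer (P : Set G)

section

variable {p : ℕ} [hp : Fact p.Prime] {M : Ideal AlgInt} [hMp : M.IsPrime]
  {G : Type u} [Group G] [Fintype G] {P : Subgroup G} {e : MonoidAlgebra (kM M) G}

theorem mle_res [CharP (kM M) p] (hab : ∀ x ∈ P, ∀ y ∈ P, x * y = y * x) (he : MPair p P e)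
    {H Z : Subgroup G} {V : Subgroup H} (hPH : P ≤ H)
    (hCPH : Subgroup.centralizer (P : Set G) ≤ H)
    {f : MonoidAlgebra (kM M) G} (hZ : MLe p Z f P e) (hV : V ≤ P.subgroupOf H)
    (hCZH : Subgroup.centralizer (Z : Set G) ≤ H)
    (hC : ∀ x : H, x ∈ Subgroup.centralizer (V : Set H) ↔
      (x : G) ∈ Subgroup.centralizer (Z : Set G)) :
    MLe p V (res H f) (P.subgroupOf H) (res H e) := by
  have hPZ : P ≤ Subgroup.centralizer (Z : Set G) := le_centralizer_of_comm hab hZ.le
  have hn : MNorm p Z f P e := MLe.mnorm hZ he (hPZ.trans (centralizer_le_normalizer Z))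
  have hmP : (P.subgroupOf H).map H.subtype = P := map_subgroupOf' hPH
  have hf : incl H (res H f) = f := incl_res (hn.left.blk.supp.mono hCZH)
  have hre : incl H (res H e) = e := incl_res (he.blk.supp.mono hCPH)
  have hCV : (Subgroup.centralizer (V : Set H)).map H.subtype =
      Subgroup.centralizer (Z : Set G) := by
    ext g
    rw [mem_map_subtype]
    constructor
    · rintro ⟨h1, h2⟩; exact (hC _).1 h2
    · intro h; exact ⟨hCZH h, (hC _).2 h⟩
  have hab' : ∀ y ∈ P.subgroupOf H, ∀ z ∈ P.subgroupOf H, y * z = z * y := fun y hy z hz =>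
    Subtype.ext (hab y (Subgroup.mem_subgroupOf.1 hy) z (Subgroup.mem_subgroupOf.1 hz))
  have hr : MPair p (P.subgroupOf H) (res H e) :=
    (mpair_incl_iff_of_le (by rw [hmP]; exact hCPH)).2 (by rw [hmP, hre]; exact he)
  refine (?_ : MNorm p V (res H f) (P.subgroupOf H) (res H e)).mle
  refine ⟨⟨hr.isPGroup.to_le hV, ?_⟩, hr, hV, ?_, ?_, ?_⟩
  · rw [← isBlk_incl_map_iff, hCV, hf]; exact hn.left.blk
  · exact (le_centralizer_of_comm hab' hV).trans (centralizer_le_normalizer V)
  · exact fixed_incl_map_iff.1 (by rw [hmP, hf]; exact hn.fixed)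
  · apply incl_injective
    rw [incl_mul, incl_br, hmP, hf, hre]; exact hn.brmul

theorem eq_blockOf_of_mem {C : Type u} [Group C] [Fintype C] {b : Set (IrrCharacter C)}
    (hb : IsPBlock M b) {θ : IrrCharacter C} (hθ : θ ∈ b) : b = blockOf M (θ : C → ℂ) := by
  obtain ⟨χ, rfl⟩ := hb
  exact blockOf_eq_of_sameBlock hθ

theorem isPBlock_blockOf {C : Type u} [Group C] (θ : IrrCharacter C) :
    IsPBlock M (blockOf M (θ : C → ℂ)) := ⟨θ, rfl⟩

theorem mem_blockOf_self {C : Type u} [Group C] [Fintype C] (θ : IrrCharacter C) :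
    θ ∈ blockOf M (θ : C → ℂ) := by
  intro g
  simp only [sub_self]
  exact mli_zero

variable (c : Ctx p M P e)
include c

theorem Ctx.nil {Y : Subgroup G} (hY : Y ≠ ⊥)
    [Fintype (Subgroup.centralizer (Y : Set G))]
    {b : Set (IrrCharacter (Subgroup.centralizer (Y : Set G)))} (hb : IsPBlock M b)
    (hle : MLe p Y (EB M _ b) P e) :
    MMax p (P.subgroupOf (Subgroup.centralizer (Y : Set G)))
        (res (Subgroup.centralizer (Y : Set G)) e) ∧
      MPairOf p (eB M b) (P.subgroupOf (Subgroup.centralizer (Y : Set G)))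
        (res (Subgroup.centralizer (Y : Set G)) e) ∧
      IsDef p ⊤ (eB M b) (P.subgroupOf (Subgroup.centralizer (Y : Set G))) ∧
      MNilp p (eB M b) ∧
      NilSetup p M b (P.subgroupOf (Subgroup.centralizer (Y : Set G)))
        (res (Subgroup.centralizer (Y : Set G)) e) ∧
      Nat.card (P.subgroupOf (Subgroup.centralizer (Y : Set G))) = Nat.card P := by
  classical
  haveI := charP_kM c.hM
  obtain ⟨k1, k2, k3⟩ := local_setup c.max c.comm hle
  rw [res_EB] at k1 k3
  have hPH : P ≤ Subgroup.centralizer (Y : Set G) := le_centralizer_of_comm c.comm hle.le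
  obtain ⟨z, hz, hz1⟩ : ∃ z ∈ Y, z ≠ 1 := by
    by_contra hcon
    push Not at hcon
    exact hY ((Subgroup.eq_bot_iff_forall Y).2 hcon)
  have hkey : ∀ x ∈ stab (Subgroup.normalizer (P : Set G)) e,
      x ∈ Subgroup.centralizer (Y : Set G) → x ∈ Subgroup.centralizer (P : Set G) := by
    intro x hx hxY
    refine c.free x hx z (hle.le hz) hz1 ?_
    have := Subgroup.mem_centralizer_iff.1 hxY z hz
    rw [← this]; group
  have hnilp : MNilp p (eB M b) := by
    have := (mnilp_res_iff c.max c.comm hle).2 hkey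
    rwa [res_EB] at this
  have hab' : ∀ y ∈ P.subgroupOf (Subgroup.centralizer (Y : Set G)),
      ∀ z ∈ P.subgroupOf (Subgroup.centralizer (Y : Set G)), y * z = z * y := fun y hy z hz =>
    Subtype.ext (c.comm y (Subgroup.mem_subgroupOf.1 hy) z (Subgroup.mem_subgroupOf.1 hz))
  have hPdef : IsDefectGroup p M b (P.subgroupOf (Subgroup.centralizer (Y : Set G))) :=
    (isDefectGroup_iff c.hM hb _).2 k3
  have htriv : ∀ y ∈ stab (Subgroup.normalizer
      ((P.subgroupOf (Subgroup.centralizer (Y : Set G)) :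
        Subgroup (Subgroup.centralizer (Y : Set G))) : Set (Subgroup.centralizer (Y : Set G))))
      (Blk.res (Subgroup.centralizer (Y : Set G)) e),
      y ∈ Subgroup.centralizer ((P.subgroupOf (Subgroup.centralizer (Y : Set G)) :
        Subgroup (Subgroup.centralizer (Y : Set G))) : Set (Subgroup.centralizer (Y : Set G))) := by
    intro y hy
    rw [mem_centralizer_subgroupOf_iff hPH]
    rw [mem_stab_res_iff hPH (c.max.1.blk.supp.mono (centralizer_le_of_le hle.le))] at hy
    exact hkey y hy y.2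
  exact ⟨k2, k1, k3, hnilp, NilSetup.mk' c.hM hb k2 k1 hPdef hab' htriv,
    Nat.card_congr (Subgroup.subgroupOfEquivOfLe hPH).toEquiv⟩

theorem Ctx.locDat {Y : Subgroup G} (hY : Y ≠ ⊥)
    [Fintype (Subgroup.centralizer (Y : Set G))]
    {b : Set (IrrCharacter (Subgroup.centralizer (Y : Set G)))} (hb : IsPBlock M b)
    (hle : MLe p Y (EB M _ b) P e) {θ : IrrCharacter (Subgroup.centralizer (Y : Set G))}
    (hθ : θ ∈ b) : LocDat p M b θ (Nat.card P) := by
  obtain ⟨k2, k1, k3, hn, S, hcard⟩ := c.nil hY hb hle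
  obtain ⟨-, hreg, hcardb, hrank, -⟩ := nilp_abelian c.hM hb k2 k1 k3 hn S.comm
  have h1 := LocDat.of_rank c.hM hb hθ hreg hrank
  rwa [hcardb, hcard] at h1

theorem Ctx.unique {Y : Subgroup G}
    {b b' : Set (IrrCharacter (Subgroup.centralizer (Y : Set G)))} (hb : IsPBlock M b)
    (hb' : IsPBlock M b') (hle : MLe p Y (EB M _ b) P e) (hle' : MLe p Y (EB M _ b') P e) :
    b = b' := by
  haveI := charP_kM c.hM
  exact EB_injective hb hb' (MLe.unique c.max.1 Y _ _ hle hle')

omit c in
theorem mpair_blk_le (hM : IsPModular p M) (he : MMax p P e) {Y : Subgroup G} (hY : Y ≤ P) :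
    ∃ θ : IrrCharacter (Subgroup.centralizer (Y : Set G)),
      MLe p Y (EB M _ (blockOf M θ.1)) P e := by
  classical
  haveI := charP_kM hM
  obtain ⟨f0, hf0, hle⟩ := exists_mle he.1 Y hY
  obtain ⟨f, hf, rfl⟩ := exists_EB hf0.blk
  haveI := Fintype.ofFinite (Subgroup.centralizer (Y : Set G))
  obtain ⟨χ, hχ⟩ := isPBlock_nonempty hf
  exact ⟨χ, by rw [← eq_blockOf_of_mem hf hχ]; exact hle⟩

end

/-- a choice of local characters below `(P, e)` -/
def Fam {G : Type u} [Group G] [Fintype G] (p : ℕ) [Fact p.Prime] (M : Ideal AlgInt) [M.IsPrime]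
    (P : Subgroup G) (e : MonoidAlgebra (kM M) G)
    (th : ∀ Y : Subgroup G, IrrCharacter (Subgroup.centralizer (Y : Set G))) : Prop :=
  ∀ Y : Subgroup G, Y ≤ P → MLe p Y (EB M _ (blockOf M (th Y).1)) P e

theorem exists_fam {p : ℕ} [hp : Fact p.Prime] {M : Ideal AlgInt} [hMp : M.IsPrime]
    {G : Type u} [Group G] [Fintype G] {P : Subgroup G} {e : MonoidAlgebra (kM M) G}
    (hM : IsPModular p M) (he : MMax p P e) : ∃ th, Fam p M P e th := by
  classical
  refine ⟨fun Y => if hY : Y ≤ P then Classical.choose (mpair_blk_le hM he hY) else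
    ⟨_, isIrrCharacter_one⟩, fun Y hY => ?_⟩
  simp only [dif_pos hY]
  exact Classical.choose_spec (mpair_blk_le hM he hY)

/-- the coefficient at `v`, relative to `C_G(Y ⟨v⟩)` -/
noncomputable def av {G : Type u} [Group G] [Fintype G] (p : ℕ) (P : Subgroup G)
    (th : ∀ Y : Subgroup G, IrrCharacter (Subgroup.centralizer (Y : Set G)))
    (Y : Subgroup G) (v : G) (F : G → ℂ) : ℂ :=
  cf p (Nat.card P) (Subgroup.centralizer ((Y ⊔ Subgroup.zpowers v : Subgroup G) : Set G))
    (xt _ (th (Y ⊔ Subgroup.zpowers v)).1) v F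

section

variable {p : ℕ} [hp : Fact p.Prime] {M : Ideal AlgInt} [hMp : M.IsPrime]
  {G : Type u} [Group G] [Fintype G] {P : Subgroup G} {e : MonoidAlgebra (kM M) G}

theorem mem_centralizer_sup_iff {Y : Subgroup G} {v x : G} :
    x ∈ Subgroup.centralizer ((Y ⊔ Subgroup.zpowers v : Subgroup G) : Set G) ↔
      x ∈ Subgroup.centralizer (Y : Set G) ∧ v * x = x * v := by
  constructor
  · intro h
    refine ⟨centralizer_le_of_le le_sup_left h, ?_⟩
    exact Subgroup.mem_centralizer_iff.1 h v
      ((le_sup_right : Subgroup.zpowers v ≤ Y ⊔ Subgroup.zpowers v) (Subgroup.mem_zpowers v))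
  · rintro ⟨h1, h2⟩
    rw [← Subgroup.zpowers_le, Subgroup.le_centralizer_iff, sup_le_iff]
    constructor
    · intro y hy
      rw [Subgroup.mem_centralizer_iff]
      intro z hz
      obtain ⟨k, rfl⟩ := Subgroup.mem_zpowers_iff.1 hz
      have h3 : Commute x y := (Subgroup.mem_centralizer_iff.1 h1 y hy).symm
      exact (h3.zpow_left k).eq
    · rw [Subgroup.zpowers_le, Subgroup.mem_centralizer_iff]
      intro z hz
      obtain ⟨k, rfl⟩ := Subgroup.mem_zpowers_iff.1 hz
      have h3 : Commute x v := h2.symm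
      exact (h3.zpow_left k).eq

theorem mem_centralizer_zpowers_sub_iff {H : Subgroup G} {v' x : H} :
    x ∈ Subgroup.centralizer (Subgroup.zpowers v' : Set H) ↔ (v' : G) * x = x * v' := by
  constructor
  · intro h
    exact congrArg Subtype.val
      (Subgroup.mem_centralizer_iff.1 h v' (Subgroup.mem_zpowers v'))
  · intro h
    rw [Subgroup.mem_centralizer_iff]
    intro z hz
    obtain ⟨k, rfl⟩ := Subgroup.mem_zpowers_iff.1 hz
    have h3 : Commute v' x := Subtype.ext h
    exact (h3.zpow_left k).eq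

variable (c : Ctx p M P e)
  {th : ∀ Y : Subgroup G, IrrCharacter (Subgroup.centralizer (Y : Set G))}
  (hth : Fam p M P e th)
include c hth

/-- **the local data inside `H = C_G(Y)`** -/
theorem exists_loc {Y : Subgroup G} (hYP : Y ≤ P) {v : G} (hv : v ∈ P)
    (hne : Y ⊔ Subgroup.zpowers v ≠ ⊥) [Fintype (Subgroup.centralizer (Y : Set G))]
    {v' : Subgroup.centralizer (Y : Set G)} (hv' : (v' : G) = v)
    [Fintype (Subgroup.centralizer (Subgroup.zpowers v' : Set (Subgroup.centralizer (Y : Set G))))] :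
    ∃ (b : Set (IrrCharacter
        (Subgroup.centralizer (Subgroup.zpowers v' : Set (Subgroup.centralizer (Y : Set G))))))
      (θ : IrrCharacter
        (Subgroup.centralizer (Subgroup.zpowers v' : Set (Subgroup.centralizer (Y : Set G))))),
      LocDat p M b θ (Nat.card P) ∧
      MLe p (Subgroup.zpowers v') (EB M _ b) (P.subgroupOf (Subgroup.centralizer (Y : Set G)))
        (res (Subgroup.centralizer (Y : Set G)) e) ∧
      (∀ F : Subgroup.centralizer (Y : Set G) → ℂ,
        av p P th Y v (xt (Subgroup.centralizer (Y : Set G)) F) = cf p (Nat.card P)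
          (Subgroup.centralizer (Subgroup.zpowers v' : Set (Subgroup.centralizer (Y : Set G))))
          (xt (Subgroup.centralizer
            (Subgroup.zpowers v' : Set (Subgroup.centralizer (Y : Set G)))) θ.1) v' F) ∧
      (∀ i : MonoidAlgebra (kM M) G, Fixed P i → i * i = i →
        tv M θ.1 1 (res (Subgroup.centralizer
            (Subgroup.zpowers v' : Set (Subgroup.centralizer (Y : Set G))))
          (br (Subgroup.zpowers v') (res (Subgroup.centralizer (Y : Set G)) i))) =
        tv M (th (Y ⊔ Subgroup.zpowers v)).1 1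
          (res (Subgroup.centralizer ((Y ⊔ Subgroup.zpowers v : Subgroup G) : Set G)) i)) ∧
      EB M _ b = res (Subgroup.centralizer (Y : Set G))
        (EB M _ (blockOf M (th (Y ⊔ Subgroup.zpowers v)).1)) := by
  classical
  haveI := charP_kM c.hM
  obtain ⟨H, hH⟩ : ∃ H, H = Subgroup.centralizer (Y : Set G) := ⟨_, rfl⟩
  obtain ⟨Z, hZ⟩ : ∃ Z, Z = Y ⊔ Subgroup.zpowers v := ⟨_, rfl⟩
  have hZP : Z ≤ P := by
    rw [hZ, sup_le_iff, Subgroup.zpowers_le]; exact ⟨hYP, hv⟩
  rw [← hZ] at hne ⊢
  have hCH : Subgroup.centralizer (Z : Set G) ≤ Subgroup.centralizer (Y : Set G) :=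
    centralizer_le_of_le (by rw [hZ]; exact le_sup_left)
  have hmem : ∀ x : Subgroup.centralizer (Y : Set G),
      x ∈ Subgroup.centralizer (Subgroup.zpowers v' : Set (Subgroup.centralizer (Y : Set G))) ↔
      (x : G) ∈ Subgroup.centralizer (Z : Set G) := by
    intro x
    rw [mem_centralizer_zpowers_sub_iff, hZ, mem_centralizer_sup_iff, hv']
    exact ⟨fun h => ⟨x.2, h⟩, fun h => h.2⟩
  have hle := hth Z hZP
  haveI : Fintype (Subgroup.centralizer (Z : Set G)) := Fintype.ofFinite _
  have hloc : LocDat p M (blockOf M (th Z).1) (th Z) (Nat.card P) :=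
    c.locDat hne (isPBlock_blockOf _) hle (mem_blockOf_self _)
  have hPH : P ≤ Subgroup.centralizer (Y : Set G) := le_centralizer_of_comm c.comm hYP
  refine ⟨irrMap (cut hCH hmem) '' blockOf M (th Z).1, irrMap (cut hCH hmem) (th Z),
    hloc.map (cut hCH hmem), ?_, ?_, ?_, ?_⟩
  · rw [EB_cut]
    refine mle_res c.comm c.max.1 hPH (centralizer_le_of_le hYP) hle ?_ hCH hmem
    rw [Subgroup.zpowers_le, Subgroup.mem_subgroupOf, hv']
    exact hv
  · intro F
    rw [av, ← hZ, ← hv']
    exact cf_cut hCH hmem _ _ (fun x => by rw [irrMap_apply, MulEquiv.symm_apply_apply]) v' F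
  · intro i hi hii
    have h1 : res (Subgroup.centralizer (Subgroup.zpowers v' :
        Set (Subgroup.centralizer (Y : Set G)))) (br (Subgroup.zpowers v')
          (res (Subgroup.centralizer (Y : Set G)) i)) =
        tm (cut hCH hmem) (res (Subgroup.centralizer (Z : Set G)) i) := by
      rw [← res_res_cut hCH hmem i]
      apply Blk.ga_ext; intro x
      exact trunc_coeff_of_mem _ x.2
    have hZp : IsPGroup p Z := c.max.1.isPGroup.to_le hZP
    have hidem : res (Subgroup.centralizer (Z : Set G)) i *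
        res (Subgroup.centralizer (Z : Set G)) i = res (Subgroup.centralizer (Z : Set G)) i := by
      apply incl_injective
      rw [incl_mul, incl_res']
      have h2 : trunc (Subgroup.centralizer (Z : Set G)) i = br Z i := rfl
      rw [h2, ← br_mul hZp (hi.mono hZP) (hi.mono hZP), hii]
    have h3 := tv_tm (M := M) (cut hCH hmem) (irr_isClassFunction (irrMap (cut hCH hmem) (th Z)))
      (1 : Subgroup.centralizer (Z : Set G)) (i := res (Subgroup.centralizer (Z : Set G)) i)
      (by
        intro x hx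
        rw [Subgroup.zpowers_one_eq_bot, Subgroup.mem_bot] at hx
        rw [hx, cj_one_left]) hidem
    rw [map_one] at h3
    rw [h1, h3]
    congr 1
  · rw [EB_cut]

end

end Cfsg.Agent.AbFree
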