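import Cfsg.Agent.AbFree.Loc

/-!
# Properties of the local coefficients (owner: helper78)
-/

set_option autoImplicit false
set_option linter.unusedSectionVars false
set_option linter.style.haveILetI false

universe u

namespace Cfsg.Agent.AbFree

open scoped ComplexConjugate
open MonoidAlgebra Cfsg Cfsg.Agent.Blk Cfsg.Agent.BlkF Cfsg.Agent.CharBase Cfsg.Agent.BlkC
  Cfsg.Agent.Star Cfsg.Agent.Cyc

section

variable {p : ℕ} [hp : Fact p.Prime] {M : Ideal AlgInt} [hMp : M.IsPrime]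
  {G : Type u} [Group G] [Fintype G] {P : Subgroup G} {e : MonoidAlgebra (kM M) G}

theorem exists_orderOf (hP : IsPGroup p P) {v : G} (hv : v ∈ P) : ∃ k : ℕ, orderOf v = p ^ k := by
  obtain ⟨k, hk⟩ := (IsPGroup.iff_orderOf.1 hP) ⟨v, hv⟩
  exact ⟨k, by rw [← hk]; exact (Subgroup.orderOf_mk v hv).symm⟩

theorem centralizer_zpowers_eq {H : Type u} [Group H] (v : H) :
    Subgroup.centralizer (Subgroup.zpowers v : Set H) = Subgroup.centralizer ({v} : Set H) := by
  ext x
  constructor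
  · intro h
    rw [Subgroup.mem_centralizer_singleton_iff]
    exact (Subgroup.mem_centralizer_iff.1 h v (Subgroup.mem_zpowers v)).symm
  · intro h
    rw [Subgroup.mem_centralizer_singleton_iff] at h
    rw [Subgroup.mem_centralizer_iff]
    intro z hz
    obtain ⟨k, rfl⟩ := Subgroup.mem_zpowers_iff.1 hz
    have h3 : Commute v x := h.symm
    exact (h3.zpow_left k).eq

variable (c : Ctx p M P e)
  {th : ∀ Y : Subgroup G, IrrCharacter (Subgroup.centralizer (Y : Set G))}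
  (hth : Fam p M P e th)
include c hth

/-- the star product by a linear character multiplies the coefficient -/
theorem av_lstar {Y : Subgroup G} (hYP : Y ≤ P) (hY : Y ≠ ⊥)
    (l : P →* ℂˣ) {ξ : IrrCharacter (Subgroup.centralizer (Y : Set G))}
    (hξ : MLe p Y (EB M _ (blockOf M ξ.1)) P e) :
    ∃ ψ ∈ blockOf M ξ.1, ∀ v (hv : v ∈ P),
      av p P th Y v (xt (Subgroup.centralizer (Y : Set G)) ψ.1) =
        ((l ⟨v, hv⟩ : ℂˣ) : ℂ) * av p P th Y v (xt (Subgroup.centralizer (Y : Set G)) ξ.1) := by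
  classical
  haveI := charP_kM c.hM
  haveI : Fintype (Subgroup.centralizer (Y : Set G)) := Fintype.ofFinite _
  have hPH : P ≤ Subgroup.centralizer (Y : Set G) := le_centralizer_of_comm c.comm hYP
  obtain ⟨k2, k1, k3, hn, S, hcard⟩ := c.nil hY (isPBlock_blockOf ξ) hξ
  obtain ⟨l', hl'⟩ : ∃ l' : P.subgroupOf (Subgroup.centralizer (Y : Set G)) →* ℂˣ,
      l' = l.comp (Subgroup.subgroupOfEquivOfLe hPH).toMonoidHom := ⟨_, rfl⟩
  obtain ⟨ψ, hψ, hw⟩ := S.exists_lstar l' (mem_blockOf_self ξ)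
  refine ⟨ψ, hψ, fun v hv => ?_⟩
  obtain ⟨v', hv'⟩ : ∃ v' : Subgroup.centralizer (Y : Set G), (v' : G) = v :=
    ⟨⟨v, hPH hv⟩, rfl⟩
  haveI : Fintype (Subgroup.centralizer
    (Subgroup.zpowers v' : Set (Subgroup.centralizer (Y : Set G)))) := Fintype.ofFinite _
  have hne : Y ⊔ Subgroup.zpowers v ≠ ⊥ := fun h => hY (le_bot_iff.1 (h ▸ le_sup_left))
  obtain ⟨b, θ, hloc, hmle, hav, -, -⟩ := exists_loc c hth hYP hv hne hv'
  rw [hav, hav, ← hw]
  have hv'P : v' ∈ P.subgroupOf (Subgroup.centralizer (Y : Set G)) := by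
    rw [Subgroup.mem_subgroupOf, hv']; exact hv
  rw [hloc.cf_wstar c.hM (irr_isClassFunction ξ) (exists_orderOf k2.1.isPGroup hv'P),
    wt_of_mle (S.stable _) hmle, lext_of_mem _ hv'P, hl']
  congr 2
  exact congrArg l (Subtype.ext hv')

/-- two local characters differ by a linear character -/
theorem av_diff {Y : Subgroup G} (hYP : Y ≤ P) (hY : Y ≠ ⊥)
    {ξ ψ : IrrCharacter (Subgroup.centralizer (Y : Set G))}
    (hξ : MLe p Y (EB M _ (blockOf M ξ.1)) P e) (hψ : ψ ∈ blockOf M ξ.1) :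
    ∃ l : P →* ℂˣ, ∀ v (hv : v ∈ P),
      av p P th Y v (xt (Subgroup.centralizer (Y : Set G)) ψ.1) =
        ((l ⟨v, hv⟩ : ℂˣ) : ℂ) * av p P th Y v (xt (Subgroup.centralizer (Y : Set G)) ξ.1) := by
  classical
  haveI := charP_kM c.hM
  haveI : Fintype (Subgroup.centralizer (Y : Set G)) := Fintype.ofFinite _
  have hPH : P ≤ Subgroup.centralizer (Y : Set G) := le_centralizer_of_comm c.comm hYP
  obtain ⟨k2, k1, k3, hn, S, hcard⟩ := c.nil hY (isPBlock_blockOf ξ) hξ
  haveI : Fintype (P.subgroupOf (Subgroup.centralizer (Y : Set G))) := Fintype.ofFinite _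
  haveI : Finite (P.subgroupOf (Subgroup.centralizer (Y : Set G)) →* ℂˣ) :=
    finite_dual (fun a b => Subtype.ext (S.comm a a.2 b b.2))
  haveI : Fintype (P.subgroupOf (Subgroup.centralizer (Y : Set G)) →* ℂˣ) := Fintype.ofFinite _
  obtain ⟨D, -, hD⟩ := S.exists_nilDat k3 hn (mem_blockOf_self ξ)
  obtain ⟨l', hl'⟩ := (D.mem ψ).1 hψ
  refine ⟨l'.comp (Subgroup.subgroupOfEquivOfLe hPH).symm.toMonoidHom, fun v hv => ?_⟩
  obtain ⟨v', hv'⟩ : ∃ v' : Subgroup.centralizer (Y : Set G), (v' : G) = v :=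
    ⟨⟨v, hPH hv⟩, rfl⟩
  haveI : Fintype (Subgroup.centralizer
    (Subgroup.zpowers v' : Set (Subgroup.centralizer (Y : Set G)))) := Fintype.ofFinite _
  have hne : Y ⊔ Subgroup.zpowers v ≠ ⊥ := fun h => hY (le_bot_iff.1 (h ▸ le_sup_left))
  obtain ⟨b, θ, hloc, hmle, hav, -, -⟩ := exists_loc c hth hYP hv hne hv'
  rw [hav, hav, ← hl', hD]
  have hv'P : v' ∈ P.subgroupOf (Subgroup.centralizer (Y : Set G)) := by
    rw [Subgroup.mem_subgroupOf, hv']; exact hv
  rw [hloc.cf_wstar c.hM (irr_isClassFunction ξ) (exists_orderOf k2.1.isPGroup hv'P),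
    wt_of_mle (S.stable _) hmle, lext_of_mem _ hv'P]
  congr 2
  rw [MonoidHom.comp_apply]
  apply congrArg l'
  apply Subtype.ext
  apply Subtype.ext
  exact hv'

theorem norm_lc {Q : Type u} [Group Q] [Finite Q] (l : Q →* ℂˣ) (v : Q) :
    ((l v : ℂˣ) : ℂ) * conj ((l v : ℂˣ) : ℂ) = 1 := by
  rw [mul_comm]; exact norm_hom l v

/-- the coefficients have norm one -/
theorem av_unit {Y : Subgroup G} (hYP : Y ≤ P) (hY : Y ≠ ⊥)
    {ξ : IrrCharacter (Subgroup.centralizer (Y : Set G))}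
    (hξ : MLe p Y (EB M _ (blockOf M ξ.1)) P e) {v : G} (hv : v ∈ P) :
    av p P th Y v (xt (Subgroup.centralizer (Y : Set G)) ξ.1) *
      conj (av p P th Y v (xt (Subgroup.centralizer (Y : Set G)) ξ.1)) = 1 := by
  classical
  haveI := charP_kM c.hM
  haveI : Fintype (Subgroup.centralizer (Y : Set G)) := Fintype.ofFinite _
  have hPH : P ≤ Subgroup.centralizer (Y : Set G) := le_centralizer_of_comm c.comm hYP
  obtain ⟨k2, k1, k3, hn, S, hcard⟩ := c.nil hY (isPBlock_blockOf ξ) hξ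
  obtain ⟨v', hv'⟩ : ∃ v' : Subgroup.centralizer (Y : Set G), (v' : G) = v :=
    ⟨⟨v, hPH hv⟩, rfl⟩
  haveI : Fintype (Subgroup.centralizer
    (Subgroup.zpowers v' : Set (Subgroup.centralizer (Y : Set G)))) := Fintype.ofFinite _
  have hne : Y ⊔ Subgroup.zpowers v ≠ ⊥ := fun h => hY (le_bot_iff.1 (h ▸ le_sup_left))
  obtain ⟨b, θ, hloc, hmle, hav, -, -⟩ := exists_loc c hth hYP hv hne hv'
  have hv'P : v' ∈ P.subgroupOf (Subgroup.centralizer (Y : Set G)) := by
    rw [Subgroup.mem_subgroupOf, hv']; exact hv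
  have hpg : IsPGroup p (Subgroup.zpowers v') :=
    k2.1.isPGroup.to_le (by rw [Subgroup.zpowers_le]; exact hv'P)
  have hind : IsInducedBlock M (Subgroup.centralizer
      (Subgroup.zpowers v' : Set (Subgroup.centralizer (Y : Set G)))) b (blockOf M ξ.1) := by
    rw [isInducedBlock_iff_pair c.hM hpg hloc.blk (isPBlock_blockOf ξ)]
    exact (hmle.pairOf_iff k2.1).1 k1
  have h1 := hloc.sum_cf c.hM (exists_orderOf k2.1.isPGroup hv'P) (centralizer_zpowers_eq v') hind
  have h2 : ∀ ψ ∈ Bfin (blockOf M ξ.1),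
      cf p (Nat.card P) (Subgroup.centralizer
        (Subgroup.zpowers v' : Set (Subgroup.centralizer (Y : Set G))))
        (xt (Subgroup.centralizer
        (Subgroup.zpowers v' : Set (Subgroup.centralizer (Y : Set G)))) θ.1) v' ψ.1 *
      conj (cf p (Nat.card P) (Subgroup.centralizer
        (Subgroup.zpowers v' : Set (Subgroup.centralizer (Y : Set G))))
        (xt (Subgroup.centralizer
        (Subgroup.zpowers v' : Set (Subgroup.centralizer (Y : Set G)))) θ.1) v' ψ.1) =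
      av p P th Y v (xt (Subgroup.centralizer (Y : Set G)) ξ.1) *
      conj (av p P th Y v (xt (Subgroup.centralizer (Y : Set G)) ξ.1)) := by
    intro ψ hψ
    obtain ⟨l, hl⟩ := av_diff c hth hYP hY hξ (mem_Bfin.1 hψ)
    rw [← hav, hl v hv, map_mul, mul_mul_mul_comm, norm_lc c hth l, one_mul]
  rw [Finset.sum_congr rfl h2, Finset.sum_const, nsmul_eq_mul] at h1
  obtain ⟨-, -, hcardb, -, -⟩ := nilp_abelian c.hM (isPBlock_blockOf ξ) k2 k1 k3 hn S.comm
  have h3 : ((Bfin (blockOf M ξ.1)).card : ℂ) = (Nat.card P : ℂ) := by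
    rw [← hcard, ← hcardb, natCard_eq_Bfin]
  rw [h3] at h1
  have h4 : (Nat.card P : ℂ) ≠ 0 := by exact_mod_cast Nat.card_pos.ne'
  exact mul_left_cancel₀ h4 (by rw [h1, mul_one])

theorem av_one {Y : Subgroup G} (hYP : Y ≤ P) (hY : Y ≠ ⊥)
    {ξ : IrrCharacter (Subgroup.centralizer (Y : Set G))}
    (hξ : MLe p Y (EB M _ (blockOf M ξ.1)) P e) :
    av p P th Y 1 (xt (Subgroup.centralizer (Y : Set G)) ξ.1) = 1 := by
  classical
  haveI : Fintype (Subgroup.centralizer (Y : Set G)) := Fintype.ofFinite _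
  have h1 : Y ⊔ Subgroup.zpowers (1 : G) = Y := by
    rw [Subgroup.zpowers_one_eq_bot, sup_bot_eq]
  have hle := hth Y hYP
  have hloc := c.locDat hY (isPBlock_blockOf (th Y)) hle (mem_blockOf_self _)
  have hb := c.unique (isPBlock_blockOf ξ) (isPBlock_blockOf (th Y)) hξ hle
  rw [av, h1, cf_eq]
  have h2 := hloc.cf_irr c.hM ξ
  rw [if_pos (by rw [← hb]; exact mem_blockOf_self ξ)] at h2
  rw [← h2]
  congr 1
  apply Finset.sum_congr rfl
  intro x _
  rw [one_mul, xt_coe]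

theorem av_cen {Y : Subgroup G} (hYP : Y ≤ P) (hY : Y ≠ ⊥)
    {ξ : IrrCharacter (Subgroup.centralizer (Y : Set G))}
    (hξ : MLe p Y (EB M _ (blockOf M ξ.1)) P e) {x v : G} (hx : x ∈ Y) (hv : v ∈ P) :
    av p P th Y (x * v) (xt (Subgroup.centralizer (Y : Set G)) ξ.1) =
      av p P th Y x (xt (Subgroup.centralizer (Y : Set G)) ξ.1) *
      av p P th Y v (xt (Subgroup.centralizer (Y : Set G)) ξ.1) := by
  classical
  haveI : Fintype (Subgroup.centralizer (Y : Set G)) := Fintype.ofFinite _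
  have hPH : P ≤ Subgroup.centralizer (Y : Set G) := le_centralizer_of_comm c.comm hYP
  obtain ⟨x', hx'⟩ : ∃ x' : Subgroup.centralizer (Y : Set G), (x' : G) = x :=
    ⟨⟨x, hPH (hYP hx)⟩, rfl⟩
  have hcen : x' ∈ Subgroup.center (Subgroup.centralizer (Y : Set G)) := by
    rw [Subgroup.mem_center_iff]
    intro g
    apply Subtype.ext
    change (g : G) * x' = x' * g
    rw [hx']
    exact (Subgroup.mem_centralizer_iff.1 g.2 x hx).symm
  obtain ⟨ω, -, -, hω⟩ := H79.irr_central_mul ξ hcen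
  have key : ∀ w : G, w ∈ P → av p P th Y (x * w) (xt (Subgroup.centralizer (Y : Set G)) ξ.1) =
      ω * av p P th Y w (xt (Subgroup.centralizer (Y : Set G)) ξ.1) := by
    intro w hw
    have h1 : Y ⊔ Subgroup.zpowers (x * w) = Y ⊔ Subgroup.zpowers w := sup_zpowers_mul hx
    rw [av, av, h1, cf, cf, mul_left_comm]
    congr 1
    rw [Finset.mul_sum]
    refine Finset.sum_congr rfl fun g _ => ?_
    by_cases hg : g ∈ Subgroup.centralizer ((Y ⊔ Subgroup.zpowers w : Subgroup G) : Set G) ∧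
      ¬ p ∣ orderOf g
    · rw [if_pos hg, if_pos hg]
      have hgH : w * g ∈ Subgroup.centralizer (Y : Set G) :=
        Subgroup.mul_mem _ (hPH hw) (mem_centralizer_sup_iff.1 hg.1).1
      have h2 : x * w * g = ((x' * ⟨w * g, hgH⟩ : Subgroup.centralizer (Y : Set G)) : G) := by
        rw [Subgroup.coe_mul, hx', mul_assoc]
      have h3 : w * g = ((⟨w * g, hgH⟩ : Subgroup.centralizer (Y : Set G)) : G) := rfl
      rw [h2, xt_coe]
      nth_rewrite 2 [h3]
      rw [xt_coe, hω]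
      ring
    · rw [if_neg hg, if_neg hg, mul_zero]
  have h1 := key 1 P.one_mem
  rw [mul_one, av_one c hth hYP hY hξ, mul_one] at h1
  rw [h1, key v hv]

end

end Cfsg.Agent.AbFree
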