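import Cfsg.Agent.AbFree.LocB

/-!
# Generalized characters from the local coefficients (owner: helper78)
-/

set_option autoImplicit false
set_option linter.unusedSectionVars false
set_option linter.style.haveILetI false

universe u

namespace Cfsg.Agent.AbFree

open scoped ComplexConjugate
open MonoidAlgebra Cfsg Cfsg.Agent.Blk Cfsg.Agent.BlkF Cfsg.Agent.CharBase Cfsg.Agent.BlkC
  Cfsg.Agent.Star Cfsg.Agent.Cyc

section

variable {p : ℕ} [hp : Fact p.Prime] {M : Ideal AlgInt} [hMp : M.IsPrime]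
  {G : Type u} [Group G] [Fintype G] {P : Subgroup G} {e : MonoidAlgebra (kM M) G}

/-- the data of the source idempotent -/
structure Src (P : Subgroup G) (e i : MonoidAlgebra (kM M) G) : Prop where
  prim : PrimF P i
  br : e * Blk.br P i = Blk.br P i
  ne : Blk.br P i ≠ 0

/-- the multiplicity is a natural number -/
theorem exists_mc (hP : IsPGroup p P) [CharP (kM M) p] {i : MonoidAlgebra (kM M) G}
    (hi : Fixed P i) (hii : i * i = i) {Y : Subgroup G} (hYP : Y ≤ P)
    (θ : IrrCharacter (Subgroup.centralizer (Y : Set G))) :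
    ∃ n : ℕ, tv M θ.1 1 (res (Subgroup.centralizer (Y : Set G)) i) = n := by
  classical
  haveI : Fintype (Subgroup.centralizer (Y : Set G)) := Fintype.ofFinite _
  have hYp : IsPGroup p Y := hP.to_le hYP
  have hidem : res (Subgroup.centralizer (Y : Set G)) i *
      res (Subgroup.centralizer (Y : Set G)) i = res (Subgroup.centralizer (Y : Set G)) i := by
    apply incl_injective
    rw [incl_mul, incl_res']
    have h2 : trunc (Subgroup.centralizer (Y : Set G)) i = Blk.br Y i := rfl
    rw [h2, ← br_mul hYp (hi.mono hYP) (hi.mono hYP), hii]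
  have hfix : Fixed (Subgroup.zpowers (1 : Subgroup.centralizer (Y : Set G)))
      (res (Subgroup.centralizer (Y : Set G)) i) := by
    intro x hx
    rw [Subgroup.zpowers_one_eq_bot, Subgroup.mem_bot] at hx
    rw [hx, cj_one_left]
  obtain ⟨x, hx⟩ := exists_lift (M := M) hfix hidem
  rw [Star.tv_eq (irr_isClassFunction θ) hx]
  have h1 := isCharacter_Tc (irr_isCharacter θ) hx.fixed hx.idem
  obtain ⟨n, ρ, hρ⟩ := h1
  refine ⟨n, ?_⟩
  have h2 := congrFun hρ 1
  have h3 : ρ.character 1 = (n : ℂ) := by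
    rw [Representation.char_one]; simp
  rw [h3] at h2
  exact h2.symm

variable (c : Ctx p M P e)
  {th : ∀ Y : Subgroup G, IrrCharacter (Subgroup.centralizer (Y : Set G))}
  (hth : Fam p M P e th)
include c hth

theorem res_br_cut {Y Z : Subgroup G} {V : Subgroup (Subgroup.centralizer (Y : Set G))}
    (hmem : ∀ x : Subgroup.centralizer (Y : Set G),
      x ∈ Subgroup.centralizer (V : Set (Subgroup.centralizer (Y : Set G))) ↔
      (x : G) ∈ Subgroup.centralizer (Z : Set G)) (i : MonoidAlgebra (kM M) G) :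
    Blk.br V (res (Subgroup.centralizer (Y : Set G)) i) =
      res (Subgroup.centralizer (Y : Set G)) (Blk.br Z i) := by
  apply Blk.ga_ext; intro x
  have h1 : (res (Subgroup.centralizer (Y : Set G)) (Blk.br Z i)).coeff x =
    (Blk.br Z i).coeff (x : G) := rfl
  rw [h1]
  by_cases hx : x ∈ Subgroup.centralizer (V : Set (Subgroup.centralizer (Y : Set G)))
  · rw [br_coeff_of_mem _ hx, br_coeff_of_mem _ ((hmem x).1 hx)]
    rfl
  · have h2 : (Blk.br V (res (Subgroup.centralizer (Y : Set G)) i)).coeff x = 0 :=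
      trunc_coeff_of_notMem _ hx
    have h3 : (Blk.br Z i).coeff (x : G) = 0 :=
      trunc_coeff_of_notMem _ (fun h => hx ((hmem x).2 h))
    rw [h2, h3]

/-- **generation** -/
theorem exists_gen {i : MonoidAlgebra (kM M) G} (hi : Src P e i) {Y : Subgroup G} (hYP : Y ≤ P)
    (ξ : IrrCharacter (Subgroup.centralizer (Y : Set G))) :
    ∃ h ∈ GR P, ∀ v : P, Y ⊔ Subgroup.zpowers (v : G) ≠ ⊥ →
      h v = tv M (th (Y ⊔ Subgroup.zpowers (v : G))).1 1
          (res (Subgroup.centralizer ((Y ⊔ Subgroup.zpowers (v : G) : Subgroup G) : Set G)) i) *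
        av p P th Y v (xt (Subgroup.centralizer (Y : Set G)) ξ.1) := by
  classical
  haveI := charP_kM c.hM
  haveI : Fintype (Subgroup.centralizer (Y : Set G)) := Fintype.ofFinite _
  have hPH : P ≤ Subgroup.centralizer (Y : Set G) := le_centralizer_of_comm c.comm hYP
  have hPp := c.max.1.isPGroup
  obtain ⟨j, hj⟩ : ∃ j, j = res (Subgroup.centralizer (Y : Set G)) i := ⟨_, rfl⟩
  have hidem : j * j = j := by
    apply incl_injective
    rw [hj, incl_mul, incl_res']
    have h2 : trunc (Subgroup.centralizer (Y : Set G)) i = Blk.br Y i := rfl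
    rw [h2, ← br_mul (hPp.to_le hYP) (hi.prim.fixed.mono hYP) (hi.prim.fixed.mono hYP),
      hi.prim.idem]
  have hfix : Fixed (P.subgroupOf (Subgroup.centralizer (Y : Set G))) j := by
    rw [hj]
    intro x hx
    apply Blk.ga_ext; intro g
    rw [cj_coeff]
    have h1 := congrArg (fun z => z.coeff (g : G)) (hi.prim.fixed x (Subgroup.mem_subgroupOf.1 hx))
    simp only [cj_coeff] at h1
    exact h1
  obtain ⟨x, hx⟩ := exists_lift (M := M) hfix hidem
  have h1 := isCharacter_Tc (irr_isCharacter ξ) hx.fixed hx.idem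
  have h2 := Char.BI.isGeneralizedCharacter_of_isCharacter h1
  have h3 := BlkInd.isGeneralizedCharacter_comp h2
    (Subgroup.subgroupOfEquivOfLe hPH).symm.toMonoidHom
  refine ⟨_, mem_GR_of_isGen (fun a b => Subtype.ext (c.comm a a.2 b b.2)) h3, fun v hne => ?_⟩
  obtain ⟨v', hv'⟩ : ∃ v' : Subgroup.centralizer (Y : Set G), (v' : G) = v :=
    ⟨⟨v, hPH v.2⟩, rfl⟩
  haveI : Fintype (Subgroup.centralizer
    (Subgroup.zpowers v' : Set (Subgroup.centralizer (Y : Set G)))) := Fintype.ofFinite _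
  obtain ⟨b, θ, hloc, hmle, hav, htv, hEB⟩ := exists_loc c hth hYP v.2 hne hv'
  have hv'P : v' ∈ P.subgroupOf (Subgroup.centralizer (Y : Set G)) := by
    rw [Subgroup.mem_subgroupOf, hv']; exact v.2
  have hV : Subgroup.zpowers v' ≤ P.subgroupOf (Subgroup.centralizer (Y : Set G)) := by
    rw [Subgroup.zpowers_le]; exact hv'P
  have hPp' : IsPGroup p (P.subgroupOf (Subgroup.centralizer (Y : Set G))) :=
    hPp.of_equiv (Subgroup.subgroupOfEquivOfLe hPH).symm
  have hpg : IsPGroup p (Subgroup.zpowers v') := hPp'.to_le hV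
  have hZP : Y ⊔ Subgroup.zpowers (v : G) ≤ P := by
    rw [sup_le_iff, Subgroup.zpowers_le]; exact ⟨hYP, v.2⟩
  have hmem : ∀ x : Subgroup.centralizer (Y : Set G),
      x ∈ Subgroup.centralizer (Subgroup.zpowers v' : Set (Subgroup.centralizer (Y : Set G))) ↔
      (x : G) ∈ Subgroup.centralizer ((Y ⊔ Subgroup.zpowers (v : G) : Subgroup G) : Set G) := by
    intro x
    rw [mem_centralizer_zpowers_sub_iff, mem_centralizer_sup_iff, hv']
    exact ⟨fun h => ⟨x.2, h⟩, fun h => h.2⟩
  have hbr : EB M _ b * Blk.br (Subgroup.zpowers v') j = Blk.br (Subgroup.zpowers v') j := by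
    have hle := hth _ hZP
    have h4 := PrimF.br_mul_eq c.max.1 hi.prim hi.br hi.ne _ _ hle
    have hCZ : Subgroup.centralizer ((Y ⊔ Subgroup.zpowers (v : G) : Subgroup G) : Set G) ≤
      Subgroup.centralizer (Y : Set G) := centralizer_le_of_le le_sup_left
    rw [hEB, hj, res_br_cut c hth hmem i]
    apply incl_injective
    rw [incl_mul, incl_res ((isBlk_EB (isPBlock_blockOf _)).supp.mono hCZ),
      incl_res ((supp_br _ i).mono hCZ), h4]
  have h5 := hloc.tv_eq c.hM hpg (hfix.mono hV) hidem hbr (irr_isClassFunction ξ)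
  have h6 : tv M ξ.1 v' j = Tc ξ.1 (MonoidAlgebra.single v' 1 * x) :=
    Star.tv_eq (irr_isClassFunction ξ) (hx.mono hV)
  have h7 := htv i hi.prim.fixed hi.prim.idem
  rw [← hj] at h7
  rw [h6, h7, ← hav, mul_comm] at h5
  rw [← h5]
  congr 3
  exact Subtype.ext hv'.symm

/-- **local agreement** with generalized characters -/
theorem exists_agree {X : Subgroup P}
    (hX : X.map P.subtype ≠ ⊥) {Y : Subgroup G} (hYX : Y ≤ X.map P.subtype)
    (ξ : IrrCharacter (Subgroup.centralizer (Y : Set G))) :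
    ∃ r ∈ GR P, ∀ w : P, Y ⊔ Subgroup.zpowers (w : G) = X.map P.subtype →
      av p P th Y w (xt (Subgroup.centralizer (Y : Set G)) ξ.1) = r w := by
  classical
  haveI := charP_kM c.hM
  obtain ⟨Z, hZ⟩ : ∃ Z, Z = X.map P.subtype := ⟨_, rfl⟩
  have hZP : Z ≤ P := by rw [hZ]; exact Subgroup.map_subtype_le X
  rw [← hZ] at hYX hX ⊢
  haveI : Fintype (Subgroup.centralizer (Z : Set G)) := Fintype.ofFinite _
  haveI := Fintype.ofFinite (IrrCharacter (Subgroup.centralizer (Z : Set G)))
  have hCZ : Subgroup.centralizer (Z : Set G) ≤ Subgroup.centralizer (Y : Set G) :=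
    centralizer_le_of_le hYX
  have hZC : Z ≤ Subgroup.centralizer (Z : Set G) :=
    hZP.trans (le_centralizer_of_comm c.comm hZP)
  have hcen : ∀ (z : G) (hz : z ∈ Z), (⟨z, hZC hz⟩ : Subgroup.centralizer (Z : Set G)) ∈
      Subgroup.center (Subgroup.centralizer (Z : Set G)) := by
    intro z hz
    rw [Subgroup.mem_center_iff]
    intro g
    apply Subtype.ext
    exact (Subgroup.mem_centralizer_iff.1 g.2 z hz).symm
  -- the linear characters
  have hlam : ∀ η : IrrCharacter (Subgroup.centralizer (Z : Set G)), ∃ L : P →* ℂˣ,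
      ∀ (z : G) (hz : z ∈ Z) (g : Subgroup.centralizer (Z : Set G)),
        η.1 (⟨z, hZC hz⟩ * g) = ((L ⟨z, hZP hz⟩ : ℂˣ) : ℂ) * η.1 g := by
    intro η
    have hη1 : η.1 1 ≠ 0 := irr_one_ne_zero η.2
    have hmul : ∀ (z : G) (hz : z ∈ Z) (g : Subgroup.centralizer (Z : Set G)),
        η.1 (⟨z, hZC hz⟩ * g) = η.1 ⟨z, hZC hz⟩ / η.1 1 * η.1 g := by
      intro z hz g
      obtain ⟨ω, -, -, hω⟩ := H79.irr_central_mul η (hcen z hz)
      have h1 := hω 1
      rw [mul_one] at h1
      rw [hω, h1, mul_div_assoc, div_self hη1, mul_one]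
    have hmemZ : ∀ x : X, ((x : P) : G) ∈ Z := fun x => by
      rw [hZ]; exact ⟨x, x.2, rfl⟩
    let f : X →* ℂ :=
      { toFun := fun x => η.1 ⟨((x : P) : G), hZC (hmemZ x)⟩ / η.1 1
        map_one' := by
          have : (⟨(((1 : X) : P) : G), hZC (hmemZ 1)⟩ : Subgroup.centralizer (Z : Set G)) = 1 := rfl
          rw [this, div_self hη1]
        map_mul' := fun x y => by
          have h2 := hmul ((x : P) : G) (hmemZ x) ⟨((y : P) : G), hZC (hmemZ y)⟩
          have h3 : (⟨(((x * y : X) : P) : G), hZC (hmemZ (x * y))⟩ :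
            Subgroup.centralizer (Z : Set G)) = ⟨((x : P) : G), hZC (hmemZ x)⟩ *
              ⟨((y : P) : G), hZC (hmemZ y)⟩ := rfl
          rw [h3, h2]; ring }
    obtain ⟨L, hL⟩ := exists_ext (K := P) (fun a b => Subtype.ext (c.comm a a.2 b b.2)) X
      f.toHomUnits
    refine ⟨L, fun z hz g => ?_⟩
    have hz' : (⟨z, hZP hz⟩ : P) ∈ X := by
      rw [hZ] at hz
      obtain ⟨y, hy, h⟩ := hz
      have : y = ⟨z, hZP (by rw [hZ]; exact ⟨y, hy, h⟩)⟩ := Subtype.ext h
      rw [← this]; exact hy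
    have h4 := hL ⟨⟨z, hZP hz⟩, hz'⟩
    have h5 : ((L ⟨z, hZP hz⟩ : ℂˣ) : ℂ) = η.1 ⟨z, hZC hz⟩ / η.1 1 := by
      rw [h4, MonoidHom.coe_toHomUnits]
      rfl
    rw [h5, hmul z hz g]
  choose L hL using hlam
  -- the restriction
  have hres : IsCharacter (Subgroup.centralizer (Z : Set G))
      (fun x => ξ.1 (Subgroup.inclusion hCZ x)) :=
    isCharacter_comp (irr_isCharacter ξ) (Subgroup.inclusion hCZ)
  obtain ⟨m, -, hm⟩ := exists_mult_of_isCharacter hres
  have hle := hth Z hZP
  have hloc := c.locDat hX (isPBlock_blockOf (th Z)) hle (mem_blockOf_self _)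
  refine ⟨∑ η : IrrCharacter (Subgroup.centralizer (Z : Set G)),
    if η ∈ blockOf M (th Z).1 then (m η) • lc (L η) else 0, sum_mem fun η _ => ?_, fun w hw => ?_⟩
  · split_ifs
    · exact nsmul_mem (lc_mem _) _
    · exact zero_mem _
  have hwZ : (w : G) ∈ Z := by
    rw [← hw]
    exact (le_sup_right : Subgroup.zpowers (w : G) ≤ _) (Subgroup.mem_zpowers _)
  rw [av, hw, cf_eq, Finset.sum_apply]
  have h1 : ∀ x : Subgroup.centralizer (Z : Set G),
      (if p ∣ orderOf x then 0 else conj ((th Z).1 x) *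
        xt (Subgroup.centralizer (Y : Set G)) ξ.1 ((w : G) * x)) =
      ∑ η : IrrCharacter (Subgroup.centralizer (Z : Set G)), ((m η : ℂ) * lc (L η) w) *
        (if p ∣ orderOf x then 0 else conj ((th Z).1 x) * η.1 x) := by
    intro x
    by_cases hx : p ∣ orderOf x
    · simp only [if_pos hx, mul_zero, Finset.sum_const_zero]
    · simp only [if_neg hx]
      have h2 : (w : G) * x = ((Subgroup.inclusion hCZ (⟨w, hZC hwZ⟩ * x) :
        Subgroup.centralizer (Y : Set G)) : G) := rfl
      have h3 : xt (Subgroup.centralizer (Y : Set G)) ξ.1 ((w : G) * x) =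
          ∑ η : IrrCharacter (Subgroup.centralizer (Z : Set G)), (m η : ℂ) *
            (lc (L η) w * η.1 x) := by
        rw [h2, xt_coe]
        have h4 := congrFun hm (⟨w, hZC hwZ⟩ * x)
        rw [Finset.sum_apply] at h4
        rw [h4]
        refine Finset.sum_congr rfl fun η _ => ?_
        rw [Pi.smul_apply, nsmul_eq_mul, hL η w hwZ]
        rfl
      rw [h3, Finset.mul_sum]
      refine Finset.sum_congr rfl fun η _ => ?_
      ring
  rw [Finset.sum_congr rfl fun x _ => h1 x, Finset.sum_comm, Finset.mul_sum]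
  refine Finset.sum_congr rfl fun η _ => ?_
  rw [← Finset.mul_sum, mul_left_comm, hloc.cf_irr c.hM η]
  split_ifs
  · rw [mul_one, Pi.smul_apply, nsmul_eq_mul]
  · rw [mul_zero]; rfl

end

end Cfsg.Agent.AbFree
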