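import Cfsg.Agent.AbFree.CountKL
import Cfsg.Agent.BlkC.Corollaries
import Cfsg.Agent.S4695

/-!
# Blocks with abelian defect group and free inertial quotient (owner: helper78)
-/

set_option autoImplicit false
set_option linter.unusedSectionVars false
set_option linter.style.haveILetI false

universe u

namespace Cfsg.Agent.AbFree

open scoped ComplexConjugate
open MonoidAlgebra Cfsg Cfsg.Agent.Blk Cfsg.Agent.BlkF Cfsg.Agent.CharBase Cfsg.Agent.BlkC
  Cfsg.Agent.Star Cfsg.Agent.Cyc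

variable {p : ℕ} [hp : Fact p.Prime] {M : Ideal AlgInt} [hMp : M.IsPrime]
  {G : Type u} [Group G] [Fintype G] {P : Subgroup G} {e : MonoidAlgebra (kM M) G}

theorem main (c : Ctx p M P e) (hP : P ≠ ⊥) {B : Set (IrrCharacter G)} (hB : IsPBlock M B)
    (hb : MPairOf p (eB M B) P e) {n : ℕ} (hn : (Subgroup.centralizer (P : Set G)).relIndex
      (stab (Subgroup.normalizer (P : Set G)) e) = n) :
    ∃ r, Nat.card B = blockRank p B + r ∧ r * n = Nat.card P - 1 ∧ 0 < n ∧ blockRank p B ≤ n ∧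
      (n ≤ 3 → r = 1 ∨ n + 2 ≤ r → blockRank p B = n) := by
  classical
  haveI := charP_kM c.hM
  obtain ⟨r, h1, h2⟩ := kl_count c hB hb
  rw [card_inE, hn] at h2
  obtain ⟨th, hth⟩ := exists_fam c.hM c.max
  obtain ⟨i, m, hi, hm, hsys⟩ := exists_sys c hP hth
  have ht := isTop c hth hB hb hP hi hm hsys
  obtain ⟨z, hz, hz1⟩ : ∃ z ∈ P, z ≠ 1 := by
    by_contra hcon
    push Not at hcon
    exact hP ((Subgroup.eq_bot_iff_forall P).2 hcon)
  obtain ⟨a, ha⟩ := (IsPGroup.iff_card (p := p)).1 c.max.1.isPGroup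
  have hab' : ∀ a b : P, a * b = b * a := fun a b => Subtype.ext (c.comm a a.2 b b.2)
  obtain ⟨ι, _, _, x, hG, hnz, hcard⟩ := ht.exists_mat hab' hp.out ha
    ⟨⟨z, hz⟩, fun h => hz1 (congrArg Subtype.val h)⟩
  rw [card_inE, hn] at hG hcard
  have hP2 : 2 ≤ Nat.card P := by
    haveI : Nontrivial P := ⟨⟨⟨z, hz⟩, 1, fun h => hz1 (congrArg Subtype.val h)⟩⟩
    exact Finite.one_lt_card
  have hn1 : 1 ≤ n := by
    rcases Nat.eq_zero_or_pos n with h | h
    · rw [h, mul_zero] at h2; omega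
    · exact h
  have hιr : Fintype.card ι = r := Nat.eq_of_mul_eq_mul_right hn1 (by rw [hcard, h2])
  have hr1 : 1 ≤ r := by
    rcases Nat.eq_zero_or_pos r with h | h
    · rw [h, zero_mul] at h2; omega
    · exact h
  have hρ : Fintype.card {χ // χ ∈ Bfin B} = Nat.card B := by
    rw [Fintype.card_coe, natCard_eq_Bfin]
  have hle := comb_le hn1 x hG hnz (by rw [hιr]; exact hr1)
  rw [hρ, hιr] at hle
  refine ⟨r, h1, h2, hn1, by omega, fun hn3 hs => ?_⟩
  have hl := blockRank_pos c.hM hB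
  have heq := comb_eq hn1 hn3 x hG hnz (by rw [hρ, hιr]; omega) (by rw [hιr]; exact hs)
  rw [hρ, hιr] at heq
  omega

/-- arithmetic of the noncyclic case -/
theorem arith {p a n r : ℕ} (hp : p.Prime) (ha : 2 ≤ a) (hn3 : n ≤ 3)
    (h : r * n = p ^ a - 1) : r = 1 ∨ n + 2 ≤ r := by
  have hp2 := hp.two_le
  have h4 : 4 ≤ p ^ a := by
    calc 4 = 2 ^ 2 := by norm_num
      _ ≤ p ^ 2 := Nat.pow_le_pow_left hp2 2
      _ ≤ p ^ a := Nat.pow_le_pow_right hp.pos ha
  interval_cases n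
  · rw [mul_zero] at h; omega
  · right; omega
  · -- `p` is odd
    have hodd : p ≠ 2 := by
      rintro rfl
      have : 2 ∣ 2 ^ a := dvd_pow_self 2 (by omega)
      omega
    have h3 : 3 ≤ p := by omega
    have h9 : 9 ≤ p ^ a := by
      calc 9 = 3 ^ 2 := by norm_num
        _ ≤ p ^ 2 := Nat.pow_le_pow_left h3 2
        _ ≤ p ^ a := Nat.pow_le_pow_right hp.pos ha
    right; omega
  · have hp3 : p ≠ 3 := by
      rintro rfl
      have : 3 ∣ 3 ^ a := dvd_pow_self 3 (by omega)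
      omega
    by_cases hp2' : p = 2
    · subst hp2'
      by_cases ha2 : a = 2
      · subst ha2; left; omega
      · by_cases ha3 : a = 3
        · subst ha3; omega
        · have h16 : 16 ≤ 2 ^ a := by
            calc 16 = 2 ^ 4 := by norm_num
              _ ≤ 2 ^ a := Nat.pow_le_pow_right (by norm_num) (by omega)
          right; omega
    · have h16 : 16 ≤ p ^ a := by
        calc 16 = 4 ^ 2 := by norm_num
          _ ≤ p ^ 2 := Nat.pow_le_pow_left (by omega) 2
          _ ≤ p ^ a := Nat.pow_le_pow_right hp.pos ha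
      right; omega

/-- **The theorem for a block with abelian defect group and free inertial action.** -/
theorem main_block (hM : IsPModular p M) {B : Set (IrrCharacter G)} (hB : IsPBlock M B)
    {P : Subgroup G} (hPD : IsDefectGroup p M B P) (hP1 : P ≠ ⊥)
    (hPab : ∀ x ∈ P, ∀ y ∈ P, x * y = y * x)
    {c : Set (IrrCharacter (Subgroup.centralizer (P : Set G)))}
    (hc : IsInducedBlock M (Subgroup.centralizer (P : Set G)) c B) {T : Subgroup G}
    (hT : ∀ g : G, g ∈ T ↔ (g ∈ Subgroup.normalizer (P : Set G) ∧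
      StabilizesBlock (Subgroup.centralizer (P : Set G)) c g)) {n : ℕ}
    (hn : (Subgroup.centralizer (P : Set G)).relIndex T = n)
    (hfree : ∀ g ∈ T, ∀ x ∈ P, x ≠ 1 → g * x * g⁻¹ = x → g ∈ Subgroup.centralizer (P : Set G)) :
    ∃ r, Nat.card B = blockRank p B + r ∧ r * n = Nat.card P - 1 ∧ 0 < n ∧ blockRank p B ≤ n ∧
      (n ≤ 3 → blockRank p B = n) := by
  classical
  haveI := charP_kM hM
  obtain ⟨hb, hmax, hdef⟩ := mmax_of_isInducedBlock hM hB hPD hc
  have hTe : T = stab (Subgroup.normalizer (P : Set G)) (EB M _ c) := mem_T_iff hc.1 hT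
  have hctx : Ctx p M P (EB M _ c) := ⟨hM, hmax, hPab, fun x hx z hz hz1 h =>
    hfree x (by rw [hTe]; exact hx) z hz hz1 h⟩
  obtain ⟨r, h1, h2, hn0, h3, h4⟩ := main hctx hP1 hB hb (n := n) (by rw [← hTe]; exact hn)
  refine ⟨r, h1, h2, hn0, h3, fun hn3 => ?_⟩
  obtain ⟨a, ha⟩ := (IsPGroup.iff_card (p := p)).1 hmax.1.isPGroup
  have ha0 : a ≠ 0 := by
    rintro rfl
    rw [pow_zero] at ha
    exact hP1 (Subgroup.card_eq_one.1 ha)
  by_cases hcyc : IsCyclic P
  · refine Cfsg.Agent.S4695.result p M hM P hcyc a (by omega) ha B hB hPD c hc T ?_ n hn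
    intro g
    rw [hT]
    constructor
    · rintro ⟨h5, h6⟩; exact ⟨h5, (CycG.stabilizesBlock_iff' rfl h5).1 h6⟩
    · rintro ⟨h5, h6⟩; exact ⟨h5, (CycG.stabilizesBlock_iff' rfl h5).2 h6⟩
  · have ha1 : a ≠ 1 := by
      rintro rfl
      rw [pow_one] at ha
      exact hcyc (isCyclic_of_prime_card ha)
    exact h4 hn3 (arith (a := a) hp.out (by omega) hn3 (by rw [h2, ha]))

end Cfsg.Agent.AbFree
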