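import Cfsg.Agent.AbFree.GenRing
import Cfsg.Agent.H74.AbChar
import Cfsg.Agent.H79.Linearity
import Cfsg.Agent.Char.AbQuot

/-!
# Sign systems (owner: helper78)

The gluing argument for the signs of the local characters of a block with abelian defect group
and free inertial quotient.
-/

set_option autoImplicit false
set_option linter.style.haveILetI false
set_option linter.unusedSectionVars false

namespace Cfsg.Agent.AbFree

open scoped ComplexConjugate
open Cfsg Cfsg.Agent.CharBase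

universe u

section dual

variable {K : Type u} [Group K] [Finite K]

theorem finite_dual (hcomm : ∀ a b : K, a * b = b * a) : Finite (K →* ℂˣ) := by
  letI : CommGroup K := { (inferInstance : Group K) with mul_comm := hcomm }
  exact Nat.finite_of_card_ne_zero (by
    have := CommGroup.card_monoidHom_of_hasEnoughRootsOfUnity K ℂ
    rw [this]
    exact Nat.card_pos.ne')

theorem exists_lc_of_irr (hcomm : ∀ a b : K, a * b = b * a) (χ : IrrCharacter K) :
    ∃ l : K →* ℂˣ, lc l = (χ : K → ℂ) := by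
  have h1 := H79.linear_of_comm hcomm χ
  refine ⟨(Char.linHom (irr_isCharacter χ) h1).toHomUnits, ?_⟩
  funext v
  rw [lc_apply, MonoidHom.coe_toHomUnits, Char.linHom_apply]

theorem mem_GR_of_isCharacter (hcomm : ∀ a b : K, a * b = b * a) {f : K → ℂ}
    (hf : IsCharacter K f) : f ∈ GR K := by
  have := Fintype.ofFinite K
  have := Fintype.ofFinite (IrrCharacter K)
  obtain ⟨m, hm, hs⟩ := exists_mult_of_isCharacter hf
  rw [hs]
  refine sum_mem fun χ _ => ?_
  obtain ⟨l, hl⟩ := exists_lc_of_irr hcomm χ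
  rw [← hl]
  exact nsmul_mem (lc_mem l) (m χ)

theorem mem_GR_of_isGen (hcomm : ∀ a b : K, a * b = b * a) {f : K → ℂ}
    (hf : IsGeneralizedCharacter K f) : f ∈ GR K := by
  obtain ⟨χ, ψ, hχ, hψ, rfl⟩ := hf
  exact sub_mem (mem_GR_of_isCharacter hcomm hχ) (mem_GR_of_isCharacter hcomm hψ)

theorem isCharacter_lc (l : K →* ℂˣ) : IsCharacter K (lc l) :=
  Char.isCharacter_of_hom ((Units.coeHom ℂ).comp l)

theorem isIrrCharacter_lc (l : K →* ℂˣ) : IsIrrCharacter K (lc l) :=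
  Char.isIrrCharacter_of_hom ((Units.coeHom ℂ).comp l)

theorem exists_ext (hcomm : ∀ a b : K, a * b = b * a) (X : Subgroup K) (l : X →* ℂˣ) :
    ∃ L : K →* ℂˣ, ∀ x : X, L x = l x := by
  letI : CommGroup K := { (inferInstance : Group K) with mul_comm := hcomm }
  obtain ⟨L, hL⟩ := MonoidHom.domRestrict_surjective (M := ℂ) X l
  exact ⟨L, fun x => DFunLike.congr_fun hL x⟩

/-- **Flat functions.** -/
theorem exists_flat (hcomm : ∀ a b : K, a * b = b * a) [Fintype K] [DecidableEq K] {ψ : K → ℂ}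
    (h1 : ∀ k, k ≠ 1 → ψ k * conj (ψ k) = 1) (hK : ∃ s : K, s ≠ 1)
    (hint : ∀ l : K →* ℂˣ, ∃ z : ℤ,
      (Nat.card K : ℂ)⁻¹ * ∑ k : K, (if k = 1 then 0 else ψ k * (1 - lc l k)) = z) :
    ∃ (ε : ℤ) (l : K →* ℂˣ), (ε = 1 ∨ ε = -1) ∧ (Nat.card K ≤ 2 → ε = 1) ∧
      ∀ k, k ≠ 1 → ψ k = ε * lc l k := by
  classical
  obtain ⟨s, hs⟩ := hK
  have hK0 : (Nat.card K : ℂ) ≠ 0 := by exact_mod_cast Nat.card_pos.ne'
  have := finite_dual hcomm
  have := Fintype.ofFinite (K →* ℂˣ)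
  choose z hz using hint
  obtain ⟨C, hC⟩ : ∃ C : ℤ, C = ∑ l : K →* ℂˣ, |z l| := ⟨_, rfl⟩
  have hCz : ∀ l, 0 ≤ C - z l := by
    intro l
    have h2 : |z l| ≤ C := by
      rw [hC]
      exact Finset.single_le_sum (f := fun l => |z l|) (fun l _ => abs_nonneg (z l))
        (Finset.mem_univ l)
    have := le_abs_self (z l)
    omega
  obtain ⟨Ψ, hΨ⟩ : ∃ Ψ : K → ℂ, Ψ = ∑ l : K →* ℂˣ, ((C - z l).toNat : ℂ) • lc l⁻¹ := ⟨_, rfl⟩
  have hΨc : IsCharacter K Ψ := by
    rw [hΨ]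
    refine isCharacter_sum _ _ fun l _ => ?_
    have := isCharacter_nsmul (isCharacter_lc l⁻¹) (C - z l).toNat
    rwa [← Nat.cast_smul_eq_nsmul ℂ] at this
  have hcast : ∀ l, (((C - z l).toNat : ℕ) : ℂ) = (C : ℂ) - z l := by
    intro l
    have h2 : (((C - z l).toNat : ℕ) : ℤ) = C - z l := Int.toNat_of_nonneg (hCz l)
    have h3 : ((((C - z l).toNat : ℕ) : ℤ) : ℂ) = ((C - z l : ℤ) : ℂ) := by rw [h2]
    push_cast at h3
    exact h3
  have hinv : ∀ k : K, ∑ l : K →* ℂˣ, lc l⁻¹ k = if k = 1 then (Nat.card K : ℂ) else 0 := by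
    intro k
    rw [← Char.sum_dual_eq hcomm k]
    exact Fintype.sum_equiv (Equiv.inv _) _ _ fun l => rfl
  have hval : ∀ k, k ≠ 1 → Ψ k = ψ k := by
    intro k hk
    have h2 : Ψ k = ∑ l : K →* ℂˣ, ((C : ℂ) - z l) * lc l⁻¹ k := by
      rw [hΨ, Finset.sum_apply]
      refine Finset.sum_congr rfl fun l _ => ?_
      rw [Pi.smul_apply, smul_eq_mul, hcast]
    have h3 : ∀ l : K →* ℂˣ, ((C : ℂ) - z l) * lc l⁻¹ k = C * lc l⁻¹ k -
        (Nat.card K : ℂ)⁻¹ * ∑ j : K, (if j = 1 then 0 else ψ j * (lc l⁻¹ k - lc l⁻¹ (k * j⁻¹))) := by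
      intro l
      rw [← hz, sub_mul, mul_assoc _ _ (lc l⁻¹ k), Finset.sum_mul]
      congr 2
      refine Finset.sum_congr rfl fun j _ => ?_
      split_ifs
      · rw [zero_mul]
      · have h4 : lc l⁻¹ (k * j⁻¹) = lc l j * lc l⁻¹ k := by
          rw [lc_apply_mul, mul_comm]
          congr 1
          simp [lc]
        rw [h4]; ring
    rw [h2, Finset.sum_congr rfl fun l _ => h3 l, Finset.sum_sub_distrib, ← Finset.mul_sum,
      hinv, if_neg hk, mul_zero, zero_sub, ← Finset.mul_sum, Finset.sum_comm]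
    have h5 : ∀ j : K, ∑ l : K →* ℂˣ, (if j = 1 then 0 else
        ψ j * (lc l⁻¹ k - lc l⁻¹ (k * j⁻¹))) = if j = k then -((Nat.card K : ℂ) * ψ k) else 0 := by
      intro j
      by_cases hj : j = 1
      · simp only [if_pos hj, Finset.sum_const_zero]
        rw [if_neg]
        rintro rfl
        exact hk hj
      · simp only [if_neg hj]
        rw [← Finset.mul_sum, Finset.sum_sub_distrib, hinv, hinv, if_neg hk, zero_sub]
        by_cases hjk : j = k
        · subst hjk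
          rw [if_pos (mul_inv_cancel _), if_pos rfl]; ring
        · rw [if_neg (fun h => hjk (mul_inv_eq_one.1 h).symm), if_neg hjk]; ring
    rw [Finset.sum_congr rfl fun j _ => h5 j, Finset.sum_ite_eq' Finset.univ k,
      if_pos (Finset.mem_univ _)]
    field_simp
  obtain ⟨c, ε, χ, hε, hχ, -⟩ := H74.eq_rho_pm hcomm Ψ hΨc s hs (fun x hx => by
    rw [hval x hx]; exact h1 x hx)
  obtain ⟨l, hl⟩ := exists_lc_of_irr hcomm χ
  have hψ : ∀ k, k ≠ 1 → ψ k = ε * lc l k := fun k hk => by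
    rw [← hval k hk, hχ k hk, hl]
  by_cases h2 : Nat.card K ≤ 2
  · -- order two
    have hall : ∀ k : K, k ≠ 1 → k = s := by
      intro k hk
      by_contra hne
      have h3 : ({1, s, k} : Finset K).card ≤ Nat.card K := by
        rw [Nat.card_eq_fintype_card]; exact Finset.card_le_univ _
      have h4 : ({1, s, k} : Finset K).card = 3 := by
        rw [Finset.card_eq_three]
        exact ⟨1, s, k, hs.symm, hk.symm, Ne.symm hne, rfl⟩
      omega
    have hss : s * s = 1 := by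
      by_contra hne
      have h3 := hall _ hne
      exact hs (mul_eq_left.1 h3)
    obtain ⟨l', hl'⟩ : ∃ l' : K →* ℂˣ, lc l' s = ε * lc l s := by
      rcases hε with rfl | rfl
      · exact ⟨l, by norm_num⟩
      · obtain ⟨φ, hφ⟩ : ∃ φ : K →* ℂˣ, φ s ≠ 1 := by
          letI : CommGroup K := { (inferInstance : Group K) with mul_comm := hcomm }
          exact CommGroup.exists_apply_ne_one_of_hasEnoughRootsOfUnity K ℂ hs
        have h3 : lc φ s * lc φ s = 1 := by rw [← lc_apply_mul, hss, lc_apply_one]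
        have h4 : lc φ s = -1 := by
          have h5 : (lc φ s - 1) * (lc φ s + 1) = 0 := by linear_combination h3
          rcases mul_eq_zero.1 h5 with h6 | h6
          · exfalso; apply hφ; ext; exact sub_eq_zero.1 h6
          · exact eq_neg_of_add_eq_zero_left h6
        exact ⟨φ * l, by rw [lc_mul, Pi.mul_apply, h4]; push_cast; ring⟩
    refine ⟨1, l', Or.inl rfl, fun _ => rfl, fun k hk => ?_⟩
    rw [hall k hk, hψ s hs, hl']; push_cast; ring
  · exact ⟨ε, l, hε, fun h => absurd h h2, hψ⟩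

end dual

section sys

variable {Q : Type u} [Group Q] [Finite Q]

/-- the hypotheses on the local characters -/
structure IsSys (p : ℕ) (m : Subgroup Q → ℤ) (S : Subgroup Q → Set (Q → ℂ)) : Prop where
  top : ¬ (p : ℤ) ∣ m ⊤
  ne : ∀ X, X ≠ ⊥ → (S X).Nonempty
  tw : ∀ X, X ≠ ⊥ → ∀ a ∈ S X, ∀ l : Q →* ℂˣ, lc l * a ∈ S X
  diff : ∀ X, X ≠ ⊥ → ∀ a ∈ S X, ∀ b ∈ S X, ∃ l : Q →* ℂˣ, b = lc l * a
  unit : ∀ X, X ≠ ⊥ → ∀ a ∈ S X, ∀ v, a v * conj (a v) = 1
  one : ∀ X, X ≠ ⊥ → ∀ a ∈ S X, a 1 = 1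
  cen : ∀ X, X ≠ ⊥ → ∀ a ∈ S X, ∀ x ∈ X, ∀ v, a (x * v) = a x * a v
  gen : ∀ X, X ≠ ⊥ → ∀ a ∈ S X, (fun v => (m (X ⊔ Subgroup.zpowers v) : ℂ) * a v) ∈ GR Q
  loc : ∀ X, X ≠ ⊥ → ∀ a ∈ S X, ∀ v, ∃ r ∈ GR Q, ∀ w, Subgroup.zpowers w = Subgroup.zpowers v →
    a w = r w

variable {p : ℕ} {m : Subgroup Q → ℤ} {S : Subgroup Q → Set (Q → ℂ)}

theorem lt_sup_zpowers {X : Subgroup Q} {v : Q} (hv : v ∉ X) : X < X ⊔ Subgroup.zpowers v := by
  refine lt_of_le_of_ne le_sup_left fun h => hv ?_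
  rw [h]
  exact le_sup_right (a := X) (Subgroup.mem_zpowers v)

theorem sup_zpowers_of_mem {X : Subgroup Q} {v : Q} (hv : v ∈ X) : X ⊔ Subgroup.zpowers v = X :=
  sup_eq_left.2 (by rw [Subgroup.zpowers_le]; exact hv)

theorem sup_zpowers_mul {X : Subgroup Q} {x v : Q} (hx : x ∈ X) :
    X ⊔ Subgroup.zpowers (x * v) = X ⊔ Subgroup.zpowers v := by
  apply le_antisymm
  · refine sup_le le_sup_left ?_
    rw [Subgroup.zpowers_le]
    exact Subgroup.mul_mem _ (le_sup_left (a := X) hx) (le_sup_right (a := X) (Subgroup.mem_zpowers v))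
  · refine sup_le le_sup_left ?_
    rw [Subgroup.zpowers_le]
    have h := Subgroup.mul_mem (X ⊔ Subgroup.zpowers (x * v))
      (Subgroup.inv_mem _ (le_sup_left (a := X) hx))
      (le_sup_right (a := X) (Subgroup.mem_zpowers (x * v)))
    rwa [inv_mul_cancel_left] at h

theorem sup_ne_bot {X : Subgroup Q} {v : Q} (hv : v ∉ X) : X ⊔ Subgroup.zpowers v ≠ ⊥ := by
  intro h
  apply hv
  have h1 : v ∈ X ⊔ Subgroup.zpowers v := le_sup_right (a := X) (Subgroup.mem_zpowers v)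
  rw [h, Subgroup.mem_bot] at h1
  rw [h1]; exact X.one_mem

theorem index_lt {X Y : Subgroup Q} (h : X < Y) : Y.index < X.index := by
  have h1 := X.card_mul_index
  have h2 := Y.card_mul_index
  have h3 : Nat.card X < Nat.card Y :=
    lt_of_le_of_ne (Subgroup.card_le_of_le h.le) fun hc =>
      h.ne (Subgroup.eq_of_le_of_card_ge h.le hc.ge)
  have h4 : 0 < Nat.card Q := Nat.card_pos
  by_contra hcon
  push Not at hcon
  have h5 : 0 < Y.index := by
    rcases Nat.eq_zero_or_pos Y.index with h | h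
    · rw [h, mul_zero] at h2; omega
    · exact h
  have h6 : Nat.card X * X.index < Nat.card Y * Y.index := by
    calc Nat.card X * X.index ≤ Nat.card X * Y.index := Nat.mul_le_mul_left _ hcon
      _ < _ := Nat.mul_lt_mul_of_pos_right h3 h5
  omega

theorem IsSys.isIntegral (hs : IsSys p m S) {X : Subgroup Q} (hX : X ≠ ⊥) {a : Q → ℂ}
    (ha : a ∈ S X) (v : Q) : IsIntegral ℤ (a v) := by
  obtain ⟨r, hr, h⟩ := hs.loc X hX a ha v
  rw [h v rfl]
  exact GR_isIntegral hr v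

theorem isIntegral_conj {z : ℂ} (h : IsIntegral ℤ z) : IsIntegral ℤ (conj z) :=
  h.map (starRingEnd ℂ).toIntAlgHom

/-- `p` does not divide `m X` -/
theorem IsSys.not_dvd (hs : IsSys p m S) (hp : p.Prime) {a : ℕ} (hQ : Nat.card Q = p ^ a)
    (X : Subgroup Q) (hX : X ≠ ⊥) : ¬ (p : ℤ) ∣ m X := by
  induction hn : X.index using Nat.strong_induction_on generalizing X with
  | _ n ih =>
  by_cases htop : X = ⊤
  · rw [htop]; exact hs.top
  · obtain ⟨v, hv⟩ : ∃ v, v ∉ X := by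
      by_contra hcon
      push Not at hcon
      exact htop (eq_top_iff.2 fun x _ => hcon x)
    have h1 := ih _ (by rw [← hn]; exact index_lt (lt_sup_zpowers hv)) (X ⊔ Subgroup.zpowers v)
      (sup_ne_bot hv) rfl
    obtain ⟨b, hb⟩ := hs.ne X hX
    have hg := hs.gen X hX b hb
    have h2 := GR_one_dvd_iff hp hQ hg (n := m X) (v := v) (m := m (X ⊔ Subgroup.zpowers v))
      (b := b v) (c := conj (b v)) (by
        rw [sup_zpowers_of_mem X.one_mem, hs.one X hX b hb, mul_one]) rfl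
      (hs.isIntegral hX hb v) (isIntegral_conj (hs.isIntegral hX hb v)) (hs.unit X hX b hb v)
    rw [h2]; exact h1

/-- the sign `ω` is adapted to `X` -/
def Good (S : Subgroup Q → Set (Q → ℂ)) (ω : Subgroup Q → ℤ) (X : Subgroup Q) : Prop :=
  ∃ a ∈ S X, ∀ v, a v = (ω X : ℂ) * (ω (X ⊔ Subgroup.zpowers v) : ℂ)

theorem sq_sign {ω : Subgroup Q → ℤ} (hω : ∀ X, ω X = 1 ∨ ω X = -1) (X : Subgroup Q) :
    (ω X : ℂ) * (ω X : ℂ) = 1 := by
  rcases hω X with h | h <;> rw [h] <;> norm_num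

open Classical in
theorem int_of_good [Fintype Q] (hs : IsSys p m S) (hp : p.Prime) {e : ℕ}
    (hQ : Nat.card Q = p ^ e) {ω : Subgroup Q → ℤ} (hω : ∀ X, ω X = 1 ∨ ω X = -1)
    {X : Subgroup Q} (hX : X ≠ ⊤) (hgood : ∀ Y, X < Y → Good S ω Y) {f0 : Q → ℂ}
    (hgen : ∃ h ∈ GR Q, ∀ v, v ∉ X → h v = (m (X ⊔ Subgroup.zpowers v) : ℂ) * f0 v)
    (hloc : ∀ v, v ∉ X → ∃ r ∈ GR Q, ∀ w, Subgroup.zpowers w = Subgroup.zpowers v → f0 w = r w)
    {l : Q →* ℂˣ} (hl : ∀ x ∈ X, l x = 1) :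
    ∃ z : ℤ, (Nat.card Q : ℂ)⁻¹ * ∑ v : Q, (if v ∈ X then 0 else
      (ω (X ⊔ Subgroup.zpowers v) : ℂ) * f0 v * (1 - lc l v)) = z := by
  obtain ⟨h, hh, hhv⟩ := hgen
  obtain ⟨v0, hv0⟩ : ∃ v, v ∉ X := by
    by_contra hcon
    push Not at hcon
    exact hX (eq_top_iff.2 fun x _ => hcon x)
  obtain ⟨Gf, hGf⟩ : ∃ Gf : Q → ℂ, Gf = fun v =>
    -∑ T ∈ (Finset.univ.filter (fun w : Q => w ∉ X)).powerset.erase ∅,
      (-1 : ℂ) ^ T.card * ((ω (X ⊔ Subgroup.closure (T : Set Q) ⊔ Subgroup.zpowers v) : ℂ) *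
        (m (X ⊔ Subgroup.closure (T : Set Q) ⊔ Subgroup.zpowers v) : ℂ)) := ⟨_, rfl⟩
  have hGmem : Gf ∈ GR Q := by
    have h1 : Gf = -∑ T ∈ (Finset.univ.filter (fun w : Q => w ∉ X)).powerset.erase ∅,
      (-1 : Q → ℂ) ^ T.card * (fun v =>
        (ω (X ⊔ Subgroup.closure (T : Set Q) ⊔ Subgroup.zpowers v) : ℂ) *
        (m (X ⊔ Subgroup.closure (T : Set Q) ⊔ Subgroup.zpowers v) : ℂ)) := by
      rw [hGf]
      funext v
      simp only [Pi.neg_apply, Finset.sum_apply, Pi.mul_apply, Pi.pow_apply, Pi.one_apply]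
    rw [h1]
    refine neg_mem (sum_mem fun T hT => mul_mem (pow_mem (neg_mem (one_mem _)) _) ?_)
    rw [Finset.mem_erase, Finset.mem_powerset] at hT
    obtain ⟨w, hw⟩ := Finset.nonempty_iff_ne_empty.2 hT.1
    have hwX : w ∉ X := (Finset.mem_filter.1 (hT.2 hw)).2
    have hlt : X < X ⊔ Subgroup.closure (T : Set Q) := by
      refine lt_of_le_of_ne le_sup_left fun heq => hwX ?_
      rw [heq]
      exact le_sup_right (a := X) (Subgroup.subset_closure hw)
    obtain ⟨b, hb, hbv⟩ := hgood _ hlt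
    have hbot : X ⊔ Subgroup.closure (T : Set Q) ≠ ⊥ := fun h0 => not_lt_bot (h0 ▸ hlt)
    have h2 := hs.gen _ hbot b hb
    obtain ⟨A, hA⟩ : ∃ A, A = X ⊔ Subgroup.closure (T : Set Q) := ⟨_, rfl⟩
    rw [← hA] at h2 hbv ⊢
    have h3 : (fun v => (ω (A ⊔ Subgroup.zpowers v) : ℂ) * (m (A ⊔ Subgroup.zpowers v) : ℂ)) =
        ((ω A : ℤ) : Q → ℂ) * fun v => (m (A ⊔ Subgroup.zpowers v) : ℂ) * b v := by
      funext v
      simp only [Pi.mul_apply, Pi.intCast_apply]
      rw [hbv v]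
      linear_combination -((ω (A ⊔ Subgroup.zpowers v) : ℂ) * (m (A ⊔ Subgroup.zpowers v) : ℂ)) *
        sq_sign hω A
    rw [h3]
    exact mul_mem (intCast_mem _ _) h2
  have hGv : ∀ v, v ∉ X → Gf v = (ω (X ⊔ Subgroup.zpowers v) : ℂ) *
      (m (X ⊔ Subgroup.zpowers v) : ℂ) := by
    intro v hv
    have h1 := glue X (fun Y => (ω Y : ℂ) * (m Y : ℂ)) hv
    rw [← Finset.add_sum_erase _ _ (Finset.empty_mem_powerset _), Finset.card_empty, pow_zero,
      one_mul, Finset.coe_empty, Subgroup.closure_empty, sup_bot_eq] at h1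
    rw [hGf]
    simp only
    linear_combination -h1
  obtain ⟨n, hn⟩ := GR_apply_one hGmem
  have hnd : ¬ (p : ℤ) ∣ n := by
    have h1 := GR_one_dvd_iff hp hQ hGmem hn (v := v0)
      (m := ω (X ⊔ Subgroup.zpowers v0) * m (X ⊔ Subgroup.zpowers v0)) (b := 1) (c := 1)
      (by rw [hGv v0 hv0]; push_cast; ring) isIntegral_one isIntegral_one (by norm_num)
    rw [h1]
    have h2 := hs.not_dvd hp hQ _ (sup_ne_bot hv0)
    intro h3
    apply h2
    rcases hω (X ⊔ Subgroup.zpowers v0) with h4 | h4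
    · rwa [h4, one_mul] at h3
    · rw [h4, neg_one_mul, dvd_neg] at h3; exact h3
  refine division hp hQ X hGmem hh hn hnd (f := fun v => (ω (X ⊔ Subgroup.zpowers v) : ℂ) * f0 v)
    (fun v hv => ?_) (fun l' => ?_) hl
  · rw [hGv v hv, hhv v hv]
    linear_combination (m (X ⊔ Subgroup.zpowers v) : ℂ) * f0 v *
      sq_sign hω (X ⊔ Subgroup.zpowers v)
  · -- integrality
    have := Fintype.ofFinite (Subgroup Q)
    have h1 : ∀ v : Q, (if v ∈ X then (0 : ℂ) else
        (ω (X ⊔ Subgroup.zpowers v) : ℂ) * f0 v * lc l' v) = ∑ Z : Subgroup Q,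
        if Subgroup.zpowers v = Z then (if v ∈ X then (0 : ℂ) else
        (ω (X ⊔ Subgroup.zpowers v) : ℂ) * f0 v * lc l' v) else 0 := by
      intro v
      rw [Finset.sum_ite_eq Finset.univ (Subgroup.zpowers v), if_pos (Finset.mem_univ _)]
    rw [Finset.sum_congr rfl fun v _ => h1 v, Finset.sum_comm]
    have h2 : ∀ Z : Subgroup Q, ∃ z : ℤ, ∑ v : Q, (if Subgroup.zpowers v = Z then
        (if v ∈ X then (0 : ℂ) else
        (ω (X ⊔ Subgroup.zpowers v) : ℂ) * f0 v * lc l' v) else 0) = z := by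
      intro Z
      by_cases hex : ∃ v1, Subgroup.zpowers v1 = Z ∧ v1 ∉ X
      · obtain ⟨v1, rfl, hv1⟩ := hex
        obtain ⟨r, hr, hrw⟩ := hloc v1 hv1
        obtain ⟨z, hz⟩ := sum_gen (mul_mem hr (lc_mem l')) (Subgroup.zpowers v1)
        refine ⟨ω (X ⊔ Subgroup.zpowers v1) * z, ?_⟩
        push_cast
        rw [← hz, Finset.mul_sum]
        refine Finset.sum_congr rfl fun v _ => ?_
        by_cases hv : Subgroup.zpowers v = Subgroup.zpowers v1
        · have hvX : v ∉ X := by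
            intro h0
            apply hv1
            have : Subgroup.zpowers v ≤ X := by rw [Subgroup.zpowers_le]; exact h0
            rw [hv, Subgroup.zpowers_le] at this
            exact this
          rw [if_pos hv, if_pos hv, if_neg hvX, hrw v hv, hv]
          simp only [Pi.mul_apply]
          ring
        · rw [if_neg hv, if_neg hv, mul_zero]
      · push Not at hex
        refine ⟨0, ?_⟩
        rw [Int.cast_zero]
        refine Finset.sum_eq_zero fun v _ => ?_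
        by_cases hv : Subgroup.zpowers v = Z
        · rw [if_pos hv, if_pos (hex v hv)]
        · rw [if_neg hv]
    choose z hz using h2
    exact ⟨∑ Z : Subgroup Q, z Z, by
      push_cast
      exact Finset.sum_congr rfl fun Z _ => hz Z⟩

end sys

end Cfsg.Agent.AbFree
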