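import Cfsg.Agent.AbFree.Top

/-!
# The sign system of a block with abelian defect group (owner: helper78)
-/

set_option autoImplicit false
set_option linter.unusedSectionVars false
set_option linter.style.haveILetI false

universe u

namespace Cfsg.Agent.AbFree

open scoped ComplexConjugate
open MonoidAlgebra Cfsg Cfsg.Agent.Blk Cfsg.Agent.BlkF Cfsg.Agent.CharBase Cfsg.Agent.BlkC
  Cfsg.Agent.Star Cfsg.Agent.Cyc

section up

variable {G : Type u} [Group G] {P : Subgroup G}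

theorem up_top : (⊤ : Subgroup P).map P.subtype = P := by
  rw [← MonoidHom.range_eq_map, Subgroup.range_subtype]

theorem up_bot : (⊥ : Subgroup P).map P.subtype = ⊥ := Subgroup.map_bot _

theorem up_ne_bot {X : Subgroup P} (hX : X ≠ ⊥) : X.map P.subtype ≠ ⊥ := by
  intro h
  exact hX ((Subgroup.map_eq_bot_iff_of_injective X P.subtype_injective).1 h)

theorem up_sup (X : Subgroup P) (v : P) :
    (X ⊔ Subgroup.zpowers v).map P.subtype = X.map P.subtype ⊔ Subgroup.zpowers (v : G) := by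
  rw [Subgroup.map_sup, MonoidHom.map_zpowers]; rfl

theorem up_zpowers (v : P) :
    (Subgroup.zpowers v).map P.subtype = Subgroup.zpowers (v : G) := by
  rw [MonoidHom.map_zpowers]; rfl

theorem sup_ne_bot_left {X Y : Subgroup G} (hX : X ≠ ⊥) : X ⊔ Y ≠ ⊥ :=
  fun h => hX (le_bot_iff.1 (h ▸ le_sup_left))

end up

/-- the local coefficient functions -/
def SX {G : Type u} [Group G] [Fintype G] (p : ℕ) [Fact p.Prime] (M : Ideal AlgInt) [M.IsPrime]
    (P : Subgroup G) (e : MonoidAlgebra (kM M) G)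
    (th : ∀ Y : Subgroup G, IrrCharacter (Subgroup.centralizer (Y : Set G)))
    (X : Subgroup P) : Set (P → ℂ) :=
  {a | ∃ ξ : IrrCharacter (Subgroup.centralizer ((X.map P.subtype : Subgroup G) : Set G)),
    MLe p (X.map P.subtype) (EB M _ (blockOf M ξ.1)) P e ∧
    ∀ v : P, a v = av p P th (X.map P.subtype) v
      (xt (Subgroup.centralizer ((X.map P.subtype : Subgroup G) : Set G)) ξ.1)}

section

variable {p : ℕ} [hp : Fact p.Prime] {M : Ideal AlgInt} [hMp : M.IsPrime]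
  {G : Type u} [Group G] [Fintype G] {P : Subgroup G} {e : MonoidAlgebra (kM M) G}

theorem exists_sys (c : Ctx p M P e) (hP : P ≠ ⊥)
    {th : ∀ Y : Subgroup G, IrrCharacter (Subgroup.centralizer (Y : Set G))}
    (hth : Fam p M P e th) :
    ∃ (i : MonoidAlgebra (kM M) G) (m : Subgroup P → ℤ), Src P e i ∧
      (∀ X : Subgroup P, tv M (th (X.map P.subtype)).1 1
        (Blk.res (Subgroup.centralizer ((X.map P.subtype : Subgroup G) : Set G)) i) = (m X : ℂ)) ∧
      IsSys p m (SX p M P e th) := by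
  classical
  haveI := charP_kM c.hM
  have hPp := c.max.1.isPGroup
  have hlP := hth P le_rfl
  obtain ⟨i, hi, hnd⟩ := exists_src c hP (th P) (hlP.eq_of_eq c.max.1)
  choose m hm using fun X : Subgroup P => exists_mc hPp hi.prim.fixed hi.prim.idem
    (Subgroup.map_subtype_le X) (th (X.map P.subtype))
  refine ⟨i, fun X => (m X : ℤ), hi, fun X => by rw [hm X]; push_cast; rfl, ?_⟩
  have hblk : ∀ {Y : Subgroup G} {ξ ψ : IrrCharacter (Subgroup.centralizer (Y : Set G))},
      ψ ∈ blockOf M ξ.1 → blockOf M ψ.1 = blockOf M ξ.1 := by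
    intro Y ξ ψ h
    haveI : Fintype (Subgroup.centralizer (Y : Set G)) := Fintype.ofFinite _
    exact (eq_blockOf_of_mem (isPBlock_blockOf ξ) h).symm
  refine ⟨?_, ?_, ?_, ?_, ?_, ?_, ?_, ?_, ?_⟩
  · -- top
    intro hdvd
    refine hnd (m ⊤) ?_ (by exact_mod_cast hdvd)
    have h1 := hm ⊤
    rw [up_top] at h1
    exact h1
  · -- ne
    intro X _
    exact ⟨_, th (X.map P.subtype), hth _ (Subgroup.map_subtype_le X), fun v => rfl⟩
  · -- tw
    rintro X hX a ⟨ξ, hξ, ha⟩ l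
    obtain ⟨ψ, hψ, hl⟩ := av_lstar c hth (Subgroup.map_subtype_le X) (up_ne_bot hX) l hξ
    refine ⟨ψ, by rw [hblk hψ]; exact hξ, fun v => ?_⟩
    rw [hl v v.2, Pi.mul_apply, ha v]
    rfl
  · -- diff
    rintro X hX a ⟨ξ, hξ, ha⟩ b ⟨ψ, hψ, hb⟩
    have h1 := c.unique (isPBlock_blockOf ξ) (isPBlock_blockOf ψ) hξ hψ
    haveI : Fintype (Subgroup.centralizer ((X.map P.subtype : Subgroup G) : Set G)) :=
      Fintype.ofFinite _
    obtain ⟨l, hl⟩ := av_diff c hth (Subgroup.map_subtype_le X) (up_ne_bot hX) hξ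
      (ψ := ψ) (by rw [h1]; exact mem_blockOf_self ψ)
    refine ⟨l, ?_⟩
    funext v
    rw [hb v, hl v v.2, Pi.mul_apply, ha v]
    rfl
  · -- unit
    rintro X hX a ⟨ξ, hξ, ha⟩ v
    rw [ha v]
    exact av_unit c hth (Subgroup.map_subtype_le X) (up_ne_bot hX) hξ v.2
  · -- one
    rintro X hX a ⟨ξ, hξ, ha⟩
    rw [ha 1]
    exact av_one c hth (Subgroup.map_subtype_le X) (up_ne_bot hX) hξ
  · -- cen
    rintro X hX a ⟨ξ, hξ, ha⟩ x hx v
    rw [ha, ha, ha, Subgroup.coe_mul]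
    exact av_cen c hth (Subgroup.map_subtype_le X) (up_ne_bot hX) hξ ⟨x, hx, rfl⟩ v.2
  · -- gen
    rintro X hX a ⟨ξ, hξ, ha⟩
    obtain ⟨h, hh, hv⟩ := exists_gen c hth hi (Subgroup.map_subtype_le X) ξ
    have h1 : (fun v : P => (((m (X ⊔ Subgroup.zpowers v) : ℕ) : ℤ) : ℂ) * a v) = h := by
      funext v
      rw [hv v (sup_ne_bot_left (up_ne_bot hX)), ha v]
      have h2 := hm (X ⊔ Subgroup.zpowers v)
      rw [up_sup] at h2
      rw [h2]
      push_cast
      rfl
    rw [h1]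
    exact hh
  · -- loc
    rintro X hX a ⟨ξ, hξ, ha⟩ v
    obtain ⟨r, hr, h⟩ := exists_agree c hth (X := X ⊔ Subgroup.zpowers v)
      (up_ne_bot (sup_ne_bot_left hX)) (Y := X.map P.subtype)
      (Subgroup.map_mono le_sup_left) ξ
    refine ⟨r, hr, fun w hw => ?_⟩
    rw [ha w, h w]
    rw [← up_sup, hw]

end

end Cfsg.Agent.AbFree
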