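import Cfsg.Agent.AbFree.LocC

/-!
# A source idempotent of multiplicity prime to `p` (owner: helper78)
-/

set_option autoImplicit false
set_option linter.unusedSectionVars false
set_option linter.style.haveILetI false

universe u

namespace Cfsg.Agent.AbFree

open scoped ComplexConjugate
open MonoidAlgebra Cfsg Cfsg.Agent.Blk Cfsg.Agent.BlkF Cfsg.Agent.CharBase Cfsg.Agent.BlkC
  Cfsg.Agent.Star Cfsg.Agent.Cyc

section

variable {p : ℕ} [hp : Fact p.Prime] {M : Ideal AlgInt} [hMp : M.IsPrime]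

theorem exists_reg_ne {C : Type u} [Group C] [Fintype C] {b : Set (IrrCharacter C)}
    {θ : IrrCharacter C} {n : ℕ} (hM : IsPModular p M) (h : LocDat p M b θ n)
    (hd : MemLocalRing M (θ.1 1 * (Nat.card C : ℂ)⁻¹ * n)) :
    ∃ g : C, ¬ p ∣ orderOf g ∧ ¬ MemLocalIdeal M (θ.1 g) := by
  classical
  by_contra hcon
  push Not at hcon
  apply (isBlk_eB h.blk).ne_zero
  apply Blk.ga_ext; intro g
  have h0 : (0 : MonoidAlgebra (kM M) C).coeff g = 0 := rfl
  rw [h0, eB, redc_coeff, rd_eq_zero_iff (mlr_blockCoeff h.blk g)]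
  by_cases hg : p ∣ orderOf g
  · rw [blockCoeff_eq_zero_of_dvd hM h.blk hg]; exact mli_zero
  · have hg' : ¬ p ∣ orderOf g⁻¹ := by rw [orderOf_inv]; exact hg
    have h1 : blockCoeff b g = (θ.1 1 * (Nat.card C : ℂ)⁻¹ * n) * θ.1 g⁻¹ := by
      rw [blockCoeff_eq_Bfin, Finset.sum_congr rfl fun χ hχ => by
        rw [h.reg χ (mem_Bfin.1 hχ) 1 one_reg, ← irr_inv, h.reg χ (mem_Bfin.1 hχ) g⁻¹ hg'],
        Finset.sum_const, nsmul_eq_mul, ← natCard_eq_Bfin, h.card]
      ring
    rw [h1]
    exact mli_mul_left hd (hcon _ hg')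

theorem comm_zpowers {C : Type u} [Group C] (g : C) (a b : Subgroup.zpowers g) :
    a * b = b * a := by
  obtain ⟨a, i, rfl⟩ := a
  obtain ⟨b, j, rfl⟩ := b
  apply Subtype.ext
  change g ^ i * g ^ j = g ^ j * g ^ i
  rw [← zpow_add, ← zpow_add, add_comm]

theorem res_zero' {k : Type*} [Field k] {G : Type u} [Group G] [Finite G] (H : Subgroup G) :
    Blk.res H (0 : MonoidAlgebra k G) = 0 := by
  apply Blk.ga_ext; intro x
  rfl

theorem res_add' {k : Type*} [Field k] {G : Type u} [Group G] [Finite G] (H : Subgroup G)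
    (x y : MonoidAlgebra k G) : Blk.res H (x + y) = Blk.res H x + Blk.res H y := by
  apply Blk.ga_ext; intro g
  have h1 : (Blk.res H (x + y)).coeff g = (x + y).coeff (g : G) := rfl
  have h2 : (Blk.res H x).coeff g = x.coeff (g : G) := rfl
  have h3 : (Blk.res H y).coeff g = y.coeff (g : G) := rfl
  rw [h1, coeff_add, coeff_add, Finsupp.add_apply, Finsupp.add_apply, h2, h3]

/-- multiplicities in a cyclic `p'`-subgroup through `lid` -/
theorem sum_lid {C : Type u} [Group C] [Fintype C] (θ : C → ℂ) (g : C)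
    [Fintype (Subgroup.zpowers g)] [Fintype (Subgroup.zpowers g →* ℂˣ)] :
    θ g = ∑ l : Subgroup.zpowers g →* ℂˣ,
      Tc θ (lid (Subgroup.zpowers g) ((Units.coeHom ℂ).comp l)) *
        ((l⁻¹ ⟨g, Subgroup.mem_zpowers g⟩ : ℂˣ) : ℂ) := by
  classical
  have hcomm : ∀ a b : Subgroup.zpowers g, a * b = b * a := comm_zpowers g
  have hS : (Nat.card (Subgroup.zpowers g) : ℂ) ≠ 0 := by exact_mod_cast Nat.card_pos.ne'
  have h1 : ∀ l : Subgroup.zpowers g →* ℂˣ,
      Tc θ (lid (Subgroup.zpowers g) ((Units.coeHom ℂ).comp l)) =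
        (Nat.card (Subgroup.zpowers g) : ℂ)⁻¹ * ∑ s : Subgroup.zpowers g, ((l s : ℂˣ) : ℂ) * θ s := by
    intro l
    rw [lid, Tc_sum, Finset.mul_sum]
    refine Finset.sum_congr rfl fun s _ => ?_
    rw [Tc_single]
    change (Nat.card (Subgroup.zpowers g) : ℂ)⁻¹ * ((l s : ℂˣ) : ℂ) * θ s = _
    ring
  have h2 : ∀ s : Subgroup.zpowers g, ∑ l : Subgroup.zpowers g →* ℂˣ, ((l s : ℂˣ) : ℂ) *
      ((l⁻¹ ⟨g, Subgroup.mem_zpowers g⟩ : ℂˣ) : ℂ) =
      if s = ⟨g, Subgroup.mem_zpowers g⟩ then (Nat.card (Subgroup.zpowers g) : ℂ) else 0 := by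
    intro s
    have h3 := sum_dual hcomm (s * (⟨g, Subgroup.mem_zpowers g⟩ : Subgroup.zpowers g)⁻¹)
    have h4 : (s * (⟨g, Subgroup.mem_zpowers g⟩ : Subgroup.zpowers g)⁻¹ = 1) ↔
        s = ⟨g, Subgroup.mem_zpowers g⟩ := mul_inv_eq_one
    have h3' : ∑ l : Subgroup.zpowers g →* ℂˣ, ((l s : ℂˣ) : ℂ) *
      ((l⁻¹ ⟨g, Subgroup.mem_zpowers g⟩ : ℂˣ) : ℂ) = ∑ l : Subgroup.zpowers g →* ℂˣ,
        ((l (s * (⟨g, Subgroup.mem_zpowers g⟩ : Subgroup.zpowers g)⁻¹) : ℂˣ) : ℂ) := by
      refine Finset.sum_congr rfl fun l _ => ?_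
      rw [map_mul, Units.val_mul, map_inv, MonoidHom.inv_apply]
    rw [h3', h3]
    by_cases h5 : s = ⟨g, Subgroup.mem_zpowers g⟩
    · rw [if_pos h5, if_pos (h4.2 h5)]
    · rw [if_neg h5, if_neg (fun h => h5 (h4.1 h))]
  rw [Finset.sum_congr rfl fun l _ => by rw [h1 l, mul_assoc, Finset.sum_mul], ← Finset.mul_sum,
    Finset.sum_comm]
  have h5 : ∀ s : Subgroup.zpowers g, ∑ l : Subgroup.zpowers g →* ℂˣ,
      ((l s : ℂˣ) : ℂ) * θ s * ((l⁻¹ ⟨g, Subgroup.mem_zpowers g⟩ : ℂˣ) : ℂ) =
      if s = ⟨g, Subgroup.mem_zpowers g⟩ then (Nat.card (Subgroup.zpowers g) : ℂ) * θ g else 0 := by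
    intro s
    have h6 : ∀ l : Subgroup.zpowers g →* ℂˣ,
        ((l s : ℂˣ) : ℂ) * θ s * ((l⁻¹ ⟨g, Subgroup.mem_zpowers g⟩ : ℂˣ) : ℂ) =
        θ s * (((l s : ℂˣ) : ℂ) * ((l⁻¹ ⟨g, Subgroup.mem_zpowers g⟩ : ℂˣ) : ℂ)) := fun l => by ring
    rw [Finset.sum_congr rfl fun l _ => h6 l, ← Finset.mul_sum, h2]
    by_cases hs : s = ⟨g, Subgroup.mem_zpowers g⟩
    · rw [if_pos hs, if_pos hs, hs, mul_comm]
    · rw [if_neg hs, if_neg hs, mul_zero]
  rw [Finset.sum_congr rfl fun s _ => h5 s, Finset.sum_ite_eq' Finset.univ, if_pos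
    (Finset.mem_univ _), ← mul_assoc, inv_mul_cancel₀ hS, one_mul]

variable {G : Type u} [Group G] [Fintype G] {P : Subgroup G} {e : MonoidAlgebra (kM M) G}

theorem exists_src (c : Ctx p M P e) (hP : P ≠ ⊥)
    (θ : IrrCharacter (Subgroup.centralizer (P : Set G)))
    (hθ : EB M _ (blockOf M θ.1) = e) :
    ∃ i, Src P e i ∧ ∀ n : ℕ, tv M θ.1 1 (res (Subgroup.centralizer (P : Set G)) i) = n →
      ¬ p ∣ n := by
  classical
  haveI := charP_kM c.hM
  haveI : Fintype (Subgroup.centralizer (P : Set G)) := Fintype.ofFinite _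
  have hPp := c.max.1.isPGroup
  by_contra hcon
  push Not at hcon
  have hPe := c.max.1
  have hle : MLe p P (EB M _ (blockOf M θ.1)) P e := by rw [hθ]; exact Relation.ReflTransGen.refl
  have hloc := c.locDat hP (isPBlock_blockOf θ) hle (mem_blockOf_self θ)
  obtain ⟨k2, k1, k3, hn, S, hcard⟩ := c.nil hP (isPBlock_blockOf θ) hle
  obtain ⟨hh, -⟩ := nilp_abelian c.hM (isPBlock_blockOf θ) k2 k1 k3 hn S.comm
  have hdeg := S.mlr_degree (mem_blockOf_self θ) (hh _ (mem_blockOf_self θ))
  rw [hcard] at hdeg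
  obtain ⟨g, hg, hgM⟩ := exists_reg_ne c.hM hloc hdeg
  apply hgM
  -- divisibility of `μ`
  have hmu : ∀ j : MonoidAlgebra (kM M) G, Fixed P j → j * j = j →
      ∃ z : ℤ, tv M θ.1 1 (res (Subgroup.centralizer (P : Set G)) (e * Blk.br P j)) = (p : ℂ) * z := by
    refine idemF_induction P _ ?_ ?_ ?_
    · refine ⟨0, ?_⟩
      have h1 : res (Subgroup.centralizer (P : Set G)) (e * Blk.br P (0 : MonoidAlgebra (kM M) G)) =
          0 := by
        rw [br_zero, mul_zero, res_zero']
      rw [h1, tv_zero (irr_isClassFunction θ)]; simp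
    · intro j hj
      by_cases hbr : Blk.br P j = 0
      · refine ⟨0, ?_⟩
        have h1 : res (Subgroup.centralizer (P : Set G)) (e * Blk.br P j) = 0 := by
          rw [hbr, mul_zero, res_zero']
        rw [h1, tv_zero (irr_isClassFunction θ)]; simp
      · obtain ⟨f, hf, hfj⟩ := PrimF.exists_blk hPp hj hbr
        by_cases hfe : f = e
        · subst hfe
          obtain ⟨n, hn⟩ := exists_mc hPp hj.fixed hj.idem le_rfl θ
          obtain ⟨n', hn', hd⟩ := hcon j ⟨hj, hfj, hbr⟩
          obtain ⟨z, hz⟩ := hd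
          refine ⟨z, ?_⟩
          rw [hfj]
          have h1 : res (Subgroup.centralizer (P : Set G)) (Blk.br P j) =
              res (Subgroup.centralizer (P : Set G)) j := by
            apply Blk.ga_ext; intro x
            exact trunc_coeff_of_mem _ x.2
          rw [h1, hn', hz]
          push_cast; ring
        · refine ⟨0, ?_⟩
          have h1 : e * Blk.br P j = 0 := by
            rw [← hfj, ← mul_assoc, hPe.blk.mul_eq_zero_of_ne hf.blk (Ne.symm hfe), zero_mul]
          have h2 : res (Subgroup.centralizer (P : Set G)) (e * Blk.br P j) = 0 := by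
            rw [h1, res_zero']
          rw [h2, tv_zero (irr_isClassFunction θ)]; simp
    · intro a b ha hb haa hbb hab hba ⟨z, hz⟩ ⟨w, hw⟩
      refine ⟨z + w, ?_⟩
      have hid : ∀ a : MonoidAlgebra (kM M) G, Fixed P a → a * a = a →
          res (Subgroup.centralizer (P : Set G)) (e * Blk.br P a) *
            res (Subgroup.centralizer (P : Set G)) (e * Blk.br P a) =
          res (Subgroup.centralizer (P : Set G)) (e * Blk.br P a) := by
        intro a ha haa
        apply incl_injective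
        rw [incl_mul, incl_res (hPe.blk.supp.mul (supp_br P a)),
          blk_mul_br hPp hPe.blk ha ha, haa]
      have horth : ∀ a b : MonoidAlgebra (kM M) G, Fixed P a → Fixed P b → a * b = 0 →
          res (Subgroup.centralizer (P : Set G)) (e * Blk.br P a) *
            res (Subgroup.centralizer (P : Set G)) (e * Blk.br P b) = 0 := by
        intro a b ha hb h
        apply incl_injective
        rw [incl_mul, incl_res (hPe.blk.supp.mul (supp_br P a)),
          incl_res (hPe.blk.supp.mul (supp_br P b)), blk_mul_br hPp hPe.blk ha hb, h, br_zero,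
          mul_zero, incl_zero]
      have h1 : res (Subgroup.centralizer (P : Set G)) (e * Blk.br P (a + b)) =
          res (Subgroup.centralizer (P : Set G)) (e * Blk.br P a) +
          res (Subgroup.centralizer (P : Set G)) (e * Blk.br P b) := by
        rw [br_add, mul_add, res_add']
      have hfx : ∀ x : MonoidAlgebra (kM M) (Subgroup.centralizer (P : Set G)),
          Fixed (Subgroup.zpowers (1 : Subgroup.centralizer (P : Set G))) x := by
        intro x u hu
        rw [Subgroup.zpowers_one_eq_bot, Subgroup.mem_bot] at hu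
        rw [hu, cj_one_left]
      rw [h1, tv_add (irr_isClassFunction θ) (hfx _) (hfx _) (hid a ha haa) (hid b hb hbb)
        (horth a b ha hb hab) (horth b a hb ha hba), hz, hw]
      push_cast; ring
  -- apply to `lid`
  haveI : Fintype (Subgroup.zpowers g) := Fintype.ofFinite _
  haveI : Finite (Subgroup.zpowers g →* ℂˣ) := finite_dual (comm_zpowers g)
  haveI : Fintype (Subgroup.zpowers g →* ℂˣ) := Fintype.ofFinite _
  have hS : ¬ p ∣ Nat.card (Subgroup.zpowers g) := by rw [Nat.card_zpowers]; exact hg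
  have hkey : ∀ l : Subgroup.zpowers g →* ℂˣ, ∃ z : ℤ,
      Tc θ.1 (lid (Subgroup.zpowers g) ((Units.coeHom ℂ).comp l)) = (p : ℂ) * z := by
    intro l
    obtain ⟨L, hL⟩ : ∃ L, L = lid (Subgroup.zpowers g) ((Units.coeHom ℂ).comp l) := ⟨_, rfl⟩
    have hLl : LR M L := by rw [hL]; exact lid_lr c.hM hS _
    have hLL : L * L = L := by rw [hL]; exact lid_idem _ _
    have hjf : Fixed P (incl (Subgroup.centralizer (P : Set G)) (red M L)) :=
      (supp_incl _).fixed_of_centralizer
    have hjj : incl (Subgroup.centralizer (P : Set G)) (red M L) *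
        incl (Subgroup.centralizer (P : Set G)) (red M L) =
        incl (Subgroup.centralizer (P : Set G)) (red M L) := by
      rw [← incl_mul, ← red_mul hLl hLl, hLL]
    obtain ⟨z, hz⟩ := hmu _ hjf hjj
    refine ⟨z, ?_⟩
    rw [← hz, ← hL, br_of_supp (supp_incl _)]
    have h1 : res (Subgroup.centralizer (P : Set G)) (e * incl (Subgroup.centralizer (P : Set G))
        (red M L)) = eB M (blockOf M θ.1) * red M L := by
      apply incl_injective
      rw [incl_res (hPe.blk.supp.mul (supp_incl _)), incl_mul, ← EB_eq, hθ]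
    rw [h1]
    have hcl := isCL_blockCoeff (M := M) (isPBlock_blockOf θ)
    have hlift : IsLift M (Subgroup.zpowers (1 : Subgroup.centralizer (P : Set G)))
        (eB M (blockOf M θ.1) * red M L) (ofFun (blockCoeff (blockOf M θ.1)) * L) := by
      refine ⟨lr_mul hcl.lr hLl, ?_, ?_, ?_⟩
      · intro u hu
        rw [Subgroup.zpowers_one_eq_bot, Subgroup.mem_bot] at hu
        rw [hu, cj_one_left]
      · have h5 : ofFun (blockCoeff (blockOf M θ.1)) * L = L * ofFun (blockCoeff (blockOf M θ.1)) :=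
          mul_comm_of_fixed hcl.fixed (supp_top _)
        calc ofFun (blockCoeff (blockOf M θ.1)) * L * (ofFun (blockCoeff (blockOf M θ.1)) * L)
            = ofFun (blockCoeff (blockOf M θ.1)) * (L * ofFun (blockCoeff (blockOf M θ.1))) * L := by
              simp only [mul_assoc]
          _ = (ofFun (blockCoeff (blockOf M θ.1)) * ofFun (blockCoeff (blockOf M θ.1))) *
              (L * L) := by rw [← h5]; simp only [mul_assoc]
          _ = _ := by rw [hcl.idem, hLL]
      · rw [red_mul hcl.lr hLl, hcl.red]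
    rw [Star.tv_eq (irr_isClassFunction θ) hlift, ← one_def, one_mul,
      Tc_blockCoeff_mul _ (irr_isClassFunction θ)]
    congr 1
    funext x
    rw [blockPart_irr, if_pos (mem_blockOf_self θ)]
  rw [sum_lid θ.1 g]
  refine mli_sum _ _ fun l _ => ?_
  obtain ⟨z, hz⟩ := hkey l
  rw [hz]
  refine mli_mul_right (mli_mul_right ?_ (mlr_intCast z)) (mlr_of_isIntegral ?_)
  · rw [mli_natCast_iff c.hM]
  · exact lc_isIntegral _ _

end

end Cfsg.Agent.AbFree
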